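import Mathlib

/-!
# A large prime power dividing `q ^ r - 1`
-/

set_option autoImplicit false
set_option linter.all false

namespace CfsgLib.Perm.Trans.OrthExt.Fixed

theorem exists_ell {q r : ℕ} (hq : 3 ≤ q) (hqo : q % 2 = 1) (hr : r.Prime) (h5 : 3 ≤ r) :
    ∃ ℓ e, ℓ.Prime ∧ ℓ ≠ 2 ∧ ℓ ^ e ∣ q ^ r - 1 ∧ ¬ ℓ ^ (e + 1) ∣ q ^ r - 1 ∧ 2 * r + 2 ≤ ℓ ^ e := by
  classical
  obtain ⟨n, hn⟩ : ∃ n, n = ∑ i ∈ Finset.range r, q ^ i := ⟨_, rfl⟩
  have hmul : n * (q - 1) = q ^ r - 1 := by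
    have h := geom_sum_mul_add (q - 1) r
    rw [Nat.sub_add_cancel (by omega : 1 ≤ q)] at h
    rw [hn]
    omega
  have hnodd : n % 2 = 1 := by
    rw [hn, Finset.sum_nat_mod]
    simp only [Nat.pow_mod, hqo, one_pow, Nat.one_mod, Finset.sum_const, Finset.card_range, smul_eq_mul, mul_one]
    exact hr.eq_two_or_odd.resolve_left (by omega)
  have hN0 : q ^ r - 1 ≠ 0 := by
    have : 1 < q ^ r := Nat.one_lt_pow hr.ne_zero (by omega)
    omega
  by_contra hcon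
  push Not at hcon
  haveI := Fact.mk hr
  have hstep : ∀ ℓ, ℓ.Prime → ℓ ∣ n → ℓ = 2 * r + 1 ∧ ¬ ℓ ^ 2 ∣ n := by
    intro ℓ hℓ hdvd
    haveI := Fact.mk hℓ
    have hℓ2 : ℓ ≠ 2 := fun h => by subst h; omega
    have hlarge := hcon ℓ ((q ^ r - 1).factorization ℓ) hℓ hℓ2 (Nat.ordProj_dvd _ _)
      (Nat.pow_succ_factorization_not_dvd hN0 hℓ)
    obtain ⟨e, he⟩ : ∃ e, e = (q ^ r - 1).factorization ℓ := ⟨_, rfl⟩
    rw [← he] at hlarge
    by_cases hq1 : ((q : ZMod ℓ)) = 1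
    · exfalso
      have h1 : ((n : ℕ) : ZMod ℓ) = 0 := (ZMod.natCast_eq_zero_iff _ _).2 hdvd
      rw [hn, Nat.cast_sum] at h1
      simp only [Nat.cast_pow, hq1, one_pow, Finset.sum_const, Finset.card_range, nsmul_eq_mul, mul_one] at h1
      have h2 : ℓ = r := (Nat.prime_dvd_prime_iff_eq hℓ hr).1 ((ZMod.natCast_eq_zero_iff _ _).1 h1)
      have h3 : ℓ ∣ q - 1 := (ZMod.natCast_eq_zero_iff _ _).1 (by rw [Nat.cast_sub (by omega), hq1, Nat.cast_one, sub_self])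
      have h4 : ℓ ^ 2 ∣ q ^ r - 1 := hmul ▸ (sq ℓ ▸ Nat.mul_dvd_mul hdvd h3)
      have h5' : 2 ≤ e := he ▸ (hℓ.pow_dvd_iff_le_factorization hN0).1 h4
      have h6 : ℓ ^ 2 ≤ ℓ ^ e := Nat.pow_le_pow_right hℓ.pos h5'
      have h7 : 2 * r + 2 ≤ r ^ 2 := by rw [sq]; nlinarith
      rw [h2] at h6 hlarge
      omega
    · have hord : (q : ZMod ℓ) ^ r = 1 := by
        have h1 : ((q ^ r - 1 : ℕ) : ZMod ℓ) = 0 := (ZMod.natCast_eq_zero_iff _ _).2 (hmul ▸ hdvd.mul_right _)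
        rwa [Nat.cast_sub (Nat.one_le_pow _ _ (by omega)), Nat.cast_pow, Nat.cast_one, sub_eq_zero] at h1
      have hq0 : (q : ZMod ℓ) ≠ 0 := fun h => by
        rw [h, zero_pow hr.ne_zero] at hord
        exact zero_ne_one hord
      have ho : orderOf (q : ZMod ℓ) = r := orderOf_eq_prime hord hq1
      have hr1 : r ∣ ℓ - 1 := ho ▸ ZMod.orderOf_dvd_card_sub_one hq0
      have h2 : 2 ∣ ℓ - 1 := by
        have := hℓ.eq_two_or_odd
        omega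
      have h2r : 2 * r ∣ ℓ - 1 :=
        Nat.Coprime.mul_dvd_of_dvd_of_dvd ((Nat.coprime_primes Nat.prime_two hr).2 (by omega)) h2 hr1
      have hℓbig : 2 * r + 1 ≤ ℓ := by
        have := Nat.le_of_dvd (by have := hℓ.two_le; omega) h2r
        omega
      have h1e : 1 ≤ e := he ▸ (hℓ.dvd_iff_one_le_factorization hN0).1 (hmul ▸ hdvd.mul_right _)
      have hle : ℓ ≤ ℓ ^ e := Nat.le_self_pow (by omega) ℓ
      refine ⟨by omega, fun hsq => ?_⟩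
      have h5' : 2 ≤ e := he ▸ (hℓ.pow_dvd_iff_le_factorization hN0).1 (hmul ▸ hsq.mul_right _)
      have h6 : ℓ ^ 2 ≤ ℓ ^ e := Nat.pow_le_pow_right hℓ.pos h5'
      nlinarith
  have hdiv : n ∣ 2 * r + 1 := by
    rw [Nat.dvd_iff_prime_pow_dvd_dvd]
    intro ℓ k hℓ hk
    rcases k with _ | _ | k
    · simp
    · rw [zero_add, pow_one] at hk ⊢
      rw [(hstep ℓ hℓ hk).1]
    · obtain ⟨-, h⟩ := hstep ℓ hℓ ((dvd_pow_self ℓ (by omega)).trans hk)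
      exact absurd ((pow_dvd_pow ℓ (by omega)).trans hk) h
  have h1 := Nat.le_of_dvd (by omega) hdiv
  have h2 : q ^ (r - 1) ≤ n := hn ▸ Finset.single_le_sum (f := fun i => q ^ i) (fun i _ => Nat.zero_le _)
    (Finset.mem_range.2 (by omega))
  have h3 : 3 ^ (r - 1) ≤ q ^ (r - 1) := Nat.pow_le_pow_left hq _
  have h4 : ∀ k, 2 ≤ k → 2 * k + 3 < 3 ^ k := fun k hk => by
    induction k, hk using Nat.le_induction with
    | base => norm_num
    | succ k _ ih => rw [pow_succ]; omega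
  have := h4 (r - 1) (by omega)
  omega

end CfsgLib.Perm.Trans.OrthExt.Fixed
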