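import Mathlib

/-!
# A group with a self-centralising abelian subgroup whose invariant subgroups are controlled

By Burnside's transfer theorem a cyclic Sylow subgroup of the abelian subgroup has a normal complement; each of
its invariant Sylow subgroups lies in the abelian subgroup.
-/

set_option autoImplicit false
set_option linter.all false

namespace CfsgLib.Perm.Trans.OrthExt.Fixed

variable {G : Type*} [Group G]

/-- `a` and `b` commute up to `j` -/
def Rel (j a b : G) : Prop := a * b = b * a ∨ a * b = j * (b * a)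

/-- the data -/
structure Data (N : Subgroup G) (u j : G) (p ℓ e r : ℕ) : Prop where
  mem : u ∈ N
  prime : ℓ.Prime
  odd : ℓ ≠ 2
  ord : orderOf u = ℓ ^ e
  big : r + 2 ≤ ℓ ^ e
  four : 4 < ℓ ^ e
  p_prime : p.Prime
  p_odd : p ≠ 2
  comm : ∀ a ∈ N, ∀ b ∈ N, a * b = b * a
  sylow : ∀ t ∈ N, ∀ k : ℕ, t ^ ℓ ^ k = 1 → t ∈ Subgroup.zpowers u
  ker : ∀ t ∈ N, t * t ≠ 1 → ∀ m : G, m * t * m⁻¹ ∈ N → m ∈ N
  invol : ∀ t ∈ N, t * t = 1 → t = 1 ∨ t = j
  small : ∀ A : Subgroup G, IsPGroup p A → Nat.card A ≤ r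
  fpf : ∀ A : Subgroup G, (∀ a ∈ A, u * a * u⁻¹ ∈ A) → ¬ p ∣ Nat.card A → (∀ a ∈ A, a ∈ N → a = 1) → A = ⊥
  anti : j ≠ 1 → ∀ x x' y y' : G, Commute j x → Commute j x' → Commute j y → Commute j y' → x * x = j →
    y * y = j → x' * x = j * (x * x') → y' * y = j * (y * y') → Commute x y → Commute x y' → Commute x' y →
    Commute x' y' → False

variable [Finite G] {N : Subgroup G} {u j : G} {p ℓ e r : ℕ} (d : Data N u j p ℓ e r)
include d

omit [Finite G] in
theorem Data.free {k : ℕ} (hk : 0 < k) (hk' : k < ℓ ^ e) : u ^ k * u ^ k ≠ 1 := by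
  intro h
  rw [← pow_add, ← orderOf_dvd_iff_pow_eq_one, d.ord] at h
  have h2 : Nat.Coprime (ℓ ^ e) 2 := Nat.Coprime.pow_left _ ((Nat.coprime_primes d.prime Nat.prime_two).2 d.odd)
  have h3 : ℓ ^ e ∣ k := h2.dvd_of_dvd_mul_left (by rwa [two_mul])
  exact absurd (Nat.le_of_dvd hk h3) (not_le.2 hk')

omit [Finite G] in
theorem Data.cent {k : ℕ} (hk : 0 < k) (hk' : k < ℓ ^ e) {a : G} (h : u ^ k * a * (u ^ k)⁻¹ = a) : a ∈ N :=
  d.ker (u ^ k) (N.pow_mem d.mem k) (d.free hk hk') a (by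
    rw [← mul_inv_eq_iff_eq_mul.1 h, mul_inv_cancel_right]
    exact N.pow_mem d.mem k)

omit [Finite G] in
theorem Data.cent2 {k : ℕ} (hk : 0 < k) (hk' : k < ℓ ^ e) {a : G} (h : u ^ (k + k) * a * (u ^ (k + k))⁻¹ = a) :
    a ∈ N :=
  d.ker (u ^ (k + k)) (N.pow_mem d.mem _) (fun h2 => by
    refine d.free hk hk' ?_
    rw [← pow_add, ← orderOf_dvd_iff_pow_eq_one, d.ord] at h2 ⊢
    rw [← two_mul (k + k)] at h2
    exact (Nat.Coprime.pow_left _ ((Nat.coprime_primes d.prime Nat.prime_two).2 d.odd)).dvd_of_dvd_mul_left h2) a (by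
    rw [← mul_inv_eq_iff_eq_mul.1 h, mul_inv_cancel_right]
    exact N.pow_mem d.mem _)

omit [Finite G] d in
theorem conj_pow_mem {A : Subgroup G} (hA : ∀ a ∈ A, u * a * u⁻¹ ∈ A) (k : ℕ) {a : G} (ha : a ∈ A) :
    u ^ k * a * (u ^ k)⁻¹ ∈ A := by
  induction k with
  | zero => simpa using ha
  | succ k ih =>
    have := hA _ ih
    rwa [show u * (u ^ k * a * (u ^ k)⁻¹) * u⁻¹ = u ^ (k + 1) * a * (u ^ (k + 1))⁻¹ by
      rw [pow_succ' u k]; group] at this

/-- an invariant abelian subgroup meeting `N` in at most `{1, j}` lies in `N` -/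
theorem Data.abelian_le {A : Subgroup G} (hinv : ∀ a ∈ A, u * a * u⁻¹ ∈ A) (hp : ¬ p ∣ Nat.card A)
    (hcomm : ∀ a ∈ A, ∀ b ∈ A, a * b = b * a) (hD : ∀ a ∈ A, a ∈ N → a = 1 ∨ a = j) (hj : j * j = 1) (hju : u * j = j * u) :
    A ≤ N := by
  let φ : A →* A := MonoidHom.mk' (fun a => ⟨(a : G) * (u * (a : G)⁻¹ * u⁻¹),
    A.mul_mem a.2 (hinv _ (A.inv_mem a.2))⟩) fun a b => Subtype.ext (by
      show ((a * b : A) : G) * (u * ((a * b : A) : G)⁻¹ * u⁻¹) =
        (a : G) * (u * (a : G)⁻¹ * u⁻¹) * ((b : G) * (u * (b : G)⁻¹ * u⁻¹))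
      have h1 := hcomm _ (hinv _ (A.inv_mem a.2)) _ (A.mul_mem b.2 (hinv _ (A.inv_mem b.2)))
      rw [Subgroup.coe_mul, mul_assoc (a : G) (u * (a : G)⁻¹ * u⁻¹), h1]
      group)
  obtain ⟨A', hA'⟩ : ∃ A', A' = φ.range.map A.subtype := ⟨_, rfl⟩
  have hval : ∀ a : A, ((φ a : A) : G) = (a : G) * (u * (a : G)⁻¹ * u⁻¹) := fun a => rfl
  have h0 : A' = ⊥ := d.fpf A' (fun x hx => ?_) (fun h => hp (h.trans ?_)) fun x hx hxN => ?_
  · intro a ha
    have h1 : ((φ ⟨a, ha⟩ : A) : G) ∈ A' := hA' ▸ ⟨φ ⟨a, ha⟩, ⟨_, rfl⟩, rfl⟩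
    rw [h0, Subgroup.mem_bot, hval, mul_eq_one_iff_eq_inv] at h1
    refine d.cent (k := 1) Nat.one_pos (by have := d.four; omega) ?_
    rw [pow_one]
    change a = (u * a⁻¹ * u⁻¹)⁻¹ at h1
    conv_rhs => rw [h1]
    group
  · subst hA'
    obtain ⟨y, ⟨a, rfl⟩, rfl⟩ := hx
    refine ⟨φ ⟨_, hinv _ a.2⟩, ⟨_, rfl⟩, ?_⟩
    show ((φ _ : A) : G) = u * ((φ a : A) : G) * u⁻¹
    rw [hval, hval]
    group
  · rw [hA']
    exact Subgroup.card_dvd_of_le (Subgroup.map_subtype_le _)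
  · subst hA'
    obtain ⟨y, ⟨a, rfl⟩, rfl⟩ := hx
    rcases hD _ (φ a).2 hxN with h | h
    · exact h
    · rw [hval] at h
      have e1 : u * (a : G) * u⁻¹ = j⁻¹ * a := by rw [← h]; group
      have hji : j⁻¹ = j := inv_eq_of_mul_eq_one_right hj
      rw [hji] at e1
      have e2 : u ^ 2 * (a : G) * (u ^ 2)⁻¹ = a := by
        calc u ^ 2 * (a : G) * (u ^ 2)⁻¹ = u * (u * (a : G) * u⁻¹) * u⁻¹ := by rw [sq]; group
          _ = u * (j * a) * u⁻¹ := by rw [e1]
          _ = j * (u * (a : G) * u⁻¹) := by rw [← mul_assoc u, hju]; group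
          _ = a := by rw [e1, ← mul_assoc, hj, one_mul]
      have haN := d.cent (k := 2) Nat.two_pos (by have := d.four; omega) e2
      show ((φ a : A) : G) = 1
      rw [hval, ← mul_assoc (a : G), ← mul_assoc (a : G), d.comm _ haN _ d.mem, mul_assoc u, mul_inv_cancel, mul_one,
        mul_inv_cancel]

omit [Finite G] d in
theorem Rel.symm {a b : G} (hj : j * j = 1) (h : Rel j a b) : Rel j b a := by
  rcases h with h | h
  · exact Or.inl h.symm
  · exact Or.inr (by rw [h, ← mul_assoc, hj, one_mul])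

/-- an invariant subgroup of prime power order lies in `N` -/
theorem Data.inv_le {π : ℕ} [hπ : Fact π.Prime] {P : Subgroup G} (hP : IsPGroup π P)
    (hinv : ∀ a ∈ P, u * a * u⁻¹ ∈ P) : P ≤ N := by
  classical
  haveI := Fact.mk d.prime
  by_contra hPN
  obtain ⟨a₀, ha₀, ha₀N⟩ := SetLike.not_le_iff_exists.1 hPN
  haveI : Group.IsNilpotent P := hP.isNilpotent
  have hD : ∀ t ∈ P, t ∈ N → t = 1 ∨ t = j := by
    intro t htP htN
    refine d.invol t htN (by_contra fun ht => ?_)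
    have hlt : N.subgroupOf P < ⊤ := lt_top_iff_ne_top.2 fun h => ha₀N
      (Subgroup.mem_subgroupOf.1 (h ▸ Subgroup.mem_top (⟨a₀, ha₀⟩ : P)))
    obtain ⟨m, hm, hmn⟩ := SetLike.exists_of_lt (Group.normalizerCondition_of_isNilpotent (G := P) _ hlt)
    refine hmn (Subgroup.mem_subgroupOf.2 (d.ker t htN ht m ?_))
    have := (Subgroup.mem_normalizer_iff.1 hm ⟨t, htP⟩).1 (Subgroup.mem_subgroupOf.2 htN)
    exact Subgroup.mem_subgroupOf.1 this
  -- the orbit of an element outside `N`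
  have horb : ∀ a : G, a ∉ N → ∀ k k' : ℕ, k < k' → k' < ℓ ^ e →
      u ^ k * a * (u ^ k)⁻¹ ≠ u ^ k' * a * (u ^ k')⁻¹ := by
    intro a ha k k' hkk hk' h
    obtain ⟨i, rfl⟩ := Nat.exists_eq_add_of_le hkk.le
    refine ha (d.cent (k := i) (by omega) (by omega) ?_)
    rw [pow_add] at h
    have h2 := congrArg (fun z => (u ^ k)⁻¹ * z * u ^ k) h
    simp only [mul_inv_rev] at h2
    calc u ^ i * a * (u ^ i)⁻¹ = (u ^ k)⁻¹ * (u ^ k * u ^ i * a * ((u ^ i)⁻¹ * (u ^ k)⁻¹)) * u ^ k := by group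
      _ = (u ^ k)⁻¹ * (u ^ k * a * (u ^ k)⁻¹) * u ^ k := h2.symm
      _ = a := by group
  by_cases hpπ : π = p
  · subst hpπ
    have h1 := d.small P hP
    let f : Fin (r + 1) → P := fun k => ⟨_, conj_pow_mem hinv k ha₀⟩
    have hf : Function.Injective f := fun k k' h => by
      have h' : u ^ (k : ℕ) * a₀ * (u ^ (k : ℕ))⁻¹ = u ^ (k' : ℕ) * a₀ * (u ^ (k' : ℕ))⁻¹ := congrArg Subtype.val h
      have := d.big
      rcases lt_trichotomy (k : ℕ) k' with hl | hl | hl
      · exact absurd h' (horb a₀ ha₀N _ _ hl (by omega))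
      · exact Fin.ext hl
      · exact absurd h'.symm (horb a₀ ha₀N _ _ hl (by omega))
    have h2 := Nat.card_le_card_of_injective f hf
    rw [Nat.card_eq_fintype_card, Fintype.card_fin] at h2
    omega
  have hdvd : ∀ A : Subgroup G, A ≤ P → ¬ p ∣ Nat.card A := fun A hA h => by
    obtain ⟨n, hn⟩ := IsPGroup.iff_card.1 hP
    exact hpπ ((Nat.prime_dvd_prime_iff_eq d.p_prime hπ.out).1 (d.p_prime.dvd_of_dvd_pow
      (hn ▸ h.trans (Subgroup.card_dvd_of_le hA)))).symm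
  by_cases hj : j ∈ P ∧ j ∈ N ∧ j ≠ 1
  swap
  · have h0 := d.fpf P hinv (hdvd P le_rfl) fun t ht htN => by
      rcases hD t ht htN with h | h
      · exact h
      · by_contra h'
        exact hj ⟨h ▸ ht, h ▸ htN, fun h1 => h' (h.trans h1)⟩
    rw [h0, Subgroup.mem_bot] at ha₀
    exact ha₀N (ha₀ ▸ N.one_mem)
  obtain ⟨hjP, hjN, hj1⟩ := hj
  have hju : u * j = j * u := d.comm _ d.mem _ hjN
  have hjj : j * j = 1 := by
    by_contra h
    rcases hD (j * j) (P.mul_mem hjP hjP) (N.mul_mem hjN hjN) with h' | h'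
    · exact h h'
    · exact hj1 (mul_left_cancel (h'.trans (mul_one j).symm))
  have hji : j⁻¹ = j := inv_eq_of_mul_eq_one_right hjj
  have habl : ∀ A : Subgroup G, A ≤ P → (∀ a ∈ A, u * a * u⁻¹ ∈ A) → (∀ a ∈ A, ∀ b ∈ A, a * b = b * a) → A ≤ N :=
    fun A hAP hA hc => d.abelian_le hA (hdvd A hAP) hc (fun a ha => hD a (hAP ha)) hjj hju
  -- the centre
  have hsur : ∀ b ∈ P, ∃ c ∈ P, u * c * u⁻¹ = b := fun b hb => by
    refine ⟨u⁻¹ * b * u, ?_, by group⟩
    have h := conj_pow_mem hinv (orderOf u - 1) hb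
    have hpos : 0 < orderOf u := orderOf_pos u
    have e1 : u ^ (orderOf u - 1) = u⁻¹ := by
      rw [eq_inv_iff_mul_eq_one, ← pow_succ, Nat.sub_add_cancel hpos, pow_orderOf_eq_one]
    rwa [e1, inv_inv] at h
  obtain ⟨Z, hZdef⟩ : ∃ Z, Z = P ⊓ Subgroup.centralizer (P : Set G) := ⟨_, rfl⟩
  have hZ : ∀ a, a ∈ Z ↔ a ∈ P ∧ ∀ b ∈ P, b * a = a * b := fun a => by
    rw [hZdef, Subgroup.mem_inf, Subgroup.mem_centralizer_iff]
    rfl
  have hZN : Z ≤ N := habl Z (fun a ha => ((hZ a).1 ha).1) (fun a ha => by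
      obtain ⟨haP, hac⟩ := (hZ a).1 ha
      refine (hZ _).2 ⟨hinv a haP, fun b hb => ?_⟩
      obtain ⟨c, hc, rfl⟩ := hsur b hb
      calc u * c * u⁻¹ * (u * a * u⁻¹) = u * (c * a) * u⁻¹ := by group
        _ = u * (a * c) * u⁻¹ := by rw [hac c hc]
        _ = u * a * u⁻¹ * (u * c * u⁻¹) := by group)
    fun a ha b hb => ((hZ b).1 hb).2 a ((hZ a).1 ha).1
  haveI : Nontrivial P := ⟨⟨⟨a₀, ha₀⟩, 1, fun h => ha₀N (by
    rw [show a₀ = 1 from congrArg Subtype.val h]; exact N.one_mem)⟩⟩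
  have hjc : ∀ b ∈ P, b * j = j * b := by
    haveI := hP.center_nontrivial
    obtain ⟨z, hz1⟩ := exists_ne (1 : Subgroup.center P)
    have hzZ : ((z : P) : G) ∈ Z := (hZ _).2 ⟨(z : P).2, fun b hb =>
      congrArg Subtype.val (Subgroup.mem_center_iff.1 z.2 ⟨b, hb⟩)⟩
    rcases hD _ (z : P).2 (hZN hzZ) with h | h
    · exact absurd (Subtype.ext (Subtype.ext h)) hz1
    · exact ((hZ j).1 (h ▸ hzZ)).2
  have hZj : ∀ a ∈ Z, a = 1 ∨ a = j := fun a ha => hD a ((hZ a).1 ha).1 (hZN ha)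
  -- the second centre
  let R : Subgroup G :=
    { carrier := {a | a ∈ P ∧ ∀ b ∈ P, Rel j a b}
      one_mem' := ⟨P.one_mem, fun b _ => Or.inl (by rw [one_mul, mul_one])⟩
      mul_mem' := fun {a a'} ha ha' => ⟨P.mul_mem ha.1 ha'.1, fun b hb => by
        have e0 : a * j = j * a := hjc a ha.1
        rcases ha.2 b hb with h | h <;> rcases ha'.2 b hb with h' | h'
        · exact Or.inl (by rw [mul_assoc, h', ← mul_assoc, h, mul_assoc])
        · exact Or.inr (by rw [mul_assoc, h', ← mul_assoc a, e0, mul_assoc j a, ← mul_assoc a, h, mul_assoc b])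
        · exact Or.inr (by rw [mul_assoc, h', ← mul_assoc, h, mul_assoc, mul_assoc b])
        · exact Or.inl (by
            rw [mul_assoc, h', ← mul_assoc a, e0, mul_assoc j a, ← mul_assoc a, h, mul_assoc j (b * a), ← mul_assoc j j,
              hjj, one_mul, mul_assoc b])⟩
      inv_mem' := fun {a} ha => ⟨P.inv_mem ha.1, fun b hb => by
        rcases ha.2 b hb with h | h
        · refine Or.inl ?_
          calc a⁻¹ * b = a⁻¹ * (b * a) * a⁻¹ := by group
            _ = a⁻¹ * (a * b) * a⁻¹ := by rw [h]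
            _ = b * a⁻¹ := by group
        · refine Or.inr ?_
          have e0 : a * j = j * a := hjc a ha.1
          have e1 : b * a = a * (j * b) := by
            rw [← mul_assoc a, e0, mul_assoc j, h, ← mul_assoc j j, hjj, one_mul]
          calc a⁻¹ * b = a⁻¹ * (b * a) * a⁻¹ := by group
            _ = a⁻¹ * (a * (j * b)) * a⁻¹ := by rw [e1]
            _ = j * (b * a⁻¹) := by group⟩ }
  have hR : ∀ a, a ∈ R ↔ a ∈ P ∧ ∀ b ∈ P, Rel j a b := fun a => Iff.rfl
  have hRinv : ∀ a ∈ R, u * a * u⁻¹ ∈ R := by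
    intro a ha
    refine ⟨hinv a ha.1, fun b hb => ?_⟩
    obtain ⟨c, hc, rfl⟩ := hsur b hb
    rcases ha.2 c hc with h | h
    · exact Or.inl (by rw [show u * a * u⁻¹ * (u * c * u⁻¹) = u * (a * c) * u⁻¹ by group, h]; group)
    · refine Or.inr ?_
      calc u * a * u⁻¹ * (u * c * u⁻¹) = u * (a * c) * u⁻¹ := by group
        _ = u * j * (c * a) * u⁻¹ := by rw [h]; group
        _ = j * (u * c * u⁻¹ * (u * a * u⁻¹)) := by rw [hju]; group
  have hjR : j ∈ R := ⟨hjP, fun b hb => Or.inl (hjc b hb).symm⟩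
  obtain ⟨a, haR, haN⟩ : ∃ a ∈ R, a ∉ N := by
    obtain ⟨Zc, hZc⟩ : ∃ Zc, Zc = Subgroup.center P := ⟨_, rfl⟩
    haveI : Zc.Normal := by rw [hZc]; infer_instance
    have hqp : IsPGroup π (P ⧸ Zc) := hP.to_quotient Zc
    haveI : Nontrivial (P ⧸ Zc) := ⟨⟨QuotientGroup.mk ⟨a₀, ha₀⟩, 1, fun h => ha₀N (by
      rw [QuotientGroup.eq_one_iff, hZc, Subgroup.mem_center_iff] at h
      exact hZN ((hZ a₀).2 ⟨ha₀, fun b hb => congrArg Subtype.val (h ⟨b, hb⟩)⟩))⟩⟩
    haveI := hqp.center_nontrivial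
    obtain ⟨z, hz1⟩ := exists_ne (1 : Subgroup.center (P ⧸ Zc))
    obtain ⟨a, ha⟩ := QuotientGroup.mk_surjective (z : P ⧸ Zc)
    refine ⟨a, ⟨a.2, fun b hb => ?_⟩, fun hN => hz1 (Subtype.ext ?_)⟩
    · have h1 := Subgroup.mem_center_iff.1 z.2 (QuotientGroup.mk ⟨b, hb⟩)
      rw [← ha, ← QuotientGroup.mk_mul, ← QuotientGroup.mk_mul, QuotientGroup.eq, hZc, Subgroup.mem_center_iff] at h1
      have hzz : ((⟨b, hb⟩ * a)⁻¹ * (a * ⟨b, hb⟩) : P).1 ∈ Z := (hZ _).2 ⟨SetLike.coe_mem _, fun c hc =>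
        congrArg Subtype.val (h1 ⟨c, hc⟩)⟩
      rcases hZj _ hzz with h | h
      · exact Or.inl (by
          rw [Subgroup.coe_mul, Subgroup.coe_inv, Subgroup.coe_mul, Subgroup.coe_mul, inv_mul_eq_iff_eq_mul,
            mul_one] at h
          exact h)
      · refine Or.inr ?_
        rw [Subgroup.coe_mul, Subgroup.coe_inv, Subgroup.coe_mul, Subgroup.coe_mul, inv_mul_eq_iff_eq_mul] at h
        exact h.trans (hjc _ (P.mul_mem hb a.2))
    · show (z : P ⧸ Zc) = 1
      rw [← ha, QuotientGroup.eq_one_iff, hZc, Subgroup.mem_center_iff]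
      intro g
      apply Subtype.ext
      show (g : G) * a = a * g
      rcases hD a a.2 hN with h | h
      · rw [h, mul_one, one_mul]
      · rw [h, hjc g g.2]
  -- squares and non-commuting partners
  have hsq : ∀ x ∈ R, x * x = 1 ∨ x * x = j := by
    intro x hx
    refine hZj _ ((hZ _).2 ⟨P.mul_mem hx.1 hx.1, fun b hb => ?_⟩)
    have e0 : x * j = j * x := hjc x hx.1
    rcases hx.2 b hb with h | h
    · rw [← mul_assoc, ← h, mul_assoc, ← h, ← mul_assoc]
    · have h' : b * x = j * (x * b) := by rw [h, ← mul_assoc, hjj, one_mul]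
      rw [← mul_assoc b, h', mul_assoc j (x * b), mul_assoc x b, h', ← mul_assoc x j, e0, mul_assoc j x, ← mul_assoc j j,
        hjj, one_mul, ← mul_assoc]
  have hpart : ∀ x ∈ R, x ∉ N → ∃ y ∈ R, x * y = j * (y * x) := by
    intro x hx hxN
    by_contra hcon
    push Not at hcon
    refine hxN (habl (R ⊓ Subgroup.centralizer (R : Set G)) (fun z hz => hz.1.1) ?_ ?_ ⟨hx, ?_⟩)
    · intro z hz
      refine ⟨hRinv z hz.1, ?_⟩
      show _ ∈ Subgroup.centralizer _
      rw [Subgroup.mem_centralizer_iff]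
      intro b hb
      obtain ⟨c, hc, rfl⟩ := hsur b hb.1
      have hcR : c ∈ R := by
        have hpos : 0 < orderOf u := orderOf_pos u
        have h := conj_pow_mem hRinv (orderOf u - 1) hb
        have e1 : u ^ (orderOf u - 1) = u⁻¹ := by
          rw [eq_inv_iff_mul_eq_one, ← pow_succ, Nat.sub_add_cancel hpos, pow_orderOf_eq_one]
        rwa [e1, inv_inv, show u⁻¹ * (u * c * u⁻¹) * u = c by group] at h
      rw [show u * c * u⁻¹ * (u * z * u⁻¹) = u * (c * z) * u⁻¹ by group,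
        Subgroup.mem_centralizer_iff.1 hz.2 c hcR]
      group
    · exact fun z hz w hw => (Subgroup.mem_centralizer_iff.1 hw.2 z hz.1)
    · show _ ∈ Subgroup.centralizer _
      rw [Subgroup.mem_centralizer_iff]
      intro y hy
      rcases hx.2 y hy.1 with h | h
      · exact h.symm
      · exact absurd h (hcon y hy)
  obtain ⟨b, hbR, hab⟩ := hpart a haR haN
  have haj := hjc a haR.1
  have hbj := hjc b hbR.1
  have hba : b * a = j * (a * b) := by rw [hab, ← mul_assoc, hjj, one_mul]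
  -- adjusting to commute with both
  have hbR' : ∀ y ∈ R, ∀ x z : G, z ∈ R → y * x = j * (x * y) → z * x = j * (x * z) → (y * z) * x = x * (y * z) := by
    intro y hy x z hz h1 h2
    calc y * z * x = y * (j * (x * z)) := by rw [mul_assoc, h2]
      _ = j * (y * x) * z := by rw [← mul_assoc y j, hjc y hy.1]; group
      _ = x * (y * z) := by rw [h1, ← mul_assoc j j, hjj]; group
  obtain ⟨c, hcR, hca, hcb, hcN⟩ : ∃ c ∈ R, c * a = a * c ∧ c * b = b * c ∧ c ∉ N := by
    by_contra hcon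
    push Not at hcon
    -- four conjugates of `a` would share three actions on `a, b`
    let orb : ℕ → G := fun i => u ^ i * a * (u ^ i)⁻¹
    have horbR : ∀ i, orb i ∈ R := fun i => conj_pow_mem hRinv i haR
    let σ : G → G × G := fun x => (x * a * x⁻¹, x * b * x⁻¹)
    have hσ : ∀ x ∈ R, σ x = (a, b) ∨ σ x ∈ ({(a, j * b), (j * a, b), (j * a, j * b)} : Finset (G × G)) := by
      intro x hx
      have e1 : x * a * x⁻¹ = a ∨ x * a * x⁻¹ = j * a := by
        rcases hx.2 a haR.1 with h | h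
        · exact Or.inl (by rw [h, mul_inv_cancel_right])
        · exact Or.inr (by rw [h, ← mul_assoc, mul_inv_cancel_right])
      have e2 : x * b * x⁻¹ = b ∨ x * b * x⁻¹ = j * b := by
        rcases hx.2 b hbR.1 with h | h
        · exact Or.inl (by rw [h, mul_inv_cancel_right])
        · exact Or.inr (by rw [h, ← mul_assoc, mul_inv_cancel_right])
      rcases e1 with e1 | e1 <;> rcases e2 with e2 | e2 <;> simp [σ, e1, e2]
    have hσN : ∀ x ∈ R, ∀ y ∈ R, σ x = σ y → y⁻¹ * x = 1 ∨ y⁻¹ * x = j := by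
      intro x hx y hy h
      simp only [σ, Prod.mk.injEq] at h
      have hc : ∀ z, x * z * x⁻¹ = y * z * y⁻¹ → y⁻¹ * x * z = z * (y⁻¹ * x) := fun z hz => by
        calc y⁻¹ * x * z = y⁻¹ * (x * z * x⁻¹) * x := by group
          _ = z * (y⁻¹ * x) := by rw [hz]; group
      exact hD _ (P.mul_mem (P.inv_mem hy.1) hx.1)
        (hcon _ (R.mul_mem (R.inv_mem hy) hx) (hc a h.1) (hc b h.2))
    have hmem : ∀ i : Fin 4, σ (orb i) ∈ ({(a, j * b), (j * a, b), (j * a, j * b)} : Finset (G × G)) := fun i => by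
      refine (hσ _ (horbR i)).resolve_left fun h => haN ?_
      have h1 := hσN _ (horbR i) 1 R.one_mem (by rw [h]; simp [σ])
      rw [inv_one, one_mul] at h1
      have hm : orb i ∈ N := by
        rcases h1 with h1 | h1 <;> rw [h1]
        · exact N.one_mem
        · exact hjN
      have h2 := N.mul_mem (N.mul_mem (N.inv_mem (N.pow_mem d.mem i)) hm) (N.pow_mem d.mem i)
      rwa [show (u ^ (i : ℕ))⁻¹ * orb i * u ^ (i : ℕ) = a by simp only [orb]; group] at h2
    have hlt : ∀ i k : ℕ, i < k → k < 4 → σ (orb i) ≠ σ (orb k) := by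
      intro i k hik hk4 h
      have hL := d.four
      obtain ⟨t, rfl⟩ := Nat.exists_eq_add_of_le hik.le
      rcases hσN _ (horbR (i + t)) _ (horbR i) h.symm with h1 | h1
      · exact horb a haN i (i + t) hik (by omega) (inv_mul_eq_one.1 h1)
      · have hjk : Commute (u ^ i) j := d.comm _ (N.pow_mem d.mem _) _ hjN
        have hjt : Commute (u ^ t) j := d.comm _ (N.pow_mem d.mem _) _ hjN
        have e3 : u ^ t * a * (u ^ t)⁻¹ = a * j := by
          calc u ^ t * a * (u ^ t)⁻¹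
              = a * ((u ^ i)⁻¹ * ((orb i)⁻¹ * orb (i + t)) * u ^ i) := by simp only [orb, pow_add]; group
            _ = a * ((u ^ i)⁻¹ * (j * u ^ i)) := by rw [h1, mul_assoc]
            _ = a * j := by rw [← hjk.eq, inv_mul_cancel_left]
        refine haN (d.cent2 (k := t) (by omega) (by omega) ?_)
        calc u ^ (t + t) * a * (u ^ (t + t))⁻¹ = u ^ t * (u ^ t * a * (u ^ t)⁻¹) * (u ^ t)⁻¹ := by
              rw [pow_add]; group
          _ = u ^ t * a * (u ^ t)⁻¹ * j := by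
              rw [e3]
              calc u ^ t * (a * j) * (u ^ t)⁻¹ = u ^ t * a * (u ^ t)⁻¹ * (u ^ t * j * (u ^ t)⁻¹) := by group
                _ = a * j * j := by rw [e3, hjt.eq, mul_inv_cancel_right]
          _ = a := by rw [e3, mul_assoc, hjj, mul_one]
    have h4 := Finset.card_le_card_of_injOn (s := (Finset.univ : Finset (Fin 4))) (fun i => σ (orb i))
      (fun i _ => hmem i) (fun i _ k _ h => by
        rcases lt_trichotomy (i : ℕ) k with hl | hl | hl
        · exact absurd h (hlt i k hl k.2)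
        · exact Fin.ext hl
        · exact absurd h.symm (hlt k i hl i.2))
    have h3 := Finset.card_le_three (a := (a, j * b)) (b := (j * a, b)) (c := (j * a, j * b))
    rw [Finset.card_univ, Fintype.card_fin] at h4
    omega
  obtain ⟨y, hyR, hcy⟩ := hpart c hcR hcN
  obtain ⟨y', hy'R, hy'a, hy'b, hy'c⟩ : ∃ y' ∈ R, y' * a = a * y' ∧ y' * b = b * y' ∧
      (c * y = j * (y * c) → c * y' = j * (y' * c)) := by
    have hmulc : ∀ z w : G, c * z = j * (z * c) → c * w = w * c → c * (z * w) = j * (z * w * c) := fun z w h1 h2 => by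
      calc c * (z * w) = c * z * w := (mul_assoc _ _ _).symm
        _ = j * z * (c * w) := by rw [h1]; group
        _ = j * (z * w * c) := by rw [h2]; group
    obtain ⟨y₁, hy₁R, hy₁a, hy₁c⟩ : ∃ y₁ ∈ R, y₁ * a = a * y₁ ∧ (c * y = j * (y * c) → c * y₁ = j * (y₁ * c)) := by
      rcases hyR.2 a haR.1 with h | h
      · exact ⟨y, hyR, h, id⟩
      · exact ⟨y * b, R.mul_mem hyR hbR, hbR' y hyR a b hbR h hba, fun h' => hmulc y b h' hcb⟩
    rcases hy₁R.2 b hbR.1 with h | h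
    · exact ⟨y₁, hy₁R, hy₁a, h, hy₁c⟩
    · exact ⟨y₁ * a, R.mul_mem hy₁R haR, by rw [← mul_assoc a, ← hy₁a],
        hbR' y₁ hy₁R b a haR h hab, fun h' => hmulc y₁ a (hy₁c h') hca⟩
  have hcy' := hy'c hcy
  -- in each pair an element of square `j`
  have hpick : ∀ x x' : G, x ∈ R → x' ∈ R → x * x' = j * (x' * x) →
      ∃ z z' : G, z ∈ R ∧ z' ∈ R ∧ z * z = j ∧ z' * z = j * (z * z') ∧
        ∀ w, Commute w x → Commute w x' → Commute w z ∧ Commute w z' := by
    intro x x' hx hx' hxx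
    have hxx' : x' * x = j * (x * x') := by rw [hxx, ← mul_assoc, hjj, one_mul]
    rcases hsq x hx with h | h
    swap
    · exact ⟨x, x', hx, hx', h, hxx', fun w h1 h2 => ⟨h1, h2⟩⟩
    rcases hsq x' hx' with h' | h'
    swap
    · exact ⟨x', x, hx', hx, h', hxx, fun w h1 h2 => ⟨h2, h1⟩⟩
    have e0 : x * j = j * x := hjc x hx.1
    refine ⟨x * x', x, R.mul_mem hx hx', hx, ?_, ?_, fun w h1 h2 => ⟨h1.mul_right h2, h1⟩⟩
    · rw [mul_assoc, ← mul_assoc x' x, hxx', mul_assoc j (x * x'), mul_assoc x x', h', mul_one, ← mul_assoc x j, e0,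
        mul_assoc j x, h, mul_one]
    · rw [mul_assoc x x', hxx', ← mul_assoc x j, e0, mul_assoc j x, ← mul_assoc j j, hjj, one_mul]
  obtain ⟨x₁, x₂, hx₁, hx₂, hx₁s, hx₁₂, hxw⟩ := hpick a b haR hbR hab
  obtain ⟨y₁, y₂, hy₁, hy₂, hy₁s, hy₁₂, hyw⟩ := hpick c y' hcR hy'R hcy'
  obtain ⟨hx₁c, hx₂c⟩ := hxw c hca hcb
  obtain ⟨hx₁y, hx₂y⟩ := hxw y' hy'a hy'b
  obtain ⟨h11, h12⟩ := hyw x₁ hx₁c.symm hx₁y.symm
  obtain ⟨h21, h22⟩ := hyw x₂ hx₂c.symm hx₂y.symm
  exact d.anti hj1 x₁ x₂ y₁ y₂ (hjc _ hx₁.1).symm (hjc _ hx₂.1).symm (hjc _ hy₁.1).symm (hjc _ hy₂.1).symm hx₁s hy₁s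
    hx₁₂ hy₁₂ h11 h12 h21 h22

/-- the abelian subgroup is the whole group -/
theorem Data.eq_top : N = ⊤ := by
  classical
  haveI := Fact.mk d.prime
  obtain ⟨U, hU⟩ := (IsPGroup.of_card (n := e) (by rw [Nat.card_zpowers, d.ord]) : IsPGroup ℓ (Subgroup.zpowers u)).exists_le_sylow
  have huU : u ∈ U := hU (Subgroup.mem_zpowers u)
  have hL : 1 < ℓ ^ e := by have := d.four; omega
  have hu1 : u ≠ 1 := fun h => by
    have := d.ord
    rw [h, orderOf_one] at this
    omega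
  haveI : Nontrivial (U : Subgroup G) := ⟨⟨⟨u, huU⟩, 1, fun h => hu1 (congrArg Subtype.val h)⟩⟩
  haveI := U.isPGroup'.center_nontrivial
  obtain ⟨z, hz1⟩ := exists_ne (1 : Subgroup.center (U : Subgroup G))
  have hzc : ∀ s ∈ (U : Subgroup G), s * ((z : (U : Subgroup G)) : G) = ((z : (U : Subgroup G)) : G) * s := fun s hs =>
    congrArg Subtype.val (Subgroup.mem_center_iff.1 z.2 ⟨s, hs⟩)
  obtain ⟨w, hw⟩ : ∃ w, w = ((z : (U : Subgroup G)) : G) := ⟨_, rfl⟩
  rw [← hw] at hzc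
  have hwN : w ∈ N := by
    refine d.cent (k := 1) Nat.one_pos hL ?_
    rw [pow_one, hzc u huU, mul_inv_cancel_right]
  have hw2 : w * w ≠ 1 := fun h => by
    obtain ⟨k, hk⟩ := U.isPGroup' (z : (U : Subgroup G))
    have hk' : w ^ ℓ ^ k = 1 := by rw [hw]; exact congrArg Subtype.val hk
    have h1 : orderOf w ∣ 2 := orderOf_dvd_of_pow_eq_one (by rw [sq]; exact h)
    have h2 : orderOf w ∣ ℓ ^ k := orderOf_dvd_of_pow_eq_one hk'
    have h3 := Nat.dvd_gcd h1 h2
    rw [(Nat.Coprime.pow_right k ((Nat.coprime_primes Nat.prime_two d.prime).2 (Ne.symm d.odd))).gcd_eq_one,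
      Nat.dvd_one, orderOf_eq_one_iff] at h3
    exact hz1 (Subtype.ext (Subtype.ext (hw ▸ h3)))
  have hUz : (U : Subgroup G) = Subgroup.zpowers u := by
    refine le_antisymm (fun s hs => ?_) hU
    have hsN : s ∈ N := d.ker w hwN hw2 s (by rw [hzc s hs, mul_inv_cancel_right]; exact hwN)
    obtain ⟨k, hk⟩ := U.isPGroup' ⟨s, hs⟩
    exact d.sylow s hsN k (congrArg Subtype.val hk)
  have hUN : (U : Subgroup G) ≤ N := hUz ▸ (Subgroup.zpowers_le.2 d.mem)
  have hnc : Subgroup.normalizer (U : Subgroup G) ≤ Subgroup.centralizer (U : Set G) := fun m hm => by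
    have h := (Subgroup.mem_normalizer_iff.1 hm u).1 huU
    have hmN := d.ker u d.mem (by simpa using d.free (k := 1) Nat.one_pos hL) m (hUN h)
    rw [Subgroup.mem_centralizer_iff]
    exact fun b hb => d.comm b (hUN hb) m hmN
  obtain ⟨K, hK⟩ : ∃ K, K = (MonoidHom.transferSylow U hnc).ker := ⟨_, rfl⟩
  haveI : K.Normal := by rw [hK]; infer_instance
  have hcompl : K.IsComplement' (U : Subgroup G) := hK ▸ MonoidHom.ker_transferSylow_isComplement' U hnc
  have hcardU : Nat.card (U : Subgroup G) = ℓ ^ e := by rw [hUz, Nat.card_zpowers, d.ord]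
  have hind : K.index = ℓ ^ e := by rw [hcompl.symm.index_eq_card, hcardU]
  have hKN : K ≤ N := by
    have hdvd : Nat.card K ∣ Nat.card (K ⊓ N : Subgroup G) := by
      rw [Nat.dvd_iff_prime_pow_dvd_dvd]
      intro π k hπ hk
      haveI := Fact.mk hπ
      obtain ⟨P₀⟩ : Nonempty (Sylow π K) := inferInstance
      obtain ⟨H, hH⟩ : ∃ H, H = Subgroup.normalizer (((P₀ : Subgroup K).map K.subtype : Subgroup G) : Set G) :=
        ⟨_, rfl⟩
      have hsup : H ⊔ K = ⊤ := hH ▸ Sylow.normalizer_sup_eq_top P₀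
      have hsurj : Function.Surjective ((QuotientGroup.mk' K).comp H.subtype) := fun x => by
        obtain ⟨g, rfl⟩ := QuotientGroup.mk_surjective x
        obtain ⟨h, hh, y, hy, rfl⟩ := Subgroup.mem_sup_of_normal_right.1 (hsup ▸ Subgroup.mem_top g : g ∈ H ⊔ K)
        exact ⟨⟨h, hh⟩, ((QuotientGroup.eq).2 (by simpa using hy))⟩
      have hLH : ℓ ^ e ∣ Nat.card H := hind ▸ (Subgroup.index_eq_card K ▸
        Subgroup.card_dvd_of_surjective _ hsurj)
      obtain ⟨T, hT⟩ := Sylow.exists_subgroup_card_pow_prime ℓ hLH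
      obtain ⟨U', hU'⟩ := (IsPGroup.of_card (n := e) (by
        rw [← Nat.card_congr (Subgroup.equivMapOfInjective T H.subtype H.subtype_injective).toEquiv, hT]) :
          IsPGroup ℓ (T.map H.subtype : Subgroup G)).exists_le_sylow
      have hU'eq : T.map H.subtype = (U' : Subgroup G) := Subgroup.eq_of_le_of_card_ge hU' (le_of_eq (by
        rw [← Nat.card_congr (Subgroup.equivMapOfInjective T H.subtype H.subtype_injective).toEquiv, hT,
          Sylow.card_eq_multiplicity, ← Sylow.card_eq_multiplicity U, hcardU]))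
      obtain ⟨g, hg⟩ := MulAction.exists_smul_eq G U' U
      have hug : g⁻¹ * u * g ∈ H := by
        have h1 : u ∈ ((g • U' : Sylow ℓ G) : Subgroup G) := by rw [hg]; exact huU
        rw [Sylow.coe_subgroup_smul, Subgroup.mem_pointwise_smul_iff_inv_smul_mem] at h1
        have h2 : g⁻¹ * u * g ∈ (U' : Subgroup G) := by simpa [MulAut.conj_apply, mul_assoc] using h1
        rw [← hU'eq] at h2
        obtain ⟨t, -, ht⟩ := h2
        exact ht ▸ t.2
      obtain ⟨P, hP⟩ : ∃ P, P = ((P₀ : Subgroup K).map K.subtype).map (MulAut.conj g).toMonoidHom := ⟨_, rfl⟩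
      have hPπ : IsPGroup π P := hP ▸ (P₀.isPGroup'.map _).map _
      have hinv : ∀ a ∈ P, u * a * u⁻¹ ∈ P := by
        intro a ha
        rw [hP] at ha ⊢
        obtain ⟨b, hb, rfl⟩ := ha
        refine ⟨g⁻¹ * u * g * b * (g⁻¹ * u * g)⁻¹, (Subgroup.mem_normalizer_iff.1 (hH ▸ hug) b).1 hb, ?_⟩
        simp [MulAut.conj_apply, mul_assoc]
      have hPle : P ≤ K ⊓ N := by
        refine le_inf ?_ (d.inv_le hPπ hinv)
        rw [hP]
        rintro a ⟨b, hb, rfl⟩
        obtain ⟨c, -, rfl⟩ := hb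
        exact Subgroup.Normal.conj_mem inferInstance _ c.2 g
      have hPcard : Nat.card P = π ^ (Nat.card K).factorization π := by
        rw [hP, ← Nat.card_congr (Subgroup.equivMapOfInjective _ _ (MulAut.conj g).injective).toEquiv,
          ← Nat.card_congr (Subgroup.equivMapOfInjective _ _ K.subtype_injective).toEquiv,
          Sylow.card_eq_multiplicity]
      exact (pow_dvd_pow π ((hπ.pow_dvd_iff_le_factorization Nat.card_pos.ne').1 hk)).trans
        (hPcard ▸ Subgroup.card_dvd_of_le hPle)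
    have := Subgroup.eq_of_le_of_card_ge inf_le_left (Nat.le_of_dvd Nat.card_pos hdvd)
    exact inf_eq_left.1 this
  exact eq_top_iff.2 (hcompl.sup_eq_top ▸ sup_le hKN hUN)

end CfsgLib.Perm.Trans.OrthExt.Fixed
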