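import Mathlib

/-!
# Two facts on finite linear groups

A group normalised by an element acting freely on it, this element satisfying an equation of small degree, is trivial
in coprime characteristic.  Two commuting anticommuting pairs need an even dimension on each eigenspace.
-/

set_option autoImplicit false
set_option linter.all false

namespace CfsgLib.Perm.Trans.OrthExt.Fixed

open Module Polynomial

theorem fixed_trivial {F R' : Type*} [Field F] [Ring R'] [Algebra F R'] {G : Type*} [Group G] (ρ : G →* R')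
    (hρ : Function.Injective ρ) {u : G} (R : F[X]) (hR : aeval (ρ u) R = 0) (h0 : R.coeff 0 ≠ 0) (A : Subgroup G)
    [Finite A] (hA : ∀ a ∈ A, u * a * u⁻¹ ∈ A)
    (hfree : ∀ k, 0 < k → k ≤ R.natDegree → ∀ a ∈ A, u ^ k * a * (u ^ k)⁻¹ = a → a = 1)
    (hcard : (Nat.card A : F) ≠ 0) : A = ⊥ := by
  classical
  haveI := Fintype.ofFinite A
  obtain ⟨SA, hSA⟩ : ∃ S : R', S = ∑ a : A, ρ a := ⟨_, rfl⟩
  have hpow : ∀ k, ∀ a ∈ A, u ^ k * a * (u ^ k)⁻¹ ∈ A := by
    intro k a ha
    induction k with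
    | zero => simpa using ha
    | succ k ih =>
      have := hA _ ih
      rwa [show u * (u ^ k * a * (u ^ k)⁻¹) * u⁻¹ = u ^ (k + 1) * a * (u ^ (k + 1))⁻¹ by
        rw [pow_succ' u k]; group] at this
  have hsum : ∀ k, 0 < k → k ≤ R.natDegree → ∑ a : A, ρ ((a : G) * u ^ k * (a : G)⁻¹) = SA * ρ (u ^ k) := by
    intro k hk hk'
    let f : A → A := fun a => ⟨(a : G) * (u ^ k * (a : G)⁻¹ * (u ^ k)⁻¹), A.mul_mem a.2 (hpow k _ (A.inv_mem a.2))⟩
    have hf : Function.Injective f := fun a b h => by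
      have h' : (a : G) * (u ^ k * (a : G)⁻¹ * (u ^ k)⁻¹) = (b : G) * (u ^ k * (b : G)⁻¹ * (u ^ k)⁻¹) :=
        congrArg Subtype.val h
      refine Subtype.ext (inv_mul_eq_one.1 (hfree k hk hk' ((b : G)⁻¹ * a) (A.mul_mem (A.inv_mem b.2) a.2) ?_)).symm
      calc u ^ k * ((b : G)⁻¹ * a) * (u ^ k)⁻¹ = (u ^ k * (b : G)⁻¹ * (u ^ k)⁻¹) * (u ^ k * (a : G)⁻¹ * (u ^ k)⁻¹)⁻¹ := by
            group
        _ = (b : G)⁻¹ * ((b : G) * (u ^ k * (b : G)⁻¹ * (u ^ k)⁻¹)) * (u ^ k * (a : G)⁻¹ * (u ^ k)⁻¹)⁻¹ := by group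
        _ = (b : G)⁻¹ * ((a : G) * (u ^ k * (a : G)⁻¹ * (u ^ k)⁻¹)) * (u ^ k * (a : G)⁻¹ * (u ^ k)⁻¹)⁻¹ := by rw [h']
        _ = (b : G)⁻¹ * a := by group
    rw [hSA, Finset.sum_mul]
    refine Fintype.sum_bijective f (Finite.injective_iff_bijective.1 hf) _ _ fun a => ?_
    rw [← map_mul]
    congr 1
    show (a : G) * u ^ k * (a : G)⁻¹ = (a : G) * (u ^ k * (a : G)⁻¹ * (u ^ k)⁻¹) * u ^ k
    group
  -- the equation conjugated and summed
  have h1 : ∑ k ∈ Finset.range (R.natDegree + 1), R.coeff k • ρ (u ^ k) = 0 := by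
    rw [← hR, aeval_eq_sum_range]
    simp only [map_pow]
  have h2 : ∑ k ∈ Finset.range (R.natDegree + 1), R.coeff k • ∑ a : A, ρ ((a : G) * u ^ k * (a : G)⁻¹) = 0 := by
    simp only [Finset.smul_sum]
    rw [Finset.sum_comm]
    refine Finset.sum_eq_zero fun a _ => ?_
    have : ∑ k ∈ Finset.range (R.natDegree + 1), R.coeff k • ρ ((a : G) * u ^ k * (a : G)⁻¹) =
        ρ a * (∑ k ∈ Finset.range (R.natDegree + 1), R.coeff k • ρ (u ^ k)) * ρ (a : G)⁻¹ := by
      simp only [Finset.mul_sum, Finset.sum_mul, mul_smul_comm, smul_mul_assoc, map_mul]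
    rw [this, h1, mul_zero, zero_mul]
  rw [Finset.sum_range_succ'] at h1 h2
  rw [Finset.sum_congr rfl fun k hk => by
    rw [hsum (k + 1) (Nat.succ_pos k) (by have := Finset.mem_range.1 hk; omega)]] at h2
  simp only [← mul_smul_comm] at h2
  rw [← Finset.mul_sum] at h2
  simp only [pow_zero, mul_one, mul_inv_cancel, map_one, Finset.sum_const, Finset.card_univ] at h1 h2
  rw [eq_neg_of_add_eq_zero_left h1, mul_neg, mul_smul_comm, mul_one, ← sub_eq_neg_add, sub_eq_zero] at h2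
  have h3 : SA = (Nat.card A : R') := by
    have := congrArg (fun z => (R.coeff 0)⁻¹ • z) h2
    simpa [smul_smul, inv_mul_cancel₀ h0, nsmul_one] using this.symm
  refine (Subgroup.eq_bot_iff_forall A).2 fun b hb => hρ ?_
  have h4 : ρ b * SA = SA := by
    rw [hSA, Finset.mul_sum]
    exact Fintype.sum_bijective (fun a : A => (⟨b, hb⟩ : A) * a) (Group.mulLeft_bijective _) _ _
      fun a => by rw [Subgroup.coe_mul, map_mul]
  rw [h3, ← map_natCast (algebraMap F R'), Algebra.algebraMap_eq_smul_one, mul_smul_comm, mul_one] at h4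
  rw [map_one]
  have := congrArg (fun z => (Nat.card A : F)⁻¹ • z) h4
  simpa only [smul_smul, inv_mul_cancel₀ hcard, one_smul] using this

/-- two commuting anticommuting pairs with the squares `-1` need the dimension a multiple of four -/
theorem no_anti {F V : Type*} [Field F] [AddCommGroup V] [Module F V] [FiniteDimensional F V] (h2 : (2 : F) ≠ 0)
    {r : ℕ} (hr : r % 2 = 1) {J X X' Y Y' : Module.End F V} (hW : finrank F (LinearMap.ker (J + 1)) = 2 * r)
    (iX : Function.Injective X) (iX' : Function.Injective X') (iY' : Function.Injective Y')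
    (cX : Commute J X) (cX' : Commute J X') (cY : Commute J Y) (cY' : Commute J Y') (sX : X * X = J) (sY : Y * Y = J)
    (aX : X' * X = J * (X * X')) (aY : Y' * Y = J * (Y * Y')) (c11 : Commute X Y) (c12 : Commute X Y')
    (c21 : Commute X' Y) (c22 : Commute X' Y') : False := by
  obtain ⟨W, hWd⟩ : ∃ W, W = LinearMap.ker (J + 1) := ⟨_, rfl⟩
  have hJ : ∀ w ∈ W, J w = -w := fun w hw => by
    rw [hWd, LinearMap.mem_ker, LinearMap.add_apply, Module.End.one_apply] at hw
    exact eq_neg_of_add_eq_zero_left hw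
  have hinv : ∀ Z : Module.End F V, Commute J Z → ∀ w ∈ W, Z w ∈ W := fun Z hZ w hw => by
    rw [hWd, LinearMap.mem_ker, LinearMap.add_apply, Module.End.one_apply, ← Module.End.mul_apply, hZ.eq,
      Module.End.mul_apply, hJ w hw, map_neg, neg_add_cancel]
  let ε : Module.End F V := X * Y
  have hεW : ∀ w ∈ W, ε w ∈ W := hinv ε (cX.mul_right cY)
  have hε2 : ∀ w ∈ W, ε (ε w) = w := fun w hw => by
    have e : ε * ε = J * J := by
      show X * Y * (X * Y) = J * J
      rw [mul_assoc X Y, ← mul_assoc Y X Y, ← c11.eq, mul_assoc X Y Y, sY, ← mul_assoc, sX]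
    rw [← Module.End.mul_apply, e, Module.End.mul_apply, hJ w hw, map_neg, hJ w hw, neg_neg]
  -- the sign change
  have hX' : ∀ w ∈ W, ε (X' w) = -X' (ε w) := fun w hw => by
    have e : X' * ε = J * (ε * X') := by
      show X' * (X * Y) = J * (X * Y * X')
      rw [← mul_assoc, aX, mul_assoc J, mul_assoc X X' Y, c21.eq, ← mul_assoc X Y]
    have h := LinearMap.congr_fun e w
    simp only [Module.End.mul_apply] at h
    rw [h, hJ _ (hεW _ (hinv X' cX' w hw)), neg_neg]
  have hY' : ∀ w ∈ W, ε (Y' w) = -Y' (ε w) := fun w hw => by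
    have e : Y' * ε = J * (ε * Y') := by
      show Y' * (X * Y) = J * (X * Y * Y')
      rw [← mul_assoc, c12.symm.eq, mul_assoc X Y' Y, aY, ← mul_assoc X J, cX.symm.eq, mul_assoc J X, ← mul_assoc X Y]
    have h := LinearMap.congr_fun e w
    simp only [Module.End.mul_apply] at h
    rw [h, hJ _ (hεW _ (hinv Y' cY' w hw)), neg_neg]
  obtain ⟨Wp, hWp⟩ : ∃ Wp, Wp = W ⊓ LinearMap.ker (ε - 1) := ⟨_, rfl⟩
  obtain ⟨Wm, hWm⟩ : ∃ Wm, Wm = W ⊓ LinearMap.ker (ε + 1) := ⟨_, rfl⟩
  have mp : ∀ w, w ∈ Wp ↔ w ∈ W ∧ ε w = w := fun w => by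
    rw [hWp, Submodule.mem_inf, LinearMap.mem_ker, LinearMap.sub_apply, Module.End.one_apply, sub_eq_zero]
  have mm : ∀ w, w ∈ Wm ↔ w ∈ W ∧ ε w = -w := fun w => by
    rw [hWm, Submodule.mem_inf, LinearMap.mem_ker, LinearMap.add_apply, Module.End.one_apply, add_eq_zero_iff_eq_neg]
  have hdis : Wp ⊓ Wm = ⊥ := (Submodule.eq_bot_iff _).2 fun w ⟨h1, h1'⟩ => by
    have h : w = -w := ((mp w).1 h1).2.symm.trans ((mm w).1 h1').2
    have h3 : (2 : F) • w = 0 := by rw [two_smul]; nth_rewrite 2 [h]; exact add_neg_cancel w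
    exact (smul_eq_zero.1 h3).resolve_left h2
  have hsup : Wp ⊔ Wm = W := le_antisymm (sup_le (hWp ▸ inf_le_left) (hWm ▸ inf_le_left)) fun w hw => by
    have hp : (2 : F)⁻¹ • (w + ε w) ∈ Wp := (mp _).2 ⟨W.smul_mem _ (W.add_mem hw (hεW w hw)), by
      rw [map_smul, map_add, hε2 w hw, add_comm w]⟩
    have hm : (2 : F)⁻¹ • (w - ε w) ∈ Wm := (mm _).2 ⟨W.smul_mem _ (W.sub_mem hw (hεW w hw)), by
      rw [map_smul, map_sub, hε2 w hw, ← smul_neg, neg_sub]⟩
    have := Submodule.add_mem_sup hp hm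
    rwa [← smul_add, show w + ε w + (w - ε w) = (2 : F) • w by rw [two_smul]; abel, smul_smul, inv_mul_cancel₀ h2,
      one_smul] at this
  have hle : ∀ (A B : Submodule F V), (∀ w ∈ A, X' w ∈ B) → finrank F A ≤ finrank F B := fun A B h =>
    LinearMap.finrank_le_finrank_of_injective (f := X'.restrict h) fun a b hab =>
      Subtype.ext (iX' (congrArg Subtype.val hab))
  have hp_m : ∀ w ∈ Wp, X' w ∈ Wm := fun w hw => (mm _).2 ⟨hinv X' cX' w ((mp w).1 hw).1, by
    rw [hX' w ((mp w).1 hw).1, ((mp w).1 hw).2]⟩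
  have hm_p : ∀ w ∈ Wm, X' w ∈ Wp := fun w hw => (mp _).2 ⟨hinv X' cX' w ((mm w).1 hw).1, by
    rw [hX' w ((mm w).1 hw).1, ((mm w).1 hw).2, map_neg, neg_neg]⟩
  have hdim : finrank F Wp = r := by
    have e := Submodule.finrank_sup_add_finrank_inf_eq Wp Wm
    rw [hsup, hdis, finrank_bot, hWd, hW] at e
    have := hle _ _ hp_m
    have := hle _ _ hm_p
    omega
  let Z : Module.End F V := X' * Y'
  have hXp : ∀ w ∈ Wp, X w ∈ Wp := fun w hw => (mp _).2 ⟨hinv X cX w ((mp w).1 hw).1, by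
    have e : ε * X = X * ε := by
      show X * Y * X = X * (X * Y)
      rw [mul_assoc X Y X, ← c11.eq]
    rw [← Module.End.mul_apply, e, Module.End.mul_apply, ((mp w).1 hw).2]⟩
  have hZp : ∀ w ∈ Wp, Z w ∈ Wp := fun w hw => by
    refine (mp _).2 ⟨hinv Z (cX'.mul_right cY') w ((mp w).1 hw).1, ?_⟩
    show ε (X' (Y' w)) = X' (Y' w)
    rw [hX' _ (hinv Y' cY' w ((mp w).1 hw).1), hY' w ((mp w).1 hw).1, ((mp w).1 hw).2, map_neg, neg_neg]
  let Xr : Module.End F Wp := X.restrict hXp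
  let Zr : Module.End F Wp := Z.restrict hZp
  have hanti : Zr * Xr = (-1 : F) • (Xr * Zr) := LinearMap.ext fun w => Subtype.ext (by
    show Z (X (w : V)) = (-1 : F) • X (Z (w : V))
    have hw := ((mp (w : V)).1 w.2).1
    have e : Z * X = J * (X * Z) := by
      show X' * Y' * X = J * (X * (X' * Y'))
      rw [mul_assoc X' Y' X, c12.symm.eq, ← mul_assoc X' X Y', aX, mul_assoc J, mul_assoc X X' Y']
    have h := LinearMap.congr_fun e (w : V)
    simp only [Module.End.mul_apply] at h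
    rw [h, hJ _ (hinv X cX _ (hinv Z (cX'.mul_right cY') _ hw)), neg_one_smul])
  have hne : ∀ T : Module.End F Wp, Function.Injective T → LinearMap.det T ≠ 0 := fun T hT =>
    (LinearMap.isUnit_det T ((LinearMap.isUnit_iff_ker_eq_bot T).2 (LinearMap.ker_eq_bot.2 hT))).ne_zero
  have hd := congrArg LinearMap.det hanti
  rw [LinearMap.det_smul, map_mul, map_mul, hdim, (Nat.odd_iff.2 hr).neg_one_pow, neg_one_mul, mul_comm,
    eq_neg_iff_add_eq_zero, ← two_mul, mul_eq_zero, mul_eq_zero] at hd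
  rcases hd with hd | hd | hd
  · exact h2 hd
  · exact hne Xr (fun a b hab => Subtype.ext (iX (congrArg Subtype.val hab))) hd
  · exact hne Zr (fun a b hab => Subtype.ext (iY' (iX' (congrArg Subtype.val hab :)))) hd

end CfsgLib.Perm.Trans.OrthExt.Fixed
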