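import Cfsg.Agent.Lib.Perm.Trans.OrthExt.Three.Frame

/-!
# Three dimensions over the extension field: rotations and the first element
-/

set_option autoImplicit false
set_option linter.all false

namespace CfsgLib.Perm.Trans.OrthExt

open scoped Matrix
open Matrix Module Cfsg.Geo CfsgLib.Perm.Asch CfsgLib.Perm.Trans CfsgLib.Perm.Trans.Quad
open CfsgLib.Perm.Trans.Symp.Ext (tr trDual trDual_apply tr_ext tr_smul_one exists_tr_separate)

variable {ι : Type} [Fintype ι] [DecidableEq ι] {F : Type*} [Field F] [Fintype F]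
variable {E : Type*} [Field E] [Algebra F E] [FiniteDimensional F E]
variable [Module E (ι → F)] [IsScalarTower F E (ι → F)]
variable {Q : (ι → F) → F}

local notation "pol" => QuadraticMap.polar
local notation:75 g " ⋆ " x:75 => (Units.val g : Matrix ι ι F) *ᵥ x

variable {M : Subgroup (GL ι F)} (S : OData E Q M)
include S

/-- an orthogonal basis through an anisotropic vector -/
theorem exists_orth_basis (h3 : finrank E (ι → F) = 3) {x : ι → F} (hx : Bf S x x ≠ 0) :
    ∃ a b, Bf S a x = 0 ∧ Bf S b x = 0 ∧ Bf S a b = 0 ∧ Bf S a a ≠ 0 ∧ Bf S b b ≠ 0 ∧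
      ∀ z, z = (Bf S z x / Bf S x x) • x + (Bf S z a / Bf S a a) • a + (Bf S z b / Bf S b b) • b := by
  haveI := finE S
  obtain ⟨a, hax, haa⟩ : ∃ a, Bf S a x = 0 ∧ Bf S a a ≠ 0 := by
    by_contra hc
    push Not at hc
    obtain ⟨y, hy, hy0⟩ := Submodule.exists_mem_ne_zero_of_ne_bot (p := LinearMap.ker (Bl S x)) fun h => by
      have h1 := finrank_ker_Bl S x
      rw [h, finrank_bot] at h1
      omega
    obtain ⟨z, hz, hyz⟩ := nd_of_anisotropic S hx y hy hy0
    have h := hc (y + z) ((LinearMap.ker (Bl S x)).add_mem hy hz :)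
    rw [Bf_add_left, Bf_add_right, Bf_add_right, hc y hy, hc z hz, Bf_comm S z y, zero_add, add_zero, ← two_mul] at h
    exact hyz ((mul_eq_zero.1 h).resolve_left (two_E S))
  obtain ⟨b, ⟨hbx, hba⟩, hb0⟩ := Submodule.exists_mem_ne_zero_of_ne_bot
    (p := LinearMap.ker (Bl S x) ⊓ LinearMap.ker (Bl S a)) fun h => by
    have h1 := finrank_pperp S x a
    rw [pperp, h, finrank_bot] at h1
    omega
  have hbx : Bf S b x = 0 := hbx
  have hba : Bf S b a = 0 := hba
  have hxa : Bf S x a = 0 := by rw [Bf_comm S]; exact hax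
  have hab : Bf S a b = 0 := by rw [Bf_comm S]; exact hba
  have hxb : Bf S x b = 0 := by rw [Bf_comm S]; exact hbx
  -- the orthogonal of `x, a` is anisotropic
  have hbb : Bf S b b ≠ 0 := fun hbb => by
    obtain ⟨z, hz, hbz⟩ := nd_of_anisotropic S hx b hbx hb0
    obtain ⟨z', hz'⟩ : ∃ z', z' = z - (Bf S z a / Bf S a a) • a := ⟨_, rfl⟩
    have hz'x : Bf S z' x = 0 := by rw [hz', Bf_sub_left, Bf_smul_left, hax, show Bf S z x = 0 from hz]; ring
    have hz'a : Bf S z' a = 0 := by rw [hz', Bf_sub_left, Bf_smul_left, div_mul_cancel₀ _ haa, sub_self]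
    have hbz' : Bf S b z' ≠ 0 := by rwa [hz', Bf_sub_right, Bf_smul_right, hba, mul_zero, sub_zero]
    have hli : LinearIndependent E ![x, a, b, z'] := by
      rw [Fintype.linearIndependent_iff]
      intro g hg
      simp [Fin.sum_univ_four] at hg
      have e1 := congrArg (fun w => Bf S w x) hg
      have e2 := congrArg (fun w => Bf S w a) hg
      have e3 := congrArg (fun w => Bf S w b) hg
      simp [Bf_add_left, Bf_smul_left, Bf_zero_left, hx, hax, hbx, hz'x, hxa, haa, hba, hz'a, hxb, hab, hbb,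
        Bf_comm S z' b, hbz'] at e1 e2 e3
      have e4 := congrArg (fun w => Bf S w z') hg
      simp [Bf_add_left, Bf_smul_left, Bf_zero_left, e1, e2, e3, hbz'] at e4
      intro i
      fin_cases i
      · exact e1
      · exact e2
      · exact e4
      · exact e3
    have := hli.fintype_card_le_finrank
    simp [h3] at this
  refine ⟨a, b, hax, hbx, hab, haa, hbb, fun z => ?_⟩
  have hli : LinearIndependent E ![x, a, b] := by
    rw [Fintype.linearIndependent_iff]
    intro g hg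
    simp [Fin.sum_univ_three] at hg
    have e1 := congrArg (fun w => Bf S w x) hg
    have e2 := congrArg (fun w => Bf S w a) hg
    have e3 := congrArg (fun w => Bf S w b) hg
    simp [Bf_add_left, Bf_smul_left, Bf_zero_left, hx, hax, hbx, hxa, haa, hba, hxb, hab, hbb] at e1 e2 e3
    intro i
    fin_cases i
    · exact e1
    · exact e2
    · exact e3
  have htop := hli.span_eq_top_of_card_eq_finrank (by simp [h3])
  obtain ⟨k, rfl⟩ := (Submodule.mem_span_range_iff_exists_fun E).1 (htop ▸ Submodule.mem_top : z ∈ _)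
  simp [Fin.sum_univ_three, Bf_add_left, Bf_smul_left, hax, hbx, hxa, hba, hxb, hab, hx, haa, hbb]

/-- a rotation about an anisotropic vector whose trace on the orthogonal plane is not a scalar -/
theorem exists_rot (hr : 3 ≤ finrank F E) (h3 : finrank E (ι → F) = 3) {x : ι → F} (hx : Bf S x x ≠ 0) :
    ∃ h ∈ M, LinE E h ∧ h ⋆ x = x ∧ ∃ σ : E, σ ∉ Set.range (algebraMap F E) ∧
      ∀ z, Bf S z x = 0 → h ⋆ z + h⁻¹ ⋆ z = σ • z := by
  obtain ⟨a, b, hax, hbx, hab, haa, hbb, hz⟩ := exists_orth_basis S h3 hx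
  have h2 := two_E S
  obtain ⟨κ, hκ⟩ : ∃ κ, κ = Bf S b b / Bf S a a := ⟨_, rfl⟩
  have hκ0 : κ ≠ 0 := hκ ▸ div_ne_zero hbb haa
  -- a parameter outside the scalars
  obtain ⟨t, ht⟩ : ∃ t : E, κ * (t * t) ∉ Set.range (algebraMap F E) := by
    by_contra hc
    push Not at hc
    obtain ⟨ρ, hρ⟩ : ∃ ρ : E, ρ ∉ Set.range (algebraMap F E) := by
      by_contra hc'
      push Not at hc'
      have h1 : (⊤ : Submodule F E) ≤ Submodule.span F {(1 : E)} := fun y _ => by
        obtain ⟨s, hs⟩ := hc' y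
        exact Submodule.mem_span_singleton.2 ⟨s, by rw [Algebra.smul_def, mul_one, hs]⟩
      have h2 := Submodule.finrank_mono h1
      rw [finrank_top, finrank_span_singleton (one_ne_zero (α := E))] at h2
      omega
    obtain ⟨u, hu⟩ := hc 1
    obtain ⟨w, hw⟩ := hc ρ
    refine hρ (mem_range_of_sq S hr ⟨w / u, ?_⟩)
    rw [one_mul, mul_one] at hu
    rw [map_div₀, hu, hw, mul_div_cancel_left₀ _ hκ0]
  have hden : 1 + κ * (t * t) ≠ 0 := fun h => ht ⟨-1, by rw [map_neg, map_one]; linear_combination -h⟩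
  obtain ⟨C, hC⟩ : ∃ C, C = (1 - κ * (t * t)) / (1 + κ * (t * t)) := ⟨_, rfl⟩
  obtain ⟨D, hD⟩ : ∃ D, D = 2 * t / (1 + κ * (t * t)) := ⟨_, rfl⟩
  have hCD : C * C + κ * (D * D) = 1 := by
    rw [hC, hD, div_mul_div_comm, div_mul_div_comm, ← mul_div_assoc, ← add_div, div_eq_one_iff_eq (mul_ne_zero hden hden)]
    ring
  have hCF : C ∉ Set.range (algebraMap F E) := by
    rintro ⟨c, hc⟩
    have hC' : C * (1 + κ * (t * t)) = 1 - κ * (t * t) := by rw [hC, div_mul_cancel₀ _ hden]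
    have h1 : C + 1 ≠ 0 := fun h1 => h2 (by linear_combination -hC' + (1 + κ * (t * t)) * h1)
    refine ht ⟨(1 - c) / (1 + c), ?_⟩
    rw [map_div₀, map_sub, map_add, map_one, hc, div_eq_iff (by rwa [add_comm])]
    linear_combination -hC'
  -- the rotation with cosine `C`
  let rotL : E → ((ι → F) →ₗ[E] (ι → F)) := fun D =>
    (Bl S x).smulRight ((Bf S x x)⁻¹ • x) + (Bl S a).smulRight ((Bf S a a)⁻¹ • (C • a + D • b))
      + (Bl S b).smulRight ((Bf S b b)⁻¹ • ((-(κ * D)) • a + C • b))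
  have hL : ∀ D z, rotL D z = Bf S z x • (Bf S x x)⁻¹ • x + Bf S z a • (Bf S a a)⁻¹ • (C • a + D • b)
      + Bf S z b • (Bf S b b)⁻¹ • ((-(κ * D)) • a + C • b) := fun D z => rfl
  have hxa : Bf S x a = 0 := by rw [Bf_comm S]; exact hax
  have hba : Bf S b a = 0 := by rw [Bf_comm S]; exact hab
  have hxb : Bf S x b = 0 := by rw [Bf_comm S]; exact hbx
  have hCD' : C * C * Bf S a a + D * D * Bf S b b = Bf S a a := by
    rw [hκ] at hCD
    field_simp at hCD
    linear_combination hCD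
  obtain ⟨g, hg, hgx⟩ := exists_sq_mem S (rotL D) fun z => by
    conv_rhs => rw [hz z]
    simp only [hL, Bf_add_left, Bf_add_right, Bf_smul_left, Bf_smul_right, hax, hbx, hxa, hba, hxb, hab, hκ]
    field_simp
    linear_combination (Bf S z a ^ 2 * Bf S b b * Bf S x x + Bf S z b ^ 2 * Bf S x x * Bf S a a) * hCD'
  have hgl : LinE E g := fun e z => by rw [hgx, hgx, map_smul, map_smul]
  have hinv : ∀ z, rotL D (rotL (-D) z) = z := fun z => by
    conv_rhs => rw [hz z]
    simp only [hL, Bf_add_left, Bf_smul_left, hax, hbx, hxa, hba, hxb, hab, hκ]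
    match_scalars
    · field_simp; ring
    · field_simp
      linear_combination (Bf S x x * Bf S z a * Bf S b b) * hCD'
    · field_simp
      linear_combination (Bf S a a * Bf S x x * Bf S z b) * hCD'
  have hginv : ∀ z, g⁻¹ ⋆ z = rotL (-D) (rotL (-D) z) := fun z => by
    apply Matrix.mulVec_injective_of_isUnit (Units.isUnit g)
    show g ⋆ (g⁻¹ ⋆ z) = g ⋆ rotL (-D) (rotL (-D) z)
    rw [gl_mulVec_inv, hgx, hinv, hinv]
  refine ⟨g, hg, hgl, ?_, 4 * (C * C) - 2, fun hσ => hCF (mem_range_of_sq S hr ?_), fun z hzx => ?_⟩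
  · rw [hgx]
    simp [hL, hxa, hxb, smul_smul, hx]
  · obtain ⟨s, hs⟩ := hσ
    refine ⟨(s + 2) / 4, ?_⟩
    have h4 : (4 : E) ≠ 0 := by
      rw [show (4 : E) = 2 * 2 by norm_num]
      exact mul_ne_zero h2 h2
    rw [map_div₀, map_add, hs, map_ofNat, map_ofNat, div_eq_iff h4]
    ring
  · rw [hgx, hginv]
    conv_rhs => rw [hz z, hzx]
    simp only [hL, Bf_add_left, Bf_smul_left, hax, hbx, hxa, hba, hxb, hab, hzx, hκ]
    match_scalars
    · field_simp
      ring
    · field_simp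
      linear_combination -(2 * Bf S x x * Bf S z a * Bf S b b) * hCD'
    · field_simp
      linear_combination -(2 * Bf S a a * Bf S x x * Bf S z b) * hCD'

/-- the image of a line not kept by a map leaves an element fixing a vector and moving its line -/
theorem exists_start_three (hr : 3 ≤ finrank F E) (h3 : finrank E (ι → F) = 3) {g : GL ι F} (hg : g ∈ M) {v : ι → F}
    {e : E} (hv : Bf S v v = 0) (hv0 : v ≠ 0) (hbad : g ⋆ (e • v) ∉ Submodule.span E ({g ⋆ v} : Set (ι → F))) :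
    ∃ g' ∈ M, g' ⋆ v = v ∧ Moves E g' v := by
  by_contra hcon
  push Not at hcon
  have hkeep : ∀ T ∈ M, T ⋆ (g ⋆ v) = g ⋆ v → ∀ z ∈ img E g v, T ⋆ z ∈ img E g v := fun T hT hTx =>
    keeps_img (hcon _ (M.mul_mem (M.mul_mem (M.inv_mem hg) hT) hg)
      (by rw [gl_mul_mulVec, gl_mul_mulVec, hTx, gl_inv_mulVec]))
  obtain ⟨x, hx⟩ : ∃ x, x = g ⋆ v := ⟨_, rfl⟩
  obtain ⟨y, hy⟩ : ∃ y, y = g ⋆ (e • v) := ⟨_, rfl⟩
  rw [← hx, ← hy] at hbad
  rw [← hx] at hkeep
  have hyX : y ∈ img E g v := by rw [hy]; exact img_self g v e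
  have hx0 : x ≠ 0 := fun h => hv0 (gl_mulVec_eq_zero.1 (hx ▸ h))
  have hxX : x ∈ img E g v := mem_img.2 ⟨1, by rw [one_smul, hx]⟩
  by_cases hxx : Bf S x x = 0
  · exact absorb_singular S hxx hx0 (finrank_img_le g v) hyX hbad fun a ha T hT hTa =>
      hkeep T hT (hTa.fix (x := x) hxx (by rw [Bf_comm S]; exact ha))
  obtain ⟨h, hh, hl, hhx, σ, hσ, hσz⟩ := exists_rot S hr h3 hxx
  have hkh := hkeep h hh hhx
  have hkh' := hkeep h⁻¹ (M.inv_mem hh) (by nth_rewrite 1 [← hhx]; rw [gl_inv_mulVec])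
  obtain ⟨y₀, hy₀⟩ : ∃ y₀, y₀ = y - (Bf S y x / Bf S x x) • x := ⟨_, rfl⟩
  have hy₀x : Bf S y₀ x = 0 := by rw [hy₀, Bf_sub_left, Bf_smul_left, div_mul_cancel₀ _ hxx, sub_self]
  obtain ⟨z, hz⟩ : ∃ z, z = h ⋆ y - y := ⟨_, rfl⟩
  have hzy : z = h ⋆ y₀ - y₀ := by rw [hz, hy₀, mulVec_sub, hl, hhx]; abel
  have hiso := le_iso S hh
  have hzx : Bf S z x = 0 := by
    rw [hzy, Bf_sub_left, hy₀x, sub_zero]
    nth_rewrite 1 [← hhx]
    rw [Bf_iso S hiso hl, hy₀x]
  have hy₀0 : y₀ ≠ 0 := fun h0 => hbad (Submodule.mem_span_singleton.2 ⟨Bf S y x / Bf S x x,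
    (sub_eq_zero.1 (hy₀ ▸ h0)).symm⟩)
  have hz0 : z ≠ 0 := fun h0 => by
    rw [hzy, sub_eq_zero] at h0
    have h1 := hσz y₀ hy₀x
    have h2 : h⁻¹ ⋆ y₀ = y₀ := by
      nth_rewrite 1 [← h0]
      rw [gl_inv_mulVec]
    rw [h0, h2] at h1
    refine hσ ⟨2, ?_⟩
    apply smul_left_injective E hy₀0
    show algebraMap F E 2 • y₀ = σ • y₀
    rw [← h1, algebraMap_smul, two_smul]
  obtain ⟨X', hX'⟩ : ∃ X', X' = img E g v ⊓ (LinearMap.ker (Bl S x)).restrictScalars F := ⟨_, rfl⟩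
  have hzX : z ∈ X' := by
    rw [hX']
    refine ⟨?_, hzx⟩
    rw [hz]
    exact Submodule.sub_mem _ (hkh y hyX) hyX
  have hσX : ∀ w ∈ X', σ • w ∈ X' := by
    intro w hw
    rw [hX'] at hw ⊢
    obtain ⟨hw1, hw2⟩ := hw
    refine ⟨?_, ?_⟩
    · rw [← hσz w hw2]
      exact Submodule.add_mem _ (hkh w hw1) (hkh' w hw1)
    · show Bf S (σ • w) x = 0
      rw [Bf_smul_left, show Bf S w x = 0 from hw2, mul_zero]
  let A : Submodule F E :=
    { carrier := {e | ∀ w ∈ X', e • w ∈ X'}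
      zero_mem' := fun w _ => by rw [zero_smul]; exact X'.zero_mem
      add_mem' := fun {p q} hp hq w hw => by rw [add_smul]; exact X'.add_mem (hp w hw) (hq w hw)
      smul_mem' := fun t p hp w hw => by rw [smul_assoc]; exact X'.smul_mem t (hp w hw) }
  have hall : ∀ p : E, p • z ∈ X' := fun p =>
    (alg_top S (A := A.toSubalgebra (fun w hw => by rwa [one_smul]) fun p q hp hq w hw => by
      rw [mul_smul]; exact hp _ (hq w hw)) (d := σ) hσX hσ p :) z hzX
  refine not_line_le S hz0 (y := x) (fun hmem => ?_) (finrank_img_le g v) hxX fun p => ?_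
  obtain ⟨q, hq⟩ := Submodule.mem_span_singleton.1 hmem
  · refine hxx ?_
    nth_rewrite 1 [← hq]
    rw [Bf_smul_left, hzx, mul_zero]
  · have h1 := hall p
    rw [hX'] at h1
    exact h1.1

end CfsgLib.Perm.Trans.OrthExt
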