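import Cfsg.Agent.Lib.Perm.Trans.OrthExt.Three.Axis
import Cfsg.Agent.Lib.Perm.Trans.OrthExt.Three.Start
import Cfsg.Agent.Lib.Perm.Trans.OrthExt.Three.Group
import Cfsg.Agent.Lib.Perm.Trans.OrthExt.Three.Linear
import Cfsg.Agent.Lib.Perm.Trans.OrthExt.Three.Ell

/-!
# Three dimensions over the extension field: rigidity without elements trivial on orthogonals of singular lines

The stabiliser of a good anisotropic vector keeps the two singular lines orthogonal to it.  Its conjugates of the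
rotations show that every element maps lines to lines.
-/

set_option autoImplicit false
set_option linter.all false

namespace CfsgLib.Perm.Trans.OrthExt

open scoped Matrix
open Matrix Module Cfsg.Geo CfsgLib.Perm.Asch CfsgLib.Perm.Trans CfsgLib.Perm.Trans.Quad
open CfsgLib.Perm.Trans.Symp.Ext (tr trDual trDual_apply tr_ext tr_smul_one exists_tr_separate)
open CfsgLib.Perm.Trans.OrthExt.Fixed (fixed_trivial no_anti exists_ell Data)

variable {ι : Type} [Fintype ι] [DecidableEq ι] {F : Type*} [Field F] [Fintype F]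
variable {E : Type*} [Field E] [Algebra F E] [FiniteDimensional F E]
variable [Module E (ι → F)] [IsScalarTower F E (ι → F)]
variable {Q : (ι → F) → F}

local notation "pol" => QuadraticMap.polar
local notation:75 g " ⋆ " x:75 => (Units.val g : Matrix ι ι F) *ᵥ x

variable {M : Subgroup (GL ι F)} {S : OData E Q M} {v x f : ι → F}

theorem Dg.pow (h3 : True) {c : E} {m : GL ι F} (h : Dg E v x f c m) : ∀ k : ℕ, Dg E v x f (c ^ k) (m ^ k) := by
  intro k
  induction k with
  | zero => rw [pow_zero, pow_zero]; exact Dg.one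
  | succ k ih => rw [pow_succ, pow_succ]; exact ih.mul h

/-- the stabiliser of a good vector keeps the line -/
theorem keep_line (hr : 3 ≤ finrank F E) (h3 : finrank E (ι → F) = 3) (hO : NoOz S) (R : Fr S v x f) (hx : Good S x)
    {m : GL ι F} (hm : m ∈ M) (hmx : m ⋆ x = x) :
    ∀ q : E, m ⋆ (q • v) ∈ Submodule.span E ({v} : Set (ι → F)) := by
  classical
  haveI := finite_E S
  haveI := finE S
  haveI : Fintype E := Fintype.ofFinite E
  have hr3 : 3 ≤ finrank F E := by omega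
  obtain ⟨p, hpC⟩ := CharP.exists F
  haveI : Fact p.Prime := ⟨CharP.char_is_prime F p⟩
  have hp2 : p ≠ 2 := fun h => S.two (by
    subst h
    have := CharP.cast_eq_zero F 2
    exact_mod_cast this)
  obtain ⟨G, hG⟩ : ∃ G : Subgroup (GL ι F), ∀ g, g ∈ G ↔ g ∈ M ∧ g ⋆ x = x :=
    ⟨{ carrier := {g | g ∈ M ∧ g ⋆ x = x}
       one_mem' := ⟨M.one_mem, by rw [Units.val_one, one_mulVec]⟩
       mul_mem' := fun {g g'} ⟨hg, h⟩ ⟨hg', h'⟩ => ⟨M.mul_mem hg hg', by rw [gl_mul_mulVec, h', h]⟩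
       inv_mem' := fun {g} ⟨hg, h⟩ => ⟨M.inv_mem hg, by nth_rewrite 1 [← h]; rw [gl_inv_mulVec]⟩ }, fun g => Iff.rfl⟩
  let N : Subgroup G :=
    { carrier := {g | ∃ c : E, Dg E v x f c (g : GL ι F)}
      one_mem' := ⟨1, Dg.one⟩
      mul_mem' := fun {g g'} ⟨c, h⟩ ⟨c', h'⟩ => ⟨c * c', h.mul h'⟩
      inv_mem' := fun {g} ⟨c, h⟩ => ⟨c⁻¹, h.inv⟩ }
  suffices hN : N = ⊤ by
    obtain ⟨c, hc⟩ : (⟨m, (hG m).2 ⟨hm, hmx⟩⟩ : G) ∈ N := hN ▸ Subgroup.mem_top _
    intro q
    rw [show (m : GL ι F) ⋆ (q • v) = (c * q) • v from hc.line q]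
    exact Submodule.smul_mem _ _ (Submodule.mem_span_singleton_self v)
  -- a generator of the Sylow subgroup
  obtain ⟨qc, hqc⟩ : ∃ qc, qc = Fintype.card F := ⟨_, rfl⟩
  have hq3 : 3 ≤ qc ∧ qc % 2 = 1 := by
    have h1 : 1 < Fintype.card F := Fintype.one_lt_card
    have h2 : Fintype.card F % 2 = 1 := by
      refine FiniteField.odd_card_of_char_ne_two fun h => S.two ?_
      have := ringChar.Nat.cast_ringChar (R := F)
      rw [h] at this
      exact_mod_cast this
    omega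
  obtain ⟨ℓ, e, hℓ, hℓ2, hdiv, hnot, hbig⟩ := exists_ell hq3.1 hq3.2 S.prime hr
  obtain ⟨gen, hgen⟩ := IsCyclic.exists_ofOrder_eq_natCard (α := Eˣ)
  have hcardE : Nat.card Eˣ = qc ^ finrank F E - 1 := by
    rw [Nat.card_eq_fintype_card, Fintype.card_units, Module.card_eq_pow_finrank (K := F) (V := E), hqc]
  obtain ⟨dd, hdd⟩ : ∃ dd : Eˣ, dd = gen ^ ((qc ^ finrank F E - 1) / ℓ ^ e) := ⟨_, rfl⟩
  have hqpos : 0 < qc ^ finrank F E - 1 := by
    have : 1 < qc ^ finrank F E := Nat.one_lt_pow (by omega) (by omega)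
    omega
  have hord : orderOf dd = ℓ ^ e := by
    rw [hdd, orderOf_pow_of_dvd (Nat.pos_iff_ne_zero.1 (Nat.div_pos (Nat.le_of_dvd hqpos hdiv) (pow_pos hℓ.pos e)))
      (by rw [hgen, hcardE]; exact Nat.div_dvd_of_dvd hdiv), hgen, hcardE, Nat.div_div_self hdiv hqpos.ne']
  have hprim : IsPrimitiveRoot (dd : E) (ℓ ^ e) := by
    rw [← hord, ← orderOf_units]
    exact IsPrimitiveRoot.orderOf _
  obtain ⟨half, hhalf⟩ : ∃ half, half + half = ℓ ^ e + 1 := ⟨(ℓ ^ e + 1) / 2, by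
    have : ℓ ^ e % 2 = 1 := Nat.odd_iff.1 ((hℓ.odd_of_ne_two hℓ2).pow)
    omega⟩
  obtain ⟨u₀, hu₀, hu₀l, hu₀y⟩ := R.exists_diag h3 (c := (dd : E) ^ half) (pow_ne_zero _ dd.ne_zero)
  have hcc : (dd : E) ^ half * (dd : E) ^ half = dd := by
    rw [← pow_add, hhalf, pow_succ, hprim.pow_eq_one, one_mul]
  rw [hcc] at hu₀y
  have hu₀d : Dg E v x f (dd : E) u₀ := ⟨dd.ne_zero, hu₀l, by simpa using hu₀y 1 0 0, by simpa using hu₀y 0 1 0,
    by simpa using hu₀y 0 0 1⟩
  obtain ⟨u, hu⟩ : ∃ u : G, (u : GL ι F) = u₀ := ⟨⟨u₀, (hG u₀).2 ⟨hu₀, hu₀d.2.2.2.1⟩⟩, rfl⟩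
  have hud : ∀ k : ℕ, Dg E v x f ((dd : E) ^ k) ((u ^ k : G) : GL ι F) := fun k => by
    rw [SubmonoidClass.coe_pow, hu]; exact hu₀d.pow trivial k
  have huN : ∀ k : ℕ, u ^ k ∈ N := fun k => ⟨_, hud k⟩
  have hscal : ∀ {c : E} {g : G}, Dg E v x f c (g : GL ι F) → g = 1 → c = 1 := fun {c g} h h1 => by
    have e := h.2.2.1
    rw [h1, Subgroup.coe_one, Units.val_one, one_mulVec] at e
    exact (smul_left_injective E R.v0 (show (1 : E) • v = c • v by rw [one_smul]; exact e)).symm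
  have hval : ∀ g : G, (g : GL ι F) ∈ M ∧ (g : GL ι F) ⋆ x = x := fun g => (hG _).1 g.2
  have hker : ∀ t ∈ N, t * t ≠ 1 → ∀ g : G, g * t * g⁻¹ ∈ N → g ∈ N := by
    rintro t ⟨c, hc⟩ ht g ⟨c', hc'⟩
    have hcc1 : c * c ≠ 1 := fun h => ht (Subtype.ext ((hc.mul hc).ext R h3 (h.symm ▸ Dg.one)))
    refine stab_diag hr3 h3 hO R hx (hval g).1 (hval g).2 (keep_of_conj hr3 h3 hO R hx (hval g).1 (hval g).2 hc hc'
      hcc1 ?_)
    rw [Subgroup.coe_mul, Subgroup.coe_mul, Subgroup.coe_inv]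
    group
  have hinvol : ∀ t ∈ N, t * t = 1 → t = 1 ∨ Dg E v x f (-1) (t : GL ι F) := by
    rintro t ⟨c, hc⟩ ht
    rcases mul_self_eq_one_iff.1 (hscal (g := t * t) (hc.mul hc) ht) with rfl | rfl
    · exact Or.inl (Subtype.ext (hc.ext R h3 Dg.one))
    · exact Or.inr hc
  obtain ⟨j, hj⟩ : ∃ j : G, (∀ t ∈ N, t * t = 1 → t = 1 ∨ t = j) ∧ (j ≠ 1 → Dg E v x f (-1) (j : GL ι F)) := by
    by_cases h : ∃ t ∈ N, t * t = 1 ∧ t ≠ 1
    · obtain ⟨j, hjN, hj2, hj1⟩ := h
      have hjd := (hinvol j hjN hj2).resolve_left hj1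
      exact ⟨j, fun t ht h2 => (hinvol t ht h2).imp_right fun hd => Subtype.ext (hd.ext R h3 hjd), fun _ => hjd⟩
    · push Not at h
      exact ⟨1, fun t ht h2 => Or.inl (h t ht h2), fun h => absurd rfl h⟩
  have hd : Data N u j p ℓ e (finrank F E) :=
  { mem := by have := huN 1; rwa [pow_one] at this
    prime := hℓ
    odd := hℓ2
    ord := by
      have h1 : orderOf u = orderOf dd := orderOf_eq_orderOf_iff.2 fun k => by
        refine ⟨fun h => Units.ext ?_, fun h => Subtype.ext ((hud k).ext R h3 ?_)⟩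
        · rw [Units.val_pow_eq_pow_val, Units.val_one]
          exact hscal (hud k) h
        · rw [← Units.val_pow_eq_pow_val, h, Units.val_one]
          exact Dg.one
      rw [h1, hord]
    big := by omega
    four := by omega
    p_prime := Fact.out
    p_odd := hp2
    comm := by
      rintro a ⟨c, hc⟩ b ⟨c', hc'⟩
      exact Subtype.ext ((hc.mul hc').ext R h3 (mul_comm c' c ▸ hc'.mul hc))
    sylow := by
      rintro t ⟨c, hc⟩ k ht
      have hck : c ^ ℓ ^ k = 1 := hscal (g := t ^ ℓ ^ k) (by rw [SubmonoidClass.coe_pow]; exact hc.pow trivial _) ht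
      obtain ⟨cu, hcu⟩ : ∃ cu : Eˣ, (cu : E) = c := ⟨Units.mk0 c hc.1, rfl⟩
      have h1 : orderOf cu ∣ ℓ ^ k := orderOf_dvd_of_pow_eq_one (Units.ext (by
        rw [Units.val_pow_eq_pow_val, Units.val_one, hcu, hck]))
      obtain ⟨i, hi, hoc⟩ := (Nat.dvd_prime_pow hℓ).1 h1
      have hie : i ≤ e := by
        by_contra hlt
        refine hnot ((pow_dvd_pow ℓ (by omega : e + 1 ≤ i)).trans ?_)
        rw [← hoc, ← hcardE]
        exact orderOf_dvd_natCard cu
      have hcL : c ^ ℓ ^ e = 1 := by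
        rw [← hcu, ← Units.val_pow_eq_pow_val, orderOf_dvd_iff_pow_eq_one.1 (hoc ▸ pow_dvd_pow ℓ hie), Units.val_one]
      haveI : NeZero (ℓ ^ e) := ⟨(pow_pos hℓ.pos e).ne'⟩
      obtain ⟨n, -, hn⟩ := hprim.eq_pow_of_pow_eq_one hcL
      exact ⟨n, by show u ^ (n : ℤ) = t; rw [zpow_natCast]; exact Subtype.ext ((hud n).ext R h3 (hn ▸ hc))⟩
    ker := hker
    invol := hj.1
    small := fun A hA => by
      have h := small_fix hr3 h3 hO R p (A := A.map G.subtype) (fun g hg => by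
          obtain ⟨a, -, rfl⟩ := hg
          exact (hval a).1) (hA.map _) hx.1 fun g hg => by
          obtain ⟨a, -, rfl⟩ := hg
          exact (hval a).2
      rwa [← Nat.card_congr (Subgroup.equivMapOfInjective A G.subtype G.subtype_injective).toEquiv] at h
    fpf := fun A hA hpA hAN => by
      let ρ : G →* Matrix ι ι F := (Units.coeHom _).comp G.subtype
      obtain ⟨P, hP⟩ : ∃ P, P = minpoly F (dd : E) * minpoly F (dd : E)⁻¹ * (Polynomial.X - Polynomial.C 1) := ⟨_, rfl⟩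
      have hdint : IsIntegral F (dd : E) := Algebra.IsIntegral.isIntegral _
      have hdint' : IsIntegral F (dd : E)⁻¹ := Algebra.IsIntegral.isIntegral _
      have hdeg : P.natDegree ≤ 2 * finrank F E + 1 := by
        rw [hP, two_mul]
        exact Polynomial.natDegree_mul_le.trans (Nat.add_le_add (Polynomial.natDegree_mul_le.trans
          (Nat.add_le_add (minpoly.natDegree_le _) (minpoly.natDegree_le _))) (Polynomial.natDegree_X_sub_C 1).le)
      have hP0 : P.coeff 0 ≠ 0 := by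
        rw [hP, Polynomial.mul_coeff_zero, Polynomial.mul_coeff_zero]
        refine mul_ne_zero (mul_ne_zero (minpoly.coeff_zero_ne_zero hdint dd.ne_zero)
          (minpoly.coeff_zero_ne_zero hdint' (inv_ne_zero dd.ne_zero))) ?_
        simp
      have hPu : Polynomial.aeval (ρ u) P = 0 := by
        have hroot : Polynomial.aeval (dd : E) P = 0 ∧ Polynomial.aeval (1 : E) P = 0 ∧
            Polynomial.aeval (dd : E)⁻¹ P = 0 := by
          simp [hP]
        obtain ⟨L, hL⟩ : ∃ L : (ι → F) →ₗ[F] (ι → F), L = Matrix.toLin' (u₀ : Matrix ι ι F) := ⟨_, rfl⟩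
        have hLy : ∀ y, L y = u₀ ⋆ y := fun y => by rw [hL, Matrix.toLin'_apply]
        have hzero : Polynomial.aeval L P = 0 := LinearMap.ext fun y => by
          rw [R.expand h3 y, map_add, map_add, aeval_line (e := (dd : E)) (fun q => by rw [hLy, hu₀d.line]) P,
            aeval_line (e := (1 : E)) (fun q => by rw [hLy, hu₀d.2.1, hu₀d.2.2.2.1, one_mul]) P,
            aeval_line (e := (dd : E)⁻¹) (fun q => by rw [hLy, hu₀d.2.1, hu₀d.2.2.2.2, smul_smul, mul_comm]) P,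
            hroot.1, hroot.2.1, hroot.2.2]
          simp
        have h := Polynomial.aeval_algHom_apply (Matrix.toLinAlgEquiv' (R := F) (n := ι)).toAlgHom (ρ u) P
        rw [show (Matrix.toLinAlgEquiv' (R := F) (n := ι)).toAlgHom (ρ u) = L by
          rw [hL]; show Matrix.toLinAlgEquiv' (((u : G) : GL ι F) : Matrix ι ι F) = _; rw [hu]; rfl, hzero] at h
        exact (Matrix.toLinAlgEquiv' (R := F) (n := ι)).injective (h.symm.trans (map_zero _).symm)
      refine fixed_trivial ρ (fun a b h => Subtype.ext (Units.ext h)) (u := u) P hPu hP0 A hA (fun k hk hk' a ha hka => ?_)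
        (fun h => hpA ((CharP.cast_eq_zero_iff F p _).1 h))
      refine hAN a ha (hker (u ^ k) (huN k) (fun h => ?_) a ?_)
      · have h1 : ((dd : E) ^ k) * ((dd : E) ^ k) = 1 := hscal (g := u ^ k * u ^ k)
          (by rw [Subgroup.coe_mul]; exact (hud k).mul (hud k)) h
        rw [← pow_add] at h1
        have h2 := hprim.dvd_of_pow_eq_one _ h1
        have h3' : ℓ ^ e ∣ k := (Nat.Coprime.pow_left _ ((Nat.coprime_primes hℓ Nat.prime_two).2
          hℓ2)).dvd_of_dvd_mul_left (by rwa [two_mul])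
        exact absurd (Nat.le_of_dvd hk h3') (by omega)
      · rw [← mul_inv_eq_iff_eq_mul.1 hka, mul_inv_cancel_right]
        exact huN k
    anti := fun hj1 a a' b b' cja cja' cjb cjb' sa sb aa ab c11 c12 c21 c22 => by
      have hjd := hj.2 hj1
      let φ : G →* Module.End F (ι → F) :=
        ((Matrix.toLinAlgEquiv' (R := F) (n := ι)).toAlgHom : Matrix ι ι F →* Module.End F (ι → F)).comp
          ((Units.coeHom _).comp G.subtype)
      have hφ : ∀ g y, φ g y = (g : GL ι F) ⋆ y := fun g y => Matrix.toLin'_apply _ _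
      have hinj : ∀ g : G, Function.Injective (φ g) := fun g y y' h =>
        Matrix.mulVec_injective_of_isUnit (Units.isUnit (g : GL ι F)) (show (g : GL ι F) ⋆ y = (g : GL ι F) ⋆ y' by
          rw [← hφ, ← hφ, h])
      refine no_anti (F := F) (V := ι → F) S.two (S.prime.eq_two_or_odd.resolve_left (by omega)) (J := φ j) (X := φ a) (X' := φ a')
        (Y := φ b) (Y' := φ b') ?_ (hinj a) (hinj a') (hinj b') (cja.map φ) (cja'.map φ) (cjb.map φ) (cjb'.map φ)
        (by rw [← map_mul, sa]) (by rw [← map_mul, sb]) (by rw [← map_mul, aa, map_mul, map_mul])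
        (by rw [← map_mul, ab, map_mul, map_mul]) (c11.map φ) (c12.map φ) (c21.map φ) (c22.map φ)
      let lin : E × E →ₗ[F] (ι → F) := (lineMap v).coprod (lineMap f)
      have hlin : Function.Injective lin := (injective_iff_map_eq_zero lin).2 fun ⟨k, l⟩ h => by
        have h' : k • v + l • f = 0 := h
        have e1 := congrArg (fun z => Bf S z f) h'
        have e3 := congrArg (fun z => Bf S z v) h'
        simp [Bf_add_left, Bf_smul_left, Bf_zero_left, R.vv, R.ff, R.vf, R.fv] at e1 e3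
        rw [e1, e3]; rfl
      have hker : LinearMap.ker (φ j + 1) = LinearMap.range lin := by
        ext y
        rw [LinearMap.mem_ker, LinearMap.add_apply, Module.End.one_apply, hφ]
        constructor
        · intro hy
          rw [R.expand h3 y] at hy ⊢
          simp only [mulVec_add, hjd.2.1 _ v, hjd.2.1 _ x, hjd.2.1 _ f, hjd.2.2.1, hjd.2.2.2.1, hjd.2.2.2.2] at hy
          have e := congrArg (fun z => Bf S z x) hy
          simp [Bf_add_left, Bf_smul_left, Bf_neg_left, Bf_zero_left, R.va, R.fa, R.aa] at e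
          rw [← two_mul, mul_eq_zero] at e
          refine ⟨(Bf S y f, Bf S y v), ?_⟩
          have e' : Bf S y x = 0 := e.resolve_left (two_E S)
          show Bf S y f • v + Bf S y v • f = _
          rw [e', zero_div, zero_smul, add_zero]
        · rintro ⟨⟨k, l⟩, rfl⟩
          show (j : GL ι F) ⋆ (k • v + l • f) + (k • v + l • f) = 0
          rw [mulVec_add, hjd.2.1, hjd.2.1, hjd.2.2.1, hjd.2.2.2.2, inv_neg_one]
          simp only [neg_one_smul, smul_neg]
          abel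
      rw [hker, LinearMap.finrank_range_of_inj hlin, Module.finrank_prod, two_mul] }
  exact hd.eq_top

/-- a good vector orthogonal to a singular one maps its line to a line -/
theorem axis_line (hr : 3 ≤ finrank F E) (h3 : finrank E (ι → F) = 3) (hO : NoOz S) (R : Fr S v x f) (hx : Good S x)
    {g : GL ι F} (hg : g ∈ M) (e : E) : ∃ c : E, g ⋆ (e • x) = c • (g ⋆ x) := by
  obtain ⟨y, hy⟩ : ∃ y, y = g ⋆ x := ⟨_, rfl⟩
  have hyy : Bf S y y ≠ 0 := fun h => hx.1 (by
    have e := Q_eq S y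
    rw [h, map_zero, hy, mem_iso.1 (le_iso S hg)] at e
    exact (mul_eq_zero.1 e).resolve_left S.two)
  obtain ⟨h, hh, hhl, hhy, σ, hσ, hσz⟩ := exists_rot S (by omega) h3 hyy
  obtain ⟨m, hm⟩ : ∃ m, m = g⁻¹ * h * g := ⟨_, rfl⟩
  have hmM : m ∈ M := hm ▸ M.mul_mem (M.mul_mem (M.inv_mem hg) hh) hg
  have hmx : m ⋆ x = x := by rw [hm, gl_mul_mulVec, gl_mul_mulVec, ← hy, hhy, hy, gl_inv_mulVec]
  obtain ⟨c, hd⟩ := stab_diag (by omega) h3 hO R hx hmM hmx (keep_line hr h3 hO R hx hmM hmx)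
  obtain ⟨z, hz⟩ : ∃ z, z = g ⋆ (e • x) := ⟨_, rfl⟩
  have hfix : h ⋆ z = z := by
    have h1 : m ⋆ (e • x) = e • x := by rw [hd.2.1, hd.2.2.2.1]
    rw [hm, gl_mul_mulVec, gl_mul_mulVec, ← hz] at h1
    have h2 := congrArg (fun w => g ⋆ w) h1
    simp only [gl_mulVec_inv] at h2
    rw [h2, hz]
  obtain ⟨z₀, hz₀⟩ : ∃ z₀, z₀ = z - (Bf S z y / Bf S y y) • y := ⟨_, rfl⟩
  have hz₀y : Bf S z₀ y = 0 := by rw [hz₀, Bf_sub_left, Bf_smul_left, div_mul_cancel₀ _ hyy, sub_self]
  have hfix₀ : h ⋆ z₀ = z₀ := by rw [hz₀, mulVec_sub, hhl, hhy, hfix]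
  have h2 := hσz z₀ hz₀y
  rw [hfix₀, show h⁻¹ ⋆ z₀ = z₀ by nth_rewrite 1 [← hfix₀]; rw [gl_inv_mulVec]] at h2
  have hzero : z₀ = 0 := by
    by_contra hne
    refine hσ ⟨2, ?_⟩
    apply smul_left_injective E hne
    show algebraMap F E 2 • z₀ = σ • z₀
    rw [← h2, algebraMap_smul, two_smul]
  exact ⟨Bf S z y / Bf S y y, by rw [← hy, ← hz]; exact sub_eq_zero.1 (hz₀ ▸ hzero)⟩

/-- every element maps singular lines to lines -/
theorem lines_to_lines (hr : 3 ≤ finrank F E) (h3 : finrank E (ι → F) = 3) (hO : NoOz S) {g : GL ι F} (hg : g ∈ M)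
    (hv : Bf S v v = 0) (hv0 : v ≠ 0) (e : E) : g ⋆ (e • v) ∈ Submodule.span E ({g ⋆ v} : Set (ι → F)) := by
  haveI := finite_E S
  obtain ⟨a, f, R⟩ := exists_frame S hv hv0
  obtain ⟨ζ, hζ, hgood⟩ := exists_good (S := S) hr R.aa
  obtain ⟨x, hx⟩ : ∃ x, x = ζ • a := ⟨_, rfl⟩
  rw [← hx] at hgood
  have Rx : Fr S v x f := ⟨R.vv, R.ff, R.vf, by rw [hx, Bf_smul_left, R.av, mul_zero],
    by rw [hx, Bf_smul_left, R.af, mul_zero], hgood.aniso⟩
  obtain ⟨β, hβ⟩ : ∃ β, β = Bf S x x := ⟨_, rfl⟩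
  have hβ0 : β ≠ 0 := hβ ▸ hgood.aniso
  obtain ⟨x₂, hx₂⟩ : ∃ x₂, x₂ = x + v := ⟨_, rfl⟩
  have hx₂x₂ : Bf S x₂ x₂ = Bf S x x := by
    simp only [hx₂, Bf_add_left, Bf_add_right, Rx.va, Rx.av, R.vv, add_zero]
  have hgood₂ : Good S x₂ := ⟨by rw [Q_congr S hx₂x₂]; exact hgood.1, fun τ hτ => hgood.2 τ (by rwa [hx₂x₂] at hτ)⟩
  have R₂ : Fr S v x₂ (f - β⁻¹ • x - ((2 : E)⁻¹ * β⁻¹) • v) := by
    have h2 := two_E S
    constructor <;>
      simp only [hx₂, Bf_add_left, Bf_add_right, Bf_sub_left, Bf_sub_right, Bf_smul_left, Bf_smul_right, R.vv, R.ff,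
        R.vf, R.fv, Rx.va, Rx.av, Rx.fa, Rx.af, ← hβ] <;>
      first
        | (field_simp; ring1)
        | (simp; exact hβ0)
  choose c₁ hc₁ using fun e => axis_line hr h3 hO Rx hgood hg e
  obtain ⟨c₂, hc₂⟩ := axis_line hr h3 hO R₂ hgood₂ hg e
  have hs : Function.Surjective c₁ := Finite.surjective_of_injective fun p q h => by
    apply smul_left_injective E (show x ≠ 0 from fun h => hgood.aniso (by rw [h, Bf_zero_left]))
    apply Matrix.mulVec_injective_of_isUnit (Units.isUnit g)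
    show g ⋆ (p • x) = g ⋆ (q • x)
    rw [hc₁, hc₁, h]
  have hperp : ∀ p : E, Bf S (g ⋆ (p • v)) (g ⋆ x) = 0 := fun p => tr_ext (F := F) fun q => by
    obtain ⟨q', rfl⟩ := hs q
    rw [mul_zero, map_zero, ← pol_smul_right S, ← hc₁, iso_pol (le_iso S hg), pol_smul_right S, Bf_smul_left, Rx.va,
      mul_zero, mul_zero, map_zero]
  have hev : g ⋆ (e • v) = c₂ • (g ⋆ v) + (c₂ - c₁ e) • (g ⋆ x) := by
    have h := hc₂
    rw [hx₂, smul_add, mulVec_add, mulVec_add, hc₁, smul_add] at h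
    linear_combination (norm := module) h
  have h0 := hperp e
  rw [hev, Bf_add_left, Bf_smul_left, Bf_smul_left, show Bf S (g ⋆ v) (g ⋆ x) = 0 by
    have := hperp 1; rwa [one_smul] at this, mul_zero, zero_add] at h0
  have hgg : Bf S (g ⋆ x) (g ⋆ x) ≠ 0 := fun h => hgood.1 (by
    have e := Q_eq S (g ⋆ x)
    rw [h, map_zero, mem_iso.1 (le_iso S hg)] at e
    exact (mul_eq_zero.1 e).resolve_left S.two)
  rw [hev, (mul_eq_zero.1 h0).resolve_right hgg, zero_smul, add_zero]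
  exact Submodule.smul_mem _ _ (Submodule.mem_span_singleton_self _)

end CfsgLib.Perm.Trans.OrthExt
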