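import Cfsg.Agent.Lib.Perm.Trans.OrthExt.Three.Descent

/-!
# Three dimensions over the extension field: long root elements

An element fixing a hyperplane of a singular line, with the image of the line orthogonal to it, conjugates an element
trivial on the orthogonal of the line into one fixing the line and trivial on the quotient.  Its commutators with the
Eichler transformations over the field are the long root elements at a point of the line.
-/

set_option autoImplicit false
set_option linter.all false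

namespace CfsgLib.Perm.Trans.OrthExt

open scoped Matrix
open Matrix Module Cfsg.Geo CfsgLib.Perm.Asch CfsgLib.Perm.Trans CfsgLib.Perm.Trans.Quad
open CfsgLib.Perm.Trans.Symp.Ext (tr trDual trDual_apply tr_ext tr_smul_one exists_tr_separate)

variable {ι : Type} [Fintype ι] [DecidableEq ι] {F : Type*} [Field F] [Fintype F]
variable {E : Type*} [Field E] [Algebra F E] [FiniteDimensional F E]
variable [Module E (ι → F)] [IsScalarTower F E (ι → F)]
variable {Q : (ι → F) → F}

local notation "pol" => QuadraticMap.polar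
local notation:75 g " ⋆ " x:75 => (Units.val g : Matrix ι ι F) *ᵥ x

variable {M : Subgroup (GL ι F)} {S : OData E Q M} {g : GL ι F} {v a f : ι → F} {ρ : E}

/-- long root elements at a point of the line -/
theorem exists_root_three (hr : 3 ≤ finrank F E) (h3 : finrank E (ι → F) = 3) (H : Hyp S g v ρ)
    (hP : ∀ p : E, Bf S (g ⋆ (p • v)) v = 0) (R : Fr S v a f) (hA : ∃ ω, Oz S v ω ∧ ω ≠ 0) :
    ∃ κ : E, κ ≠ 0 ∧ ∀ η : E, EIn Q M (κ • v) (η • v) := by
  have hv := H.vv
  have hρ := H.ρ0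
  have hg := le_iso S H.mem
  -- a map not killing `ρ`
  obtain ⟨ω, hω, hκ⟩ : ∃ ω, Oz S v ω ∧ ω ρ ≠ 0 := by
    by_contra hcon
    push Not at hcon
    obtain ⟨ω₀, hω₀, hne⟩ := hA
    have h1 : (⊤ : Submodule F E) ≤ Submodule.span F {ρ} := fun y _ =>
      ann_line (S := S) hr (W := {ω | Oz S v ω}) (fun ω hω c hc => Oz.dconj' R h3 hω hc)
        (fun ω hω p p' => Oz.skew R hω p p') hω₀ hne hρ fun ω hω => by rw [hcon ω hω, zero_mul, map_zero]
    have h2 := Submodule.finrank_mono h1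
    rw [finrank_top, finrank_span_singleton hρ] at h2
    omega
  obtain ⟨κ, hκd⟩ : ∃ κ, κ = ω ρ := ⟨_, rfl⟩
  have hκ0 : κ ≠ 0 := hκd ▸ hκ
  have hκρ : tr F E (κ * ρ) = 0 := by
    have e := Oz.skew R hω ρ ρ
    rw [← hκd, mul_comm ρ] at e
    exact (mul_eq_zero.1 (show (2 : F) * tr F E (κ * ρ) = 0 by linear_combination e)).resolve_left S.two
  obtain ⟨z, hz, hzy⟩ := hω
  obtain ⟨u, hu⟩ : ∃ u, u = g⁻¹ * z * g := ⟨_, rfl⟩
  have hulin : ∀ p : E, u ⋆ (p • v) = p • v := fun p => by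
    rw [hu, gl_mul_mulVec, gl_mul_mulVec, hzy, hP, map_zero, zero_smul, add_zero, gl_inv_mulVec]
  have hPer : ∀ w, Bf S w v = 0 → Per Q v ρ (g ⋆ w) := fun w hw p hp => by
    rw [← H.fix p hp, iso_pol hg, pol_of_perp S hw]
  have huw : ∀ w, Bf S w v = 0 → u ⋆ w = w + (pol Q (g ⋆ w) (ρ⁻¹ • v) • κ) • v := fun w hw => by
    apply Matrix.mulVec_injective_of_isUnit (Units.isUnit g)
    show g ⋆ (u ⋆ w) = g ⋆ (w + (pol Q (g ⋆ w) (ρ⁻¹ • v) • κ) • v)
    rw [hu, gl_mul_mulVec, gl_mul_mulVec, gl_mulVec_inv, hzy, per_Bf S hρ (hPer w hw), map_smul, ← hκd, mulVec_add,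
      H.fix _ (by rw [smul_mul_assoc, map_smul, hκρ, smul_zero])]
  have hU : UE S v u := ⟨hu ▸ M.mul_mem (M.mul_mem (M.inv_mem H.mem) hz) H.mem, hulin, fun w hw => by
    rw [huw w hw, add_sub_cancel_left]
    exact Submodule.smul_mem _ _ (Submodule.mem_span_singleton_self v)⟩
  -- the functional on the quotient
  let lam : E →ₗ[F] F :=
    { toFun := fun p => pol Q (g ⋆ (p • a)) (ρ⁻¹ • v)
      map_add' := fun p q => by simp only [add_smul, mulVec_add, padd_left S.form]
      map_smul' := fun t p => by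
        simp only [RingHom.id_apply, smul_assoc, mulVec_smul, psmul_left S.form, smul_eq_mul] }
  have hX : ∀ p : E, Bf S (u ⋆ (p • a)) f = lam p • κ := fun p => by
    rw [huw _ (by rw [Bf_smul_left, R.av, mul_zero]), Bf_add_left, Bf_smul_left, Bf_smul_left, R.af, R.vf]
    show _ = pol Q (g ⋆ (p • a)) (ρ⁻¹ • v) • κ
    ring
  obtain ⟨lam', hlam⟩ : ∃ lam', lam' = (trDual F E).symm lam := ⟨_, rfl⟩
  have hlam' : ∀ p, lam p = tr F E (p * lam') := fun p => by
    rw [hlam, ← trDual_apply, LinearEquiv.apply_symm_apply]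
  have hl0 : lam' ≠ 0 := fun h => by
    have hperp : ∀ w, Bf S w v = 0 → Bf S (g ⋆ w) v = 0 := fun w hw => by
      rw [R.perp h3 hw, mulVec_add, Bf_add_left, hP, zero_add,
        per_Bf S hρ (hPer _ (by rw [Bf_smul_left, R.av, mul_zero]))]
      have := hlam' (Bf S w a / Bf S a a)
      rw [h, mul_zero, map_zero] at this
      rw [show pol Q (g ⋆ ((Bf S w a / Bf S a a) • a)) (ρ⁻¹ • v) = 0 from this, zero_smul]
    obtain ⟨p, hp⟩ := H.moves
    refine hp (mem_line_of_perp S fun x hx => ?_)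
    let T : {w : ι → F // Bf S w v = 0} → {w : ι → F // Bf S w v = 0} := fun w => ⟨g ⋆ w.1, hperp _ w.2⟩
    have hTi : Function.Injective T := fun w w' h =>
      Subtype.ext (Matrix.mulVec_injective_of_isUnit (Units.isUnit g) (congrArg Subtype.val h))
    obtain ⟨w, hw⟩ := Finite.surjective_of_injective hTi ⟨x, hx⟩
    rw [show x = g ⋆ w.1 from (congrArg Subtype.val hw).symm, iso_pol hg, pcomm, pol_of_perp S w.2]
  have hα : ∀ c : E, Bf S (u ⋆ (c • f)) a = -(tr F E (c * κ) • lam') := fun c => tr_ext (F := F) fun p => by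
    have e := iso_pol (le_iso S hU.1) (c • f) (p • a)
    rw [hU.apply_a R, hX, padd_right S.form, pol_smul_right S, pol_smul_right S, hU.Bf_v, Bf_smul_left, R.fv,
      pol_smul_right S, Bf_smul_left, R.fa, mul_zero, mul_zero, map_zero, mul_one] at e
    rw [mul_neg, map_neg, mul_smul_comm, map_smul, smul_eq_mul, mul_comm c κ, ← hlam']
    rw [smul_mul_assoc, map_smul, smul_eq_mul] at e
    linear_combination e
  refine ⟨κ, hκ0, fun θ => ?_⟩
  obtain ⟨D, hD, hDy⟩ := hU.comm R h3 (-θ / lam')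
  refine ⟨D, hD, fun y => ?_⟩
  rw [hDy, hX, hlam', hα, pol_smul_right S, pol_smul_right S, Q_sing S hv, zero_mul, zero_smul, sub_zero]
  have e1 : tr F E (Bf S y v * (-θ / lam') * lam') = -tr F E (θ * Bf S y v) := by
    rw [← map_neg]; congr 1; field_simp
  have e2 : -θ / lam' * -(tr F E (Bf S y v * κ) • lam') = tr F E (κ * Bf S y v) • θ := by
    rw [mul_comm κ, Algebra.smul_def, Algebra.smul_def]
    field_simp
  rw [e1, e2, add_smul, neg_smul, neg_smul, smul_assoc, smul_assoc]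
  abel

/-- a centre, when elements are trivial on the orthogonals of singular lines -/
theorem centre_three (hr : 3 ≤ finrank F E) (h3 : finrank E (ι → F) = 3) (R : Fr S v a f)
    (hA : ∃ ω, Oz S v ω ∧ ω ≠ 0) {g₀ : GL ι F} {v₀ : ι → F} (h₀ : Adm S g₀ v₀) :
    ∃ e ∈ eCentres Q M, ∃ e' ∈ eCentres Q M, pol Q e e' ≠ 0 := by
  have hA' : ∀ w : ι → F, Bf S w w = 0 → w ≠ 0 → ∃ ω, Oz S w ω ∧ ω ≠ 0 := fun w hw hw0 =>
    Oz.transport h3 R hA hw hw0
  rcases exists_hyp_three hr h3 hA' h₀ with ⟨w, hw, hw0, hwc⟩ | ⟨g, v', ρ, H, hP⟩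
  · exact exists_opposite S hw hw0 one_ne_zero (by rwa [one_smul])
  obtain ⟨a', f', R'⟩ := exists_frame S H.vv H.v0
  obtain ⟨κ₀, hκ₀, hroot⟩ := exists_root_three (by omega) h3 H hP R' (hA' v' H.vv H.v0)
  obtain ⟨κ, hκ, hκc⟩ := centre_of_roots S (by omega) H fun p hp η =>
    full_line S (by omega) H.vv H.v0 hκ₀ hroot hp η
  exact exists_opposite S H.vv H.v0 hκ hκc

end CfsgLib.Perm.Trans.OrthExt
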