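import Cfsg.Agent.Lib.Perm.Trans.OrthExt.Three.Entry

/-!
# Three dimensions over the extension field: the stabiliser of a good anisotropic vector

No element is trivial on the orthogonal of a singular line.  Then the elements keeping a singular line are semilinear,
those fixing a good anisotropic vector besides are diagonal, and subgroups of order a power of the characteristic
fixing an anisotropic vector are small.
-/

set_option autoImplicit false
set_option linter.all false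

namespace CfsgLib.Perm.Trans.OrthExt

open scoped Matrix
open Matrix Module Cfsg.Geo CfsgLib.Perm.Asch CfsgLib.Perm.Trans CfsgLib.Perm.Trans.Quad
open CfsgLib.Perm.Trans.Symp.Ext (tr trDual trDual_apply tr_ext tr_smul_one exists_tr_separate)

variable {ι : Type} [Fintype ι] [DecidableEq ι] {F : Type*} [Field F] [Fintype F]
variable {E : Type*} [Field E] [Algebra F E] [FiniteDimensional F E]
variable [Module E (ι → F)] [IsScalarTower F E (ι → F)]
variable {Q : (ι → F) → F}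

local notation "pol" => QuadraticMap.polar
local notation:75 g " ⋆ " x:75 => (Units.val g : Matrix ι ι F) *ᵥ x

theorem det_one_of_omega {g : GL ι F} (hg : g ∈ omegaGL Q) : (g : Matrix ι ι F).det = 1 := by
  obtain ⟨x, hx, rfl⟩ := Subgroup.mem_map.1 hg
  let φ : Cfsg.isometryGroup F Q →* Fˣ := Matrix.GeneralLinearGroup.det.comp (Cfsg.isometryGroup F Q).subtype
  have h := Abelianization.commutator_subset_ker φ hx
  exact congrArg Units.val (MonoidHom.mem_ker.1 h)

variable {M : Subgroup (GL ι F)}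

/-- no element is trivial on the orthogonal of a singular line -/
def NoOz (S : OData E Q M) : Prop := ∀ v : ι → F, Bf S v v = 0 → v ≠ 0 → ∀ ω, Oz S v ω → ω = 0

/-- semilinear isometries fixing `x` are linear -/
def Good (S : OData E Q M) (x : ι → F) : Prop :=
  Q x ≠ 0 ∧ ∀ τ : E →ₐ[F] E, (∀ p, tr F E (τ p * Bf S x x) = tr F E (p * Bf S x x)) → τ = AlgHom.id F E

/-- diagonal in a frame -/
def Dg (E : Type*) [Field E] [Algebra F E] [Module E (ι → F)] (v x f : ι → F) (c : E) (m : GL ι F) : Prop :=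
  c ≠ 0 ∧ LinE E m ∧ m ⋆ v = c • v ∧ m ⋆ x = x ∧ m ⋆ f = c⁻¹ • f

variable {S : OData E Q M} {v x f : ι → F}

theorem Good.aniso (h : Good S x) : Bf S x x ≠ 0 := fun h0 => h.1 (by
  have e := Q_eq S x
  rw [h0, map_zero] at e
  exact (mul_eq_zero.1 e).resolve_left S.two)

theorem Semi.lin_of_fix {g : GL ι F} (hg : g ∈ M) (h : Semi E g) (hx : Good S x) (hgx : g ⋆ x = x) : LinE E g := by
  obtain ⟨τ, hτ⟩ := h
  have hid := hx.2 τ fun p => by
    have e := iso_pol (le_iso S hg) (p • x) x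
    rwa [hτ, hgx, pol_smul_left S, pol_smul_left S] at e
  exact fun e y => by rw [hτ, hid, AlgHom.id_apply]

theorem exists_good (hr : 3 ≤ finrank F E) {a : ι → F} (ha : Bf S a a ≠ 0) : ∃ ζ : E, ζ ≠ 0 ∧ Good S (ζ • a) := by
  classical
  haveI := finite_E S
  haveI : Fintype E := Fintype.ofFinite E
  obtain ⟨α, hα⟩ : ∃ α, α = Bf S a a := ⟨_, rfl⟩
  rw [← hα] at ha
  have hβ : ∀ ζ : E, Bf S (ζ • a) (ζ • a) = ζ * ζ * α := fun ζ => by
    rw [Bf_smul_left, Bf_smul_right, ← hα, mul_assoc]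
  let Z : Submodule F E := LinearMap.ker (tr F E)
  let Fx : (E →ₐ[F] E) → Submodule F E := fun τ =>
    { carrier := {β | ∀ p, tr F E (τ p * β) = tr F E (p * β)}
      zero_mem' := fun p => by simp
      add_mem' := fun {b b'} hb hb' p => by rw [mul_add, mul_add, map_add, map_add, hb p, hb' p]
      smul_mem' := fun t b hb p => by rw [mul_smul_comm, mul_smul_comm, map_smul, map_smul, hb p] }
  have hFx : ∀ τ : E →ₐ[F] E, τ ≠ AlgHom.id F E → finrank F (Fx τ) ≤ 1 := by
    intro τ hτ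
    rcases eq_or_ne (Fx τ) ⊥ with h | h
    · rw [h, finrank_bot]
      exact Nat.zero_le _
    obtain ⟨β₀, hβ₀, hne⟩ := Submodule.exists_mem_ne_zero_of_ne_bot h
    refine le_trans (Submodule.finrank_mono (fun β hβm => ?_ : Fx τ ≤ Submodule.span F {β₀}))
      (le_of_eq (finrank_span_singleton hne))
    obtain ⟨c, hc⟩ : ∃ c, c = β / β₀ := ⟨_, rfl⟩
    have hcβ : β = c * β₀ := by rw [hc, div_mul_cancel₀ _ hne]
    have hτc : τ c = c := by
      have hs : Function.Surjective τ := (Finite.injective_iff_surjective (α := E) (f := τ)).1 τ.toRingHom.injective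
      apply mul_right_cancel₀ hne
      refine tr_ext (F := F) fun q => ?_
      obtain ⟨p, rfl⟩ := hs q
      have e1 := hβm p
      have e2 := hβ₀ (p * c)
      rw [hcβ] at e1
      rw [map_mul τ] at e2
      rw [← mul_assoc, e2, e1, mul_assoc]
    by_cases hcF : c ∈ Set.range (algebraMap F E)
    · obtain ⟨t, ht⟩ := hcF
      exact Submodule.mem_span_singleton.2 ⟨t, by rw [Algebra.smul_def, ht, ← hcβ]⟩
    · exact absurd (hom_ext S (τ' := AlgHom.id F E) hcF (by rw [hτc, AlgHom.id_apply])) hτ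
  obtain ⟨q, hq⟩ : ∃ q, q = Fintype.card F := ⟨_, rfl⟩
  have hq3 : 3 ≤ q := by
    have h1 : 1 < Fintype.card F := Fintype.one_lt_card
    rcases Nat.lt_or_ge (Fintype.card F) 3 with h | h
    · exfalso
      apply S.two
      have h2 := Nat.cast_card_eq_zero F
      rw [show Fintype.card F = 2 by omega] at h2
      exact_mod_cast h2
    · omega
  have hcard : ∀ W : Submodule F E, ((Finset.univ : Finset E).filter fun b => b ∈ W).card = q ^ finrank F W := by
    intro W
    rw [← Fintype.card_subtype, ← Nat.card_eq_fintype_card]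
    show Nat.card W = _
    rw [Module.natCard_eq_pow_finrank (K := F), hq, Nat.card_eq_fintype_card]
  let bad : Finset E := ((Finset.univ : Finset E).filter fun b => b ∈ Z).erase 0 ∪
    ((Finset.univ : Finset (E →ₐ[F] E)).filter fun τ => τ ≠ AlgHom.id F E).biUnion
      fun τ => ((Finset.univ : Finset E).filter fun b => b ∈ Fx τ).erase 0
  let im : Finset E := (Finset.univ : Finset Eˣ).image fun ζ : Eˣ => (ζ : E) * ζ * α
  have hlt : bad.card < im.card := by
    have hZ : finrank F Z < finrank F E := Submodule.finrank_lt fun h => by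
      have h1 : (1 : E) ∈ Z := h ▸ Submodule.mem_top
      rw [LinearMap.mem_ker, ← one_smul F (1 : E), tr_smul_one] at h1
      exact one_ne_zero h1
    have her : ∀ W : Submodule F E,
        (((Finset.univ : Finset E).filter fun b => b ∈ W).erase 0).card = q ^ finrank F W - 1 := fun W => by
      rw [Finset.card_erase_of_mem (Finset.mem_filter.2 ⟨Finset.mem_univ _, W.zero_mem⟩), hcard]
    have hid : ((Finset.univ : Finset (E →ₐ[F] E)).filter fun τ => τ ≠ AlgHom.id F E).card ≤ finrank F E - 1 := by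
      rw [Finset.filter_ne', Finset.card_erase_of_mem (Finset.mem_univ _), Finset.card_univ]
      exact Nat.sub_le_sub_right AlgHom.card_le 1
    have hb : bad.card ≤ (q ^ (finrank F E - 1) - 1) + (finrank F E - 1) * (q - 1) := by
      refine (Finset.card_union_le _ _).trans (Nat.add_le_add ?_ ?_)
      · rw [her]
        exact Nat.sub_le_sub_right (Nat.pow_le_pow_right (by omega) (by omega)) 1
      · refine (Finset.card_biUnion_le_card_mul _ _ (q - 1) fun τ hτ => ?_).trans (Nat.mul_le_mul_right _ hid)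
        rw [her]
        exact Nat.sub_le_sub_right ((Nat.pow_le_pow_right (by omega) (hFx τ (Finset.mem_filter.1 hτ).2)).trans
          (le_of_eq (pow_one q))) 1
    have hi : q ^ finrank F E - 1 ≤ 2 * im.card := by
      have h := Finset.card_le_mul_card_image (s := (Finset.univ : Finset Eˣ)) (f := fun ζ : Eˣ => (ζ : E) * ζ * α) 2
        fun b hb => by
          obtain ⟨ζ', -, rfl⟩ := Finset.mem_image.1 hb
          refine (Finset.card_le_card (t := ({ζ', -ζ'} : Finset Eˣ)) fun ζ hζ => ?_).trans Finset.card_le_two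
          rcases mul_self_eq_mul_self_iff.1 (mul_right_cancel₀ ha (Finset.mem_filter.1 hζ).2) with h | h
          · simp [Units.ext h]
          · simp [show ζ = -ζ' from Units.ext (by rw [h, Units.val_neg])]
      rw [Finset.card_univ, Fintype.card_units, Module.card_eq_pow_finrank (K := F) (V := E), ← hq] at h
      exact h
    obtain ⟨k, hk⟩ : ∃ k, finrank F E = k + 1 := ⟨finrank F E - 1, by omega⟩
    obtain ⟨t, ht⟩ : ∃ t, q = t + 1 := ⟨q - 1, by omega⟩
    have h3 : 2 * k * t ≤ q ^ k := by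
      have h4 : ∀ n, 2 ≤ n → 2 * n * t ≤ q ^ n := fun n hn => by
        induction n, hn using Nat.le_induction with
        | base => rw [ht, sq]; nlinarith [mul_self_nonneg ((t : ℤ) - 1)]
        | succ n hn2 ih =>
          rw [pow_succ]
          have h6 := Nat.mul_le_mul_right q ih
          have h8 : 2 * (n + 1) * t ≤ 2 * n * t * 3 := by nlinarith
          exact h8.trans ((Nat.mul_le_mul_left _ hq3).trans h6)
      exact h4 k (by omega)
    rw [hk, Nat.add_sub_cancel, show q - 1 = t by omega] at hb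
    rw [hk, pow_succ] at hi
    have h5 : q ^ k * 3 ≤ q ^ k * q := Nat.mul_le_mul_left _ hq3
    have h6 : 1 ≤ q ^ k := Nat.one_le_pow _ _ (by omega)
    have h7 : 2 * k * t = 2 * (k * t) := mul_assoc _ _ _
    omega
  obtain ⟨b, hb, hbad⟩ := Finset.exists_mem_notMem_of_card_lt_card hlt
  obtain ⟨ζ, -, rfl⟩ := Finset.mem_image.1 hb
  simp only [bad, Finset.mem_union, Finset.mem_filter, Finset.mem_univ, true_and, Finset.mem_biUnion, Finset.mem_erase, not_or,
    not_exists, not_and] at hbad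
  have hne0 : (ζ : E) * ζ * α ≠ 0 := mul_ne_zero (mul_ne_zero ζ.ne_zero ζ.ne_zero) ha
  refine ⟨ζ, ζ.ne_zero, fun h0 => hbad.1 hne0 ?_, fun τ hτ => ?_⟩
  · rw [LinearMap.mem_ker, ← hβ, ← Q_eq S, h0, mul_zero]
  · by_contra hne
    rw [hβ] at hτ
    exact hbad.2 τ hne hne0 hτ

theorem Dg.ext (R : Fr S v x f) (h3 : finrank E (ι → F) = 3) {c : E} {m m' : GL ι F} (h : Dg E v x f c m)
    (h' : Dg E v x f c m') : m = m' := gl_ext_vec fun y => by
  rw [R.expand h3 y]
  simp only [mulVec_add, h.2.1 _ v, h.2.1 _ x, h.2.1 _ f, h'.2.1 _ v, h'.2.1 _ x, h'.2.1 _ f, h.2.2.1, h.2.2.2.1,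
    h.2.2.2.2, h'.2.2.1, h'.2.2.2.1, h'.2.2.2.2]

theorem Dg.one : Dg E v x f 1 (1 : GL ι F) :=
  ⟨one_ne_zero, fun e y => by simp, by simp, by simp, by simp⟩

theorem Dg.mul {c c' : E} {m m' : GL ι F} (h : Dg E v x f c m) (h' : Dg E v x f c' m') :
    Dg E v x f (c * c') (m * m') := by
  obtain ⟨hc, hl, hv, hx, hf⟩ := h
  obtain ⟨hc', hl', hv', hx', hf'⟩ := h'
  refine ⟨mul_ne_zero hc hc', fun e y => ?_, ?_, ?_, ?_⟩
  · rw [gl_mul_mulVec, gl_mul_mulVec, hl', hl]
  · rw [gl_mul_mulVec, hv', hl, hv, smul_smul, mul_comm]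
  · rw [gl_mul_mulVec, hx', hx]
  · rw [gl_mul_mulVec, hf', hl, hf, smul_smul, ← _root_.mul_inv, mul_comm c c']

theorem Dg.inv {c : E} {m : GL ι F} (h : Dg E v x f c m) : Dg E v x f c⁻¹ m⁻¹ := by
  obtain ⟨hc, hl, hv, hx, hf⟩ := h
  refine ⟨inv_ne_zero hc, hl.inv, ?_, ?_, ?_⟩
  · apply Matrix.mulVec_injective_of_isUnit (Units.isUnit m)
    show m ⋆ (m⁻¹ ⋆ v) = m ⋆ (c⁻¹ • v)
    rw [gl_mulVec_inv, hl, hv, smul_smul, inv_mul_cancel₀ hc, one_smul]
  · nth_rewrite 1 [← hx]
    rw [gl_inv_mulVec]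
  · apply Matrix.mulVec_injective_of_isUnit (Units.isUnit m)
    show m ⋆ (m⁻¹ ⋆ f) = m ⋆ (c⁻¹⁻¹ • f)
    rw [gl_mulVec_inv, hl, hf, smul_smul, inv_inv, mul_inv_cancel₀ hc, one_smul]

omit [Fintype F] [FiniteDimensional F E] in
theorem Dg.line {c : E} {m : GL ι F} (h : Dg E v x f c m) (p : E) : m ⋆ (p • v) = (c * p) • v := by
  rw [h.2.1, h.2.2.1, smul_smul, mul_comm]

/-- an element keeping the line and fixing the vector is diagonal -/
theorem stab_diag (hr : 3 ≤ finrank F E) (h3 : finrank E (ι → F) = 3) (hO : NoOz S) (R : Fr S v x f) (hx : Good S x)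
    {m : GL ι F} (hm : m ∈ M) (hmx : m ⋆ x = x) (hmv : ∀ p : E, m ⋆ (p • v) ∈ Submodule.span E ({v} : Set (ι → F))) :
    ∃ c, Dg E v x f c m := by
  have hl := (semi_of_stab hr h3 R (hO v R.vv R.v0) hm hmv).lin_of_fix hm hx hmx
  obtain ⟨c, hc⟩ := Submodule.mem_span_singleton.1 (hmv 1)
  rw [one_smul] at hc
  have hc0 : c ≠ 0 := fun h => R.v0 (gl_mulVec_eq_zero.1 (by rw [← hc, h, zero_smul]))
  have hiso := le_iso S hm
  have e0 : Bf S (m ⋆ f) x = 0 := by
    rw [show Bf S (m ⋆ f) x = Bf S (m ⋆ f) (m ⋆ x) by rw [hmx], Bf_iso S hiso hl, R.fa]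
  have e1 : c * Bf S (m ⋆ f) v = 1 := by rw [← Bf_smul_right, hc, Bf_iso S hiso hl, R.fv]
  obtain ⟨k, hk⟩ : ∃ k, k = Bf S (m ⋆ f) f := ⟨_, rfl⟩
  obtain ⟨l, hld⟩ : ∃ l, l = Bf S (m ⋆ f) v := ⟨_, rfl⟩
  have hf : m ⋆ f = k • v + l • f := by
    conv_lhs => rw [R.expand h3 (m ⋆ f), e0, zero_div, zero_smul, add_zero, ← hk, ← hld]
  have e2 : Bf S (m ⋆ f) (m ⋆ f) = 0 := by rw [Bf_iso S hiso hl, R.ff]
  rw [hf] at e2
  simp only [Bf_add_left, Bf_add_right, Bf_smul_left, Bf_smul_right, R.vv, R.ff, R.vf, R.fv] at e2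
  rw [← hld] at e1
  have hl0 : l ≠ 0 := fun h => by rw [h, mul_zero] at e1; exact zero_ne_one e1
  have hk0 : k = 0 := (mul_eq_zero.1 ((mul_eq_zero.1 (show (2 : E) * (k * l) = 0 by
    linear_combination e2)).resolve_left (two_E S))).resolve_right hl0
  exact ⟨c, hc0, hl, hc.symm, hmx, by rw [hf, hk0, zero_smul, zero_add, eq_inv_of_mul_eq_one_right e1]⟩

/-- the lines are not exchanged -/
theorem no_swap (hr : 3 ≤ finrank F E) (h3 : finrank E (ι → F) = 3) (hO : NoOz S) (R : Fr S v x f) (hx : Good S x)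
    {m : GL ι F} (hm : m ∈ M) (hmx : m ⋆ x = x) (hmv : ∀ p : E, m ⋆ (p • v) ∈ Submodule.span E ({f} : Set (ι → F))) :
    False := by
  haveI := finE S
  obtain ⟨n, hn, hnl, ζ, hζ, hnv⟩ := exists_to_lin S R.vv R.ff (by rw [R.vf]; exact one_ne_zero)
  obtain ⟨τ, hτ⟩ := semi_of_stab hr h3 R (hO v R.vv R.v0) (M.mul_mem (M.inv_mem hn) hm) fun p => by
    obtain ⟨t, ht⟩ := Submodule.mem_span_singleton.1 (hmv p)
    have e : n⁻¹ ⋆ (t • f) = (t / ζ) • v := by
      apply Matrix.mulVec_injective_of_isUnit (Units.isUnit n)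
      show n ⋆ (n⁻¹ ⋆ (t • f)) = n ⋆ ((t / ζ) • v)
      rw [gl_mulVec_inv, hnv, div_mul_cancel₀ _ hζ]
    rw [gl_mul_mulVec, ← ht, e]
    exact Submodule.smul_mem _ _ (Submodule.mem_span_singleton_self v)
  have hl : LinE E m := Semi.lin_of_fix hm ⟨τ, fun e y => by
    calc m ⋆ (e • y) = n ⋆ ((n⁻¹ * m) ⋆ (e • y)) := by rw [gl_mul_mulVec, gl_mulVec_inv]
      _ = τ e • (n ⋆ ((n⁻¹ * m) ⋆ y)) := by rw [hτ, hnl]
      _ = τ e • (m ⋆ y) := by rw [gl_mul_mulVec, gl_mulVec_inv]⟩ hx hmx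
  obtain ⟨b, hb⟩ := Submodule.mem_span_singleton.1 (hmv 1)
  rw [one_smul] at hb
  have hiso := le_iso S hm
  have e0 : Bf S (m ⋆ f) x = 0 := by
    rw [show Bf S (m ⋆ f) x = Bf S (m ⋆ f) (m ⋆ x) by rw [hmx], Bf_iso S hiso hl, R.fa]
  have e1 : b * Bf S (m ⋆ f) f = 1 := by rw [← Bf_smul_right, hb, Bf_iso S hiso hl, R.fv]
  obtain ⟨k, hk⟩ : ∃ k, k = Bf S (m ⋆ f) f := ⟨_, rfl⟩
  obtain ⟨l, hld⟩ : ∃ l, l = Bf S (m ⋆ f) v := ⟨_, rfl⟩
  have hf : m ⋆ f = k • v + l • f := by
    conv_lhs => rw [R.expand h3 (m ⋆ f), e0, zero_div, zero_smul, add_zero, ← hk, ← hld]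
  have e2 : Bf S (m ⋆ f) (m ⋆ f) = 0 := by rw [Bf_iso S hiso hl, R.ff]
  rw [hf] at e2
  simp only [Bf_add_left, Bf_add_right, Bf_smul_left, Bf_smul_right, R.vv, R.ff, R.vf, R.fv] at e2
  rw [← hk] at e1
  have hk0 : k ≠ 0 := fun h => by rw [h, mul_zero] at e1; exact zero_ne_one e1
  have hl0 : l = 0 := (mul_eq_zero.1 ((mul_eq_zero.1 (show (2 : E) * (k * l) = 0 by
    linear_combination e2)).resolve_left (two_E S))).resolve_left hk0
  rw [hl0, zero_smul, add_zero] at hf
  -- the determinant over the extension field is `-1`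
  let L : (ι → F) →ₗ[E] (ι → F) :=
    { toFun := fun y => m ⋆ y
      map_add' := fun y y' => mulVec_add _ _ _
      map_smul' := fun e y => hl e y }
  have hli : LinearIndependent E ![v, x, f] := by
    rw [Fintype.linearIndependent_iff]
    intro g hg
    simp [Fin.sum_univ_three] at hg
    have e1 := congrArg (fun z => Bf S z f) hg
    have e2 := congrArg (fun z => Bf S z x) hg
    have e3 := congrArg (fun z => Bf S z v) hg
    simp [Bf_add_left, Bf_smul_left, Bf_zero_left, R.vv, R.ff, R.vf, R.fv, R.av, R.va, R.af, R.fa, R.aa] at e1 e2 e3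
    intro i
    fin_cases i
    · exact e1
    · exact e2
    · exact e3
  let B := basisOfLinearIndependentOfCardEqFinrank hli (by simp [h3])
  have hB : (B : Fin 3 → ι → F) = ![v, x, f] := coe_basisOfLinearIndependentOfCardEqFinrank _ _
  have hL : LinearMap.toMatrix B B L = !![0, 0, k; 0, 1, 0; b, 0, 0] := by
    have hB' : ∀ i, B i = ![v, x, f] i := fun i => by rw [hB]
    have h0 : L (B 0) = b • B 2 := by rw [hB', hB']; exact hb.symm
    have h1 : L (B 1) = B 1 := by rw [hB']; exact hmx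
    have h2 : L (B 2) = k • B 0 := by rw [hB', hB']; exact hf
    ext i j
    rw [LinearMap.toMatrix_apply]
    fin_cases j
    · show B.repr (L (B 0)) i = _
      rw [h0]; fin_cases i <;> simp [Finsupp.single_apply]
    · show B.repr (L (B 1)) i = _
      rw [h1]; fin_cases i <;> simp [Finsupp.single_apply]
    · show B.repr (L (B 2)) i = _
      rw [h2]; fin_cases i <;> simp [Finsupp.single_apply]
  have hdet : LinearMap.det L = algebraMap F E (-1) := by
    rw [← LinearMap.det_toMatrix B, hL, Matrix.det_fin_three, map_neg, map_one]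
    simp
    linear_combination e1
  have h1 : LinearMap.det (L.restrictScalars F) = 1 := by
    rw [show L.restrictScalars F = Matrix.toLin' (m : Matrix ι ι F) from
      LinearMap.ext fun y => (Matrix.toLin'_apply _ _).symm, LinearMap.det_toLin', det_one_of_omega (S.le hm)]
  rw [LinearMap.det_restrictScalars, hdet, Algebra.norm_algebraMap,
    (Nat.odd_iff.2 (S.prime.eq_two_or_odd.resolve_left (by omega))).neg_one_pow] at h1
  exact S.two (by linear_combination -h1)

/-- conjugating a diagonal element into a diagonal one keeps the line -/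
theorem keep_of_conj (hr : 3 ≤ finrank F E) (h3 : finrank E (ι → F) = 3) (hO : NoOz S) (R : Fr S v x f)
    (hx : Good S x) {m t t' : GL ι F} {c c' : E} (hm : m ∈ M) (hmx : m ⋆ x = x) (ht : Dg E v x f c t)
    (ht' : Dg E v x f c' t') (hc : c * c ≠ 1) (hconj : t' * m = m * t) :
    ∀ p : E, m ⋆ (p • v) ∈ Submodule.span E ({v} : Set (ι → F)) := by
  haveI := finite_E S
  obtain ⟨Lt, hLt⟩ : ∃ L : (ι → F) →ₗ[F] (ι → F), ∀ y, L y = t ⋆ y :=
    ⟨Matrix.toLin' (t : Matrix ι ι F), fun y => Matrix.toLin'_apply _ _⟩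
  obtain ⟨Lt', hLt'⟩ : ∃ L : (ι → F) →ₗ[F] (ι → F), ∀ y, L y = t' ⋆ y :=
    ⟨Matrix.toLin' (t' : Matrix ι ι F), fun y => Matrix.toLin'_apply _ _⟩
  obtain ⟨Lm, hLm⟩ : ∃ L : (ι → F) →ₗ[F] (ι → F), ∀ y, L y = m ⋆ y :=
    ⟨Matrix.toLin' (m : Matrix ι ι F), fun y => Matrix.toLin'_apply _ _⟩
  have hint : ∀ y, Lt' (Lm y) = Lm (Lt y) := fun y => by
    rw [hLt', hLm, hLm, hLt, ← gl_mul_mulVec, hconj, gl_mul_mulVec]
  obtain ⟨P, hP⟩ : ∃ P, P = minpoly F c := ⟨_, rfl⟩
  have hint' : IsIntegral F c := Algebra.IsIntegral.isIntegral _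
  have hP1 : Polynomial.aeval (1 : E) P ≠ 0 := fun h => by
    have e := minpoly.eq_of_irreducible_of_monic (minpoly.irreducible hint') (hP ▸ h) (minpoly.monic hint')
    rw [minpoly.one] at e
    have h1 := minpoly.aeval F c
    rw [e, map_sub, Polynomial.aeval_X, map_one, sub_eq_zero] at h1
    exact hc (by rw [h1, one_mul])
  have hboth : ¬ (Polynomial.aeval c' P = 0 ∧ Polynomial.aeval c'⁻¹ P = 0) := fun ⟨h1, h2⟩ => by
    have hmin : minpoly F c' = P := by
      rw [hP]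
      exact (minpoly.eq_of_irreducible_of_monic (minpoly.irreducible hint') (hP ▸ h1) (minpoly.monic hint')).symm
    have h3 := sq_eq_one_of_conj S hr ht'.1 (hmin ▸ h2)
    have h4 : Polynomial.aeval c' (Polynomial.X ^ 2 - 1 : Polynomial F) = 0 := by simp [sq, h3]
    have h5 := Polynomial.aeval_eq_zero_of_dvd_aeval_eq_zero (minpoly.dvd F c' h4)
      (x := c) (by rw [hmin, hP, minpoly.aeval])
    rw [map_sub, map_pow, Polynomial.aeval_X, map_one, sub_eq_zero, sq] at h5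
    exact hc h5
  have key : ∀ p : E, ∃ k₁ k₃ : E, m ⋆ (p • v) = k₁ • v + k₃ • f ∧ Polynomial.aeval c' P * k₁ = 0 ∧
      Polynomial.aeval c'⁻¹ P * k₃ = 0 := by
    intro p
    obtain ⟨k₁, k₂, k₃, hk⟩ : ∃ k₁ k₂ k₃ : E, m ⋆ (p • v) = k₁ • v + k₂ • x + k₃ • f := ⟨_, _, _, R.expand h3 _⟩
    have e := aeval_intertwine hint P (p • v)
    rw [aeval_line (fun q => by rw [hLt, ht.line]) P p, show Polynomial.aeval c P = 0 from hP ▸ minpoly.aeval F c, zero_mul, zero_smul, map_zero, hLm, hk,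
      map_add, map_add, aeval_line (fun q => by rw [hLt', ht'.line]) P,
      aeval_line (e := (1 : E)) (fun q => by rw [hLt', ht'.2.1, ht'.2.2.2.1, one_mul]) P,
      aeval_line (e := c'⁻¹) (fun q => by rw [hLt', ht'.2.1, ht'.2.2.2.2, smul_smul, mul_comm]) P] at e
    have e1 := congrArg (fun z => Bf S z f) e
    have e2 := congrArg (fun z => Bf S z x) e
    have e3 := congrArg (fun z => Bf S z v) e
    simp [Bf_add_left, Bf_smul_left, Bf_zero_left, R.vv, R.ff, R.vf, R.fv, R.av, R.va, R.af, R.fa, R.aa, hP1]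
      at e1 e2 e3
    refine ⟨k₁, k₃, by rw [hk, e2, zero_smul, add_zero], ?_, ?_⟩
    · simpa [mul_eq_zero] using e1
    · simpa [mul_eq_zero] using e3
  by_cases h : Polynomial.aeval c' P = 0
  · intro p
    obtain ⟨k₁, k₃, hk, -, h2⟩ := key p
    rw [hk, (mul_eq_zero.1 h2).resolve_left fun h' => hboth ⟨h, h'⟩, zero_smul, add_zero]
    exact Submodule.smul_mem _ _ (Submodule.mem_span_singleton_self v)
  · refine (no_swap hr h3 hO R hx hm hmx fun p => ?_).elim
    obtain ⟨k₁, k₃, hk, h1, -⟩ := key p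
    rw [hk, (mul_eq_zero.1 h1).resolve_left h, zero_smul, zero_add]
    exact Submodule.smul_mem _ _ (Submodule.mem_span_singleton_self f)

/-! ### Subgroups of order a power of the characteristic -/

/-- the Eichler transformations of a frame -/
def qv (R : Fr S v x f) : Subgroup (GL ι F) where
  carrier := {g | g ∈ M ∧ ∃ η : E, ∀ y, g ⋆ y = y + (η * Bf S y v) • x -
    (η * Bf S y x + η * η * Bf S x x / 2 * Bf S y v) • v}
  one_mem' := ⟨M.one_mem, 0, fun y => by simp⟩
  mul_mem' := fun {g g'} ⟨hg, η, h⟩ ⟨hg', η', h'⟩ => ⟨M.mul_mem hg hg', η + η', fun y => by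
    rw [gl_mul_mulVec, h, h']
    simp only [Bf_sub_left, Bf_add_left, Bf_smul_left, R.vv, R.va, R.av]
    have := two_E S
    match_scalars <;> field_simp <;> ring⟩
  inv_mem' := fun {g} ⟨hg, η, h⟩ => ⟨M.inv_mem hg, -η, fun y => by
    apply Matrix.mulVec_injective_of_isUnit (Units.isUnit g)
    show g ⋆ (g⁻¹ ⋆ y) = g ⋆ _
    rw [gl_mulVec_inv, h]
    simp only [Bf_sub_left, Bf_add_left, Bf_smul_left, R.vv, R.va, R.av]
    have := two_E S
    match_scalars <;> field_simp <;> ring⟩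

/-- a linear element trivial on the line and on the quotient is an Eichler transformation -/
theorem unip (R : Fr S v x f) (h3 : finrank E (ι → F) = 3) {m : GL ι F} (hm : m ∈ M) (hl : LinE E m)
    (hv : m ⋆ v = v) (ha : Bf S (m ⋆ x) x = Bf S x x) : m ∈ qv R := by
  have hiso := le_iso S hm
  obtain ⟨φ, hφ⟩ : ∃ φ, φ = Bf S (m ⋆ x) f := ⟨_, rfl⟩
  obtain ⟨k, hk⟩ : ∃ k, k = Bf S (m ⋆ f) f := ⟨_, rfl⟩
  obtain ⟨l, hld⟩ : ∃ l, l = Bf S (m ⋆ f) x / Bf S x x := ⟨_, rfl⟩
  have hxv : Bf S (m ⋆ x) v = 0 := by rw [show Bf S (m ⋆ x) v = Bf S (m ⋆ x) (m ⋆ v) by rw [hv], Bf_iso S hiso hl, R.av]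
  have hfv : Bf S (m ⋆ f) v = 1 := by rw [show Bf S (m ⋆ f) v = Bf S (m ⋆ f) (m ⋆ v) by rw [hv], Bf_iso S hiso hl, R.fv]
  have hmx : m ⋆ x = φ • v + x := by
    conv_lhs => rw [R.expand h3 (m ⋆ x), hxv, zero_smul, add_zero, ← hφ, ha, div_self R.aa, one_smul]
  have hmf : m ⋆ f = k • v + l • x + f := by
    conv_lhs => rw [R.expand h3 (m ⋆ f), hfv, one_smul, ← hk, ← hld]
  have e1 := Bf_iso S hiso hl x f
  have e2 := Bf_iso S hiso hl f f
  rw [hmx, hmf] at e1
  rw [hmf] at e2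
  simp only [Bf_add_left, Bf_add_right, Bf_smul_left, Bf_smul_right, R.vv, R.va, R.av, R.vf, R.fv, R.af, R.fa, R.ff]
    at e1 e2
  refine ⟨hm, l, fun y => ?_⟩
  have h2 := two_E S
  have hφ' : φ = -(l * Bf S x x) := by linear_combination e1
  have hk' : k = -(l * l * Bf S x x / 2) := by
    field_simp
    linear_combination e2
  conv_lhs => rw [R.expand h3 y, mulVec_add, mulVec_add, hl, hl, hl, hv, hmx, hmf, hφ', hk']
  conv_rhs => enter [1, 1]; rw [R.expand h3 y]
  have := R.aa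
  match_scalars <;> field_simp <;> ring

omit [Fintype F] [FiniteDimensional F E] in
theorem LinE.pow_scalar {m : GL ι F} (hl : LinE E m) {y : ι → F} {ζ : E} (h : m ⋆ y = ζ • y) :
    ∀ k : ℕ, (m ^ k : GL ι F) ⋆ y = ζ ^ k • y := by
  intro k
  induction k with
  | zero => simp
  | succ k ih => rw [pow_succ', gl_mul_mulVec, ih, hl, h, smul_smul, pow_succ]

omit [Fintype F] in
/-- a root of unity of order a power of the characteristic -/
theorem eq_one_of_pow (p : ℕ) [Fact p.Prime] [CharP E p] {ζ : E} {k : ℕ} (h : ζ ^ p ^ k = 1) : ζ = 1 :=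
  (iterateFrobenius_inj E p k) (by rw [iterateFrobenius_def, iterateFrobenius_def, h, one_pow])

/-- a linear element of `p`-power order keeping the line is an Eichler transformation -/
theorem pElement (R : Fr S v x f) (h3 : finrank E (ι → F) = 3) (p : ℕ) [Fact p.Prime] [CharP E p] {m : GL ι F}
    (hm : m ∈ M) (hl : LinE E m) (hline : ∀ q : E, m ⋆ (q • v) ∈ Submodule.span E ({v} : Set (ι → F))) {k : ℕ}
    (hk : m ^ p ^ k = 1) : m ∈ qv R := by
  obtain ⟨ζ, hζ⟩ := Submodule.mem_span_singleton.1 (hline 1)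
  rw [one_smul] at hζ
  have h1 := hl.pow_scalar hζ.symm (p ^ k)
  rw [hk, Units.val_one, one_mulVec] at h1
  have hζ1 : ζ = 1 := eq_one_of_pow (E := E) p (smul_left_injective E R.v0
    (show ζ ^ p ^ k • v = (1 : E) • v by rw [← h1, one_smul]))
  have hv : m ⋆ v = v := by rw [← hζ, hζ1, one_smul]
  obtain ⟨ψ, hψ⟩ : ∃ ψ, ψ = Bf S (m ⋆ x) x / Bf S x x := ⟨_, rfl⟩
  have hiso := le_iso S hm
  have hxv : Bf S (m ⋆ x) v = 0 := by rw [show Bf S (m ⋆ x) v = Bf S (m ⋆ x) (m ⋆ v) by rw [hv], Bf_iso S hiso hl, R.av]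
  have hmx : m ⋆ x = Bf S (m ⋆ x) f • v + ψ • x := by
    conv_lhs => rw [R.perp h3 hxv, ← hψ]
  have hpow : ∀ n : ℕ, Bf S ((m ^ n : GL ι F) ⋆ x) x = ψ ^ n * Bf S x x ∧ Bf S ((m ^ n : GL ι F) ⋆ x) v = 0 := by
    intro n
    induction n with
    | zero => simp [R.av]
    | succ n ih =>
      obtain ⟨hn, hnv⟩ := ih
      rw [pow_succ', gl_mul_mulVec]
      conv => enter [1, 1, 2, 2]; rw [R.perp h3 hnv]
      conv => enter [2, 1, 2, 2]; rw [R.perp h3 hnv]
      rw [mulVec_add, hl, hl, hv, hmx, hn]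
      simp only [Bf_add_left, Bf_smul_left, R.va, R.av, R.vv]
      have := R.aa
      exact ⟨by field_simp; ring, by ring⟩
  have h2 := (hpow (p ^ k)).1
  rw [hk, Units.val_one, one_mulVec] at h2
  have hψ1 : ψ = 1 := eq_one_of_pow (E := E) p (k := k) (mul_right_cancel₀ R.aa (by rw [one_mul]; exact h2.symm))
  refine unip R h3 hm hl hv ?_
  rw [← div_mul_cancel₀ (Bf S (m ⋆ x) x) R.aa, ← hψ, hψ1, one_mul]

/-- subgroups of order a power of the characteristic fixing an anisotropic vector are small -/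
theorem small_fix (hr : 3 ≤ finrank F E) (h3 : finrank E (ι → F) = 3) (hO : NoOz S) (R : Fr S v x f) (p : ℕ)
    [Fact p.Prime] [CharP F p] {A : Subgroup (GL ι F)} (hAM : A ≤ M) (hA : IsPGroup p A) {y : ι → F}
    (hy : Q y ≠ 0) (hAy : ∀ g ∈ A, g ⋆ y = y) : Nat.card A ≤ finrank F E := by
  classical
  haveI := finite_E S
  haveI : CharP E p := charP_of_injective_algebraMap (algebraMap F E).injective p
  -- the Eichler transformations form a `p`-group
  have hqv : ∀ g ∈ qv R, ∀ n : ℕ, ∃ η : E, (∀ y, g ⋆ y = y + (η * Bf S y v) • x -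
      (η * Bf S y x + η * η * Bf S x x / 2 * Bf S y v) • v) ∧ ∀ y, (g ^ n : GL ι F) ⋆ y = y + (n * η * Bf S y v) • x -
      (n * η * Bf S y x + n * η * (n * η) * Bf S x x / 2 * Bf S y v) • v := by
    rintro g ⟨hg, η, h⟩ n
    refine ⟨η, h, ?_⟩
    induction n with
    | zero => intro y; simp
    | succ n ih =>
      intro y
      rw [pow_succ', gl_mul_mulVec, h, ih]
      simp only [Bf_sub_left, Bf_add_left, Bf_smul_left, R.vv, R.va, R.av]
      have := two_E S
      push_cast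
      match_scalars <;> field_simp <;> ring
  have hqp : IsPGroup p (qv R) := fun g => ⟨1, Subtype.ext (gl_ext_vec fun y => by
    obtain ⟨η, -, h⟩ := hqv g g.2 p
    rw [pow_one, SubmonoidClass.coe_pow, h, CharP.cast_eq_zero E p]
    simp)⟩
  let Qm : Subgroup M := (qv R).subgroupOf M
  obtain ⟨Sy, hSy⟩ := (hqp.of_equiv (Subgroup.subgroupOfEquivOfLe (fun g hg => hg.1 : qv R ≤ M)).symm :
    IsPGroup p Qm).exists_le_sylow
  have hTmem : ∀ η : E, ∃ T : (Sy : Subgroup M), ∀ y, ((T : M) : GL ι F) ⋆ y = y + (η * Bf S y v) • x -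
      (η * Bf S y x + η * η * Bf S x x / 2 * Bf S y v) • v := fun η => by
    obtain ⟨T, hT, -, hTy⟩ := R.exists_T η
    exact ⟨⟨⟨T, hT⟩, hSy (Subgroup.mem_subgroupOf.2 ⟨hT, η, hTy⟩)⟩, hTy⟩
  -- a central element is an Eichler transformation
  obtain ⟨T₁, hT₁⟩ := hTmem 1
  haveI : Nontrivial (Sy : Subgroup M) := ⟨⟨T₁, 1, fun h => by
    have e := hT₁ f
    rw [h] at e
    simp only [Subgroup.coe_one, Units.val_one, one_mulVec, R.fv, R.fa] at e
    have e' := congrArg (fun z => Bf S z x) e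
    simp [Bf_add_left, Bf_sub_left, Bf_smul_left, R.va, R.fa] at e'
    exact R.aa e'.symm⟩⟩
  haveI := Sy.isPGroup'.center_nontrivial
  obtain ⟨z, hz1⟩ := exists_ne (1 : Subgroup.center (Sy : Subgroup M))
  obtain ⟨g, hgd⟩ : ∃ g : GL ι F, g = (((z : (Sy : Subgroup M)) : M) : GL ι F) := ⟨_, rfl⟩
  have hg : g ∈ M := hgd ▸ ((z : (Sy : Subgroup M)) : M).2
  have hcomm : ∀ s : (Sy : Subgroup M), ∀ y, ((s : M) : GL ι F) ⋆ (g ⋆ y) = g ⋆ (((s : M) : GL ι F) ⋆ y) := fun s y => by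
    have h := congrArg (fun w : (Sy : Subgroup M) => (((w : M) : GL ι F))) (Subgroup.mem_center_iff.1 z.2 s)
    simp only [Subgroup.coe_mul] at h
    rw [← gl_mul_mulVec, ← gl_mul_mulVec, hgd, h]
  have hgline : ∀ q : E, g ⋆ (q • v) ∈ Submodule.span E ({v} : Set (ι → F)) := fun q => by
    obtain ⟨w, hw⟩ : ∃ w, w = g ⋆ (q • v) := ⟨_, rfl⟩
    have e : ((T₁ : M) : GL ι F) ⋆ w = w := by
      rw [hw, hcomm, hT₁ (q • v), Bf_smul_left, Bf_smul_left, R.vv, R.va]
      simp
    rw [hT₁, one_mul, one_mul, one_mul, ← sub_eq_zero] at e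
    have e1 := congrArg (fun z => Bf S z x) e
    have e2 := congrArg (fun z => Bf S z f) e
    simp [Bf_sub_left, Bf_add_left, Bf_smul_left, Bf_zero_left, R.va, R.vf, R.af, R.aa] at e1 e2
    simp [e1] at e2
    rw [← hw, R.perp h3 e1, e2, zero_div, zero_smul, add_zero]
    exact Submodule.smul_mem _ _ (Submodule.mem_span_singleton_self v)
  obtain ⟨τ, hτ⟩ := semi_of_stab hr h3 R (hO v R.vv R.v0) hg hgline
  obtain ⟨ζ, hζ⟩ := Submodule.mem_span_singleton.1 (hgline 1)
  rw [one_smul] at hζ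
  have hgl : LinE E g := by
    have key : ∀ η : E, η * Bf S (g ⋆ x) x = τ η * τ (Bf S x x) * ζ := by
      intro η
      obtain ⟨T, hT⟩ := hTmem η
      have e := hcomm T x
      rw [hT x, R.av, mulVec_sub, mulVec_add, hτ, hτ, ← hζ, hT (g ⋆ x)] at e
      have hxv : Bf S (g ⋆ x) v = 0 := by
        refine tr_ext (F := F) fun q => ?_
        rw [mul_zero, map_zero, ← pol_smul_right S]
        have hs : Function.Surjective τ := (Finite.injective_iff_surjective (α := E) (f := τ)).1 τ.toRingHom.injective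
        have hζ0 : ζ ≠ 0 := fun h => R.v0 (gl_mulVec_eq_zero.1 (by rw [← hζ, h, zero_smul]))
        obtain ⟨q', hq'⟩ := hs (q / ζ)
        have e0 : g ⋆ (q' • v) = q • v := by rw [hτ, ← hζ, smul_smul, hq', div_mul_cancel₀ _ hζ0]
        rw [← e0, iso_pol (le_iso S hg), pol_smul_right S, R.av, mul_zero, map_zero]
      rw [hxv] at e
      have e' := congrArg (fun z => Bf S z f) e
      simp [Bf_sub_left, Bf_add_left, Bf_smul_left, R.vf, R.af] at e'
      linear_combination e'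
    have k1 := key 1
    rw [map_one, one_mul, one_mul] at k1
    have hb0 : Bf S (g ⋆ x) x ≠ 0 := by
      rw [k1]
      exact mul_ne_zero (fun h => R.aa (τ.toRingHom.injective (h.trans (map_zero τ).symm)))
        (fun h => R.v0 (gl_mulVec_eq_zero.1 (by rw [← hζ, h, zero_smul])))
    intro e y
    rw [hτ]
    congr 1
    exact mul_right_cancel₀ hb0 (by linear_combination -key e + τ e * k1)
  obtain ⟨k, hk⟩ := Sy.isPGroup' (z : (Sy : Subgroup M))
  obtain ⟨-, η, hη⟩ := pElement R h3 p hg hgl hgline (k := k) (by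
    rw [hgd]
    exact congrArg (fun w : (Sy : Subgroup M) => ((w : M) : GL ι F)) hk)
  have hη0 : η ≠ 0 := fun h => hz1 (Subtype.ext (Subtype.ext (Subtype.ext (gl_ext_vec fun y => by
    show (((z : (Sy : Subgroup M)) : M) : GL ι F) ⋆ y = (1 : GL ι F) ⋆ y
    rw [← hgd, hη, h]
    simp))))
  -- the Sylow subgroup keeps the line
  have hperp : ∀ s : (Sy : Subgroup M), ∀ w, Bf S w v = 0 → Bf S (((s : M) : GL ι F) ⋆ w) v = 0 := by
    intro s w hw
    obtain ⟨c, hc⟩ : ∃ c, c = Bf S w x / Bf S x x / η := ⟨_, rfl⟩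
    obtain ⟨p', hp'⟩ : ∃ p', p' = -(Bf S w f + η * η * Bf S x x / 2 * c) / (η * Bf S x x) := ⟨_, rfl⟩
    have hy0 : g ⋆ (c • f + p' • x) - (c • f + p' • x) = w := by
      rw [hη]
      conv_rhs => rw [R.perp h3 hw]
      simp only [Bf_add_left, Bf_smul_left, R.fv, R.fa, R.av]
      have := R.aa
      have h2 := two_E S
      match_scalars <;> simp only [hp', hc] <;> field_simp <;> ring
    rw [← hy0, mulVec_sub, hcomm, hη, sub_right_comm, add_sub_cancel_left]
    simp [Bf_sub_left, Bf_smul_left, R.vv, R.av]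
  have hline : ∀ s : (Sy : Subgroup M), ∀ q : E, ((s : M) : GL ι F) ⋆ (q • v) ∈ Submodule.span E ({v} : Set (ι → F)) :=
    fun s q => mem_line_of_perp S fun w hw => by
      have e : ((s : M) : GL ι F) ⋆ (((s⁻¹ : (Sy : Subgroup M)) : M) : GL ι F) ⋆ w = w := by
        rw [Subgroup.coe_inv, Subgroup.coe_inv, gl_mulVec_inv]
      rw [← e, iso_pol (le_iso S (s : M).2), pol_smul_left S, Bf_comm S, hperp s⁻¹ w hw, mul_zero, map_zero]
  -- the subgroup moved into the Sylow subgroup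
  let Am : Subgroup M := A.subgroupOf M
  obtain ⟨Sy', hSy'⟩ := (hA.of_equiv (Subgroup.subgroupOfEquivOfLe hAM).symm : IsPGroup p Am).exists_le_sylow
  obtain ⟨b, hb⟩ := MulAction.exists_smul_eq M Sy' Sy
  have hmem : ∀ a : A, (b * ⟨(a : GL ι F), hAM a.2⟩ * b⁻¹ : M) ∈ (Sy : Subgroup M) := fun a => by
    rw [← hb, Sylow.coe_subgroup_smul, Subgroup.mem_pointwise_smul_iff_inv_smul_mem]
    have h1 : (⟨(a : GL ι F), hAM a.2⟩ : M) ∈ (Sy' : Subgroup M) := hSy' (Subgroup.mem_subgroupOf.2 a.2)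
    simpa [MulAut.conj_apply, mul_assoc] using h1
  have hy' : Bf S ((b : GL ι F) ⋆ y) ((b : GL ι F) ⋆ y) ≠ 0 := fun h => hy (by
    have e := Q_eq S ((b : GL ι F) ⋆ y)
    rw [h, map_zero, mem_iso.1 (le_iso S b.2)] at e
    exact (mul_eq_zero.1 e).resolve_left S.two)
  obtain ⟨conj, hconj⟩ : ∃ c : A → (Sy : Subgroup M), ∀ a, c a = ⟨_, hmem a⟩ := ⟨fun a => ⟨_, hmem a⟩, fun a => rfl⟩
  have hfix : ∀ a : A, ((conj a : M) : GL ι F) ⋆ ((b : GL ι F) ⋆ y) = (b : GL ι F) ⋆ y := fun a => by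
    rw [hconj]
    simp only [Subgroup.coe_mul, Subgroup.coe_inv]
    rw [gl_mul_mulVec, gl_mul_mulVec, gl_inv_mulVec, hAy _ a.2]
  have hsemi : ∀ a : A, Semi E ((conj a : M) : GL ι F) := fun a =>
    semi_of_stab hr h3 R (hO v R.vv R.v0) (conj a : M).2 (hline _)
  choose T hT using hsemi
  refine le_trans (Nat.card_le_card_of_injective T fun a a' haa => ?_)
    (le_of_eq_of_le Nat.card_eq_fintype_card AlgHom.card_le)
  obtain ⟨w, hw⟩ : ∃ w, w = (conj a)⁻¹ * conj a' := ⟨_, rfl⟩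
  have hwl : LinE E ((w : M) : GL ι F) := fun e u => by
    apply Matrix.mulVec_injective_of_isUnit (Units.isUnit ((conj a : M) : GL ι F))
    show ((conj a : M) : GL ι F) ⋆ _ = ((conj a : M) : GL ι F) ⋆ _
    rw [hw, Subgroup.coe_mul, Subgroup.coe_inv, Subgroup.coe_mul, Subgroup.coe_inv, gl_mul_mulVec, gl_mul_mulVec,
      hT a, gl_mulVec_inv, gl_mulVec_inv, hT a', haa]
  obtain ⟨k', hk'⟩ := Sy.isPGroup' w
  obtain ⟨-, θ, hθ⟩ := pElement R h3 p (w : M).2 hwl (hline w) (k := k')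
    (congrArg (fun u : (Sy : Subgroup M) => ((u : M) : GL ι F)) hk')
  have hwy : ((w : M) : GL ι F) ⋆ ((b : GL ι F) ⋆ y) = (b : GL ι F) ⋆ y := by
    rw [hw, Subgroup.coe_mul, Subgroup.coe_inv, Subgroup.coe_mul, Subgroup.coe_inv, gl_mul_mulVec, hfix]
    nth_rewrite 1 [← hfix a]
    rw [gl_inv_mulVec]
  obtain ⟨y', hy'd⟩ : ∃ y', y' = (b : GL ι F) ⋆ y := ⟨_, rfl⟩
  rw [← hy'd] at hy' hwy
  have hθ0 : θ = 0 := by
    rw [hθ] at hwy
    have e1 := congrArg (fun z => Bf S z x) hwy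
    simp [Bf_sub_left, Bf_add_left, Bf_smul_left, R.va, R.aa] at e1
    rcases e1 with e1 | e1
    · exact e1
    have e2 := congrArg (fun z => Bf S z f) hwy
    simp [Bf_sub_left, Bf_add_left, Bf_smul_left, R.vf, R.af, e1] at e2
    rcases e2 with e2 | e2
    · exact e2
    exfalso
    refine hy' ?_
    rw [R.perp h3 e1, e2, zero_div, zero_smul, add_zero, Bf_smul_left, Bf_smul_right, R.vv, mul_zero, mul_zero]
  have hw1 : w = 1 := Subtype.ext (Subtype.ext (gl_ext_vec fun u => by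
    show ((w : M) : GL ι F) ⋆ u = (1 : GL ι F) ⋆ u
    rw [hθ, hθ0]
    simp))
  rw [hw, inv_mul_eq_one] at hw1
  have e := congrArg (fun u : (Sy : Subgroup M) => (u : M)) hw1
  simp only [hconj] at e
  exact Subtype.ext (congrArg (fun u : M => (u : GL ι F)) (mul_left_cancel (mul_right_cancel e)) :)

end CfsgLib.Perm.Trans.OrthExt
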