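import Cfsg.Agent.Lib.Perm.Trans.OrthExt.Three.Entry

/-!
# Three dimensions over the extension field: the descent

Among all singular vectors and all elements fixing one and moving its line, a largest fixed part of a line is a
hyperplane of it, with the image orthogonal to the line, provided that some element is trivial on the orthogonal
of a singular line.  Otherwise the pairing with the line has the fixed part as kernel, and the Chevalley–Warning
theorem gives an element killing it at one more point.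
-/

set_option autoImplicit false
set_option linter.all false

namespace CfsgLib.Perm.Trans.OrthExt

open scoped Matrix
open Matrix Module Cfsg.Geo CfsgLib.Perm.Asch CfsgLib.Perm.Trans CfsgLib.Perm.Trans.Quad
open CfsgLib.Perm.Trans.Symp.Ext (tr trDual trDual_apply tr_ext tr_smul_one exists_tr_separate)

variable {ι : Type} [Fintype ι] [DecidableEq ι] {F : Type*} [Field F] [Fintype F]
variable {E : Type*} [Field E] [Algebra F E] [FiniteDimensional F E]
variable [Module E (ι → F)] [IsScalarTower F E (ι → F)]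
variable {Q : (ι → F) → F}

local notation "pol" => QuadraticMap.polar
local notation:75 g " ⋆ " x:75 => (Units.val g : Matrix ι ι F) *ᵥ x

/-- fewer quadratic equations without constant term than half the unknowns have a common zero -/
theorem exists_common_zero {U : Type*} [AddCommGroup U] [Module F U] [FiniteDimensional F U] {J : Type*}
    [Fintype J] (L : J → U →ₗ[F] F) (B : J → U →ₗ[F] U →ₗ[F] F) (h : 2 * Fintype.card J < finrank F U) :
    ∃ u, u ≠ 0 ∧ ∀ j, L j u + B j u u = 0 := by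
  classical
  obtain ⟨b, -⟩ : ∃ b : Basis (Fin (finrank F U)) F U, b = Module.finBasis F U := ⟨_, rfl⟩
  let P : J → MvPolynomial (Fin (finrank F U)) F := fun j =>
    (∑ i, MvPolynomial.C (L j (b i)) * MvPolynomial.X i) +
      ∑ i, ∑ k, MvPolynomial.C (B j (b i) (b k)) * MvPolynomial.X i * MvPolynomial.X k
  have hdeg : ∀ j, (P j).totalDegree ≤ 2 := fun j => by
    refine (MvPolynomial.totalDegree_add _ _).trans (max_le ?_ ?_)
    · refine MvPolynomial.totalDegree_finsetSum_le fun i _ => (MvPolynomial.totalDegree_mul _ _).trans ?_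
      rw [MvPolynomial.totalDegree_C, MvPolynomial.totalDegree_X]
      omega
    · refine MvPolynomial.totalDegree_finsetSum_le fun i _ => ?_
      refine MvPolynomial.totalDegree_finsetSum_le fun k _ => (MvPolynomial.totalDegree_mul _ _).trans ?_
      refine le_trans (Nat.add_le_add_right (MvPolynomial.totalDegree_mul _ _) _) ?_
      rw [MvPolynomial.totalDegree_C, MvPolynomial.totalDegree_X, MvPolynomial.totalDegree_X]
  have hsum : (∑ j, (P j).totalDegree) < Fintype.card (Fin (finrank F U)) := by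
    refine lt_of_le_of_lt (Finset.sum_le_sum fun j _ => hdeg j) ?_
    rw [Finset.sum_const, Finset.card_univ, Fintype.card_fin, smul_eq_mul]
    omega
  obtain ⟨p, hp⟩ := CharP.exists F
  haveI : Fact p.Prime := ⟨CharP.char_is_prime F p⟩
  have hdvd := char_dvd_card_solutions_of_fintype_sum_lt p hsum
  have hzero : ∀ j, MvPolynomial.eval (0 : Fin (finrank F U) → F) (P j) = 0 := fun j => by simp [P]
  rw [@Fintype.card_eq_nat_card _ (_)] at hdvd
  haveI : Nonempty {x // ∀ j, MvPolynomial.eval x (P j) = 0} := ⟨⟨0, hzero⟩⟩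
  haveI : Nontrivial {x // ∀ j, MvPolynomial.eval x (P j) = 0} := Finite.one_lt_card_iff_nontrivial.1
    (lt_of_lt_of_le (Fact.out : p.Prime).one_lt (Nat.le_of_dvd Nat.card_pos hdvd))
  obtain ⟨⟨t, ht⟩, htne⟩ := exists_ne (⟨0, hzero⟩ : {x // ∀ j, MvPolynomial.eval x (P j) = 0})
  refine ⟨∑ i, t i • b i, fun h0 => htne (Subtype.ext (funext fun i =>
    Fintype.linearIndependent_iff.1 b.linearIndependent t h0 i)), fun j => ?_⟩
  rw [← ht j]
  simp only [P, map_add, map_sum, map_mul, map_smul, LinearMap.sum_apply, LinearMap.smul_apply, smul_eq_mul,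
    MvPolynomial.eval_C, MvPolynomial.eval_X, Finset.mul_sum]
  congr 1
  · exact Finset.sum_congr rfl fun i _ => by ring
  · rw [Finset.sum_comm]
    exact Finset.sum_congr rfl fun i _ => Finset.sum_congr rfl fun k _ => by ring

variable {M : Subgroup (GL ι F)} (S : OData E Q M)

/-- an element fixing a singular vector and moving its line -/
def Adm (g : GL ι F) (v : ι → F) : Prop := g ∈ M ∧ Bf S v v = 0 ∧ v ≠ 0 ∧ g ⋆ v = v ∧ Moves E g v

/-- `K` is a largest fixed part of a line -/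
structure Top (v : ι → F) (K : Submodule F E) : Prop where
  vv : Bf S v v = 0
  v0 : v ≠ 0
  one : (1 : E) ∈ K
  best : ∀ (g : GL ι F) (w : ι → F), Adm S g w → finrank F (fixK E g w) ≤ finrank F K

/-- a moving element fixing `K` -/
def Mx (M : Subgroup (GL ι F)) (v : ι → F) (K : Submodule F E) (g : GL ι F) : Prop :=
  g ∈ M ∧ Moves E g v ∧ K ≤ fixK E g v

/-- the pairing of the image of the line with the line -/
noncomputable def pr (g : GL ι F) (v : ι → F) : E →ₗ[F] E := ((Bl S v).restrictScalars F).comp (imgMap g v)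

theorem pr_apply (g : GL ι F) (v : ι → F) (q : E) : pr S g v q = Bf S (g ⋆ (q • v)) v := by
  show Bf S (imgMap g v q) v = _
  rw [imgMap_apply]

variable {S} {v a f : ι → F} {K : Submodule F E} {g : GL ι F}

theorem Mx.fix (hg : Mx M v K g) {k : E} (hk : k ∈ K) : g ⋆ (k • v) = k • v := mem_fixK.1 (hg.2.2 hk)

theorem Mx.self (hT : Top S v K) (hg : Mx M v K g) : g ⋆ v = v := by
  have := hg.fix hT.one
  rwa [one_smul] at this

theorem Top.fe (hT : Top S v K) (hg : Mx M v K g) : fixK E g v = K :=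
  (Submodule.eq_of_le_of_finrank_le hg.2.2 (hT.best g v ⟨hg.1, hT.vv, hT.v0, hg.self hT, hg.2.1⟩)).symm

theorem Mx.pr_K (hT : Top S v K) (hg : Mx M v K g) {k : E} (hk : k ∈ K) : pr S g v k = 0 := by
  rw [pr_apply, hg.fix hk, Bf_smul_left, hT.vv, mul_zero]

theorem Mx.exists_not_mem (hg : Mx M v K g) : ∃ p₀, p₀ ∉ K ∧ g ⋆ (p₀ • v) ∉ Submodule.span E ({v} : Set (ι → F)) := by
  obtain ⟨p, hp⟩ := hg.2.1
  exact ⟨p, fun h => hp (by rw [hg.fix h]; exact Submodule.smul_mem _ _ (Submodule.mem_span_singleton_self v)), hp⟩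

theorem Mx.conj (hg : Mx M v K g) {T : GL ι F} (hTM : T ∈ M) (hfix : ∀ p : E, T ⋆ (p • v) = p • v)
    (hmv : Moves E (g⁻¹ * T * g) v) : Mx M v K (g⁻¹ * T * g) := by
  refine ⟨M.mul_mem (M.mul_mem (M.inv_mem hg.1) hTM) hg.1, hmv, fun k hk => mem_fixK.2 ?_⟩
  rw [gl_mul_mulVec, gl_mul_mulVec, hg.fix hk, hfix]
  nth_rewrite 1 [← hg.fix hk]
  rw [gl_inv_mulVec]

theorem Top.keep (hT : Top S v K) (hg : Mx M v K g) {T : GL ι F} (hTM : T ∈ M)
    (hfix : ∀ p : E, T ⋆ (p • v) = p • v) {p₀ : E} (hp₀ : p₀ ∉ K) (hfx : T ⋆ (g ⋆ (p₀ • v)) = g ⋆ (p₀ • v)) :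
    ∀ z ∈ img E g v, T ⋆ z ∈ img E g v := by
  refine keeps_img fun hmv => hp₀ ?_
  rw [← hT.fe (hg.conj hTM hfix hmv)]
  refine mem_fixK.2 ?_
  rw [gl_mul_mulVec, gl_mul_mulVec, hfx, gl_inv_mulVec]

/-- only the fixed part comes back to the line -/
theorem Top.line_mem (hT : Top S v K) (hg : Mx M v K g) {p : E}
    (hp : g ⋆ (p • v) ∈ Submodule.span E ({v} : Set (ι → F))) : p ∈ K := by
  by_contra hpK
  obtain ⟨p₁, -, hp₁⟩ := hg.exists_not_mem
  refine absorb_singular S hT.vv hT.v0 (finrank_img_le g v) (img_self g v p₁) hp₁ fun a ha T hTM hTa => ?_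
  obtain ⟨t, ht⟩ := Submodule.mem_span_singleton.1 hp
  exact hT.keep hg hTM (hTa.fix_line hT.vv ha) hpK (by rw [← ht, hTa.fix_line hT.vv ha])

theorem Top.img_line (hT : Top S v K) (hg : Mx M v K g) {e : E} (h : e • v ∈ img E g v) : e ∈ K := by
  obtain ⟨p, hp⟩ := mem_img.1 h
  have hpK := hT.line_mem hg (by rw [hp]; exact Submodule.smul_mem _ _ (Submodule.mem_span_singleton_self v))
  rw [hg.fix hpK] at hp
  rw [← smul_left_injective E hT.v0 hp]
  exact hpK

theorem Oz.fix_line {ω : E →ₗ[F] E} {z : GL ι F} (hv : Bf S v v = 0)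
    (hz : ∀ y, z ⋆ y = y + ω (Bf S y v) • v) (p : E) : z ⋆ (p • v) = p • v := by
  rw [hz, Bf_smul_left, hv, mul_zero, map_zero, zero_smul, add_zero]

/-- a point of the kernel outside the fixed part makes the pairing vanish -/
theorem Top.pr_zero (hT : Top S v K) (hr : 3 ≤ finrank F E) (h3 : finrank E (ι → F) = 3) (R : Fr S v a f)
    (hA : ∃ ω, Oz S v ω ∧ ω ≠ 0) (hg : Mx M v K g) {p : E} (hp : p ∉ K) (hPp : pr S g v p = 0) :
    pr S g v = 0 := by
  have hωK : ∀ ω, Oz S v ω → ∀ q, ω (pr S g v q) ∈ K := by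
    intro ω hω q
    obtain ⟨z, hz, hzy⟩ := hω
    have hk := hT.keep hg hz (Oz.fix_line hT.vv hzy) hp (by
      rw [hzy, ← pr_apply, hPp, map_zero, zero_smul, add_zero])
    have h1 := Submodule.sub_mem _ (hk _ (img_self g v q)) (img_self g v q)
    rw [hzy, add_sub_cancel_left, ← pr_apply] at h1
    exact hT.img_line hg h1
  obtain ⟨ω₀, hω₀, hne⟩ := hA
  refine LinearMap.ext fun q => by_contra fun hq => ?_
  rw [LinearMap.zero_apply] at hq
  have hline : ∀ e : E, (∀ k ∈ K, tr F E (e * k) = 0) → e ∈ Submodule.span F ({pr S g v q} : Set E) := fun e he =>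
    ann_line (S := S) hr (W := {ω | Oz S v ω}) (fun ω hω c hc => Oz.dconj' R h3 hω hc)
      (fun ω hω p p' => Oz.skew R hω p p') hω₀ hne hq fun ω hω => by
        rw [mul_comm]
        exact he _ (hωK ω hω q)
  obtain ⟨e₀, he₀, he₀p⟩ := exists_tr_separate (F := F) hp
  obtain ⟨t, ht⟩ : ∃ t, t = tr F E (e₀ * q) := ⟨_, rfl⟩
  have hz : q - t • p ∉ K := fun h => hq (by
    have h1 := hg.pr_K hT h
    rwa [map_sub, map_smul, hPp, smul_zero, sub_zero] at h1)
  obtain ⟨e, he, hez⟩ := exists_tr_separate (F := F) hz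
  obtain ⟨c₀, hc₀⟩ := Submodule.mem_span_singleton.1 (hline e₀ he₀)
  obtain ⟨c, hc⟩ := Submodule.mem_span_singleton.1 (hline e he)
  have hc00 : c₀ ≠ 0 := fun h => by
    rw [← hc₀, h, zero_smul, zero_mul, map_zero] at he₀p
    exact zero_ne_one he₀p
  have he' : e = (c / c₀) • e₀ := by rw [← hc₀, smul_smul, div_mul_cancel₀ _ hc00, hc]
  rw [he', smul_mul_assoc, map_smul, mul_sub, map_sub, mul_smul_comm, map_smul, he₀p, ← ht, smul_eq_mul, smul_eq_mul,
    mul_one, sub_self, mul_zero] at hez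
  exact zero_ne_one hez

/-- with the image orthogonal to the line, the fixed part is a hyperplane -/
theorem Top.hyp (hT : Top S v K) (hr : 3 ≤ finrank F E) (h3 : finrank E (ι → F) = 3) (R : Fr S v a f)
    (hg : Mx M v K g) (hP : pr S g v = 0) : ∃ ρ : E, Hyp S g v ρ := by
  obtain ⟨p₀, hp₀, -⟩ := hg.exists_not_mem
  have hP' : ∀ q : E, Bf S (g ⋆ (q • v)) v = 0 := fun q => by rw [← pr_apply, hP, LinearMap.zero_apply]
  let lf : E →ₗ[F] E := ((Bl S a).restrictScalars F).comp (imgMap g v)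
  have hlf : ∀ q, lf q = Bf S (g ⋆ (q • v)) a := fun q => by
    show Bf S (imgMap g v q) a = _
    rw [imgMap_apply]
  have hl0 : ∀ q, lf q = 0 → q ∈ K := fun q hq => hT.line_mem hg (by
    rw [R.perp h3 (hP' q), ← hlf, hq, zero_div, zero_smul, add_zero]
    exact Submodule.smul_mem _ _ (Submodule.mem_span_singleton_self v))
  have hstab : ∀ c q q', c * lf q ∈ K → q ∉ K → c * lf q' ∈ K := by
    intro c q q' hk hq
    have hca : Bf S (c • a) v = 0 := by rw [Bf_smul_left, R.av, mul_zero]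
    obtain ⟨T, hTM, hTa⟩ := exists_T S hT.vv hca
    have hTq : ∀ z : E, T ⋆ (g ⋆ (z • v)) = g ⋆ (z • v) - (c * lf z) • v := fun z => by
      rw [hTa.perp (hP' z), Bf_smul_right, hlf]
    have hnm : ¬ Moves E (g⁻¹ * T * g) v := fun hmv => by
      refine hq (hT.line_mem (hg.conj hTM (hTa.fix_line hT.vv hca) hmv) ?_)
      rw [gl_mul_mulVec, gl_mul_mulVec, hTq, mulVec_sub, gl_inv_mulVec]
      nth_rewrite 1 [← hg.fix hk]
      rw [gl_inv_mulVec, ← sub_smul]
      exact Submodule.smul_mem _ _ (Submodule.mem_span_singleton_self v)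
    have h2 := Submodule.sub_mem _ (img_self g v q') (keeps_img hnm _ (img_self g v q'))
    rw [hTq, sub_sub_cancel] at h2
    exact hT.img_line hg h2
  have hl00 : lf p₀ ≠ 0 := fun h => hp₀ (hl0 p₀ h)
  have hKt : K ≠ ⊤ := fun h => hp₀ (h ▸ Submodule.mem_top)
  have hq : ∀ q, ∃ t : F, q - t • p₀ ∈ K := fun q => by
    obtain ⟨t, ht⟩ := stab_scalar S hT.one hKt (e := lf q / lf p₀) fun k hk => by
      have h := hstab (k / lf p₀) p₀ q (by rwa [div_mul_cancel₀ _ hl00]) hp₀
      rwa [show lf q / lf p₀ * k = k / lf p₀ * lf q by ring]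
    refine ⟨t, hl0 _ ?_⟩
    rw [map_sub, map_smul, Algebra.smul_def, ht, div_mul_cancel₀ _ hl00, sub_self]
  obtain ⟨ρ, hρ, hρp⟩ := exists_tr_separate (F := F) hp₀
  refine ⟨ρ, hg.1, hT.v0, hT.vv, fun h => ?_, ?_, fun p hp => hg.fix ?_, hg.2.1⟩
  · rw [h, zero_mul, map_zero] at hρp
    exact zero_ne_one hρp
  · rw [← mul_one ρ]
    exact hρ 1 hT.one
  · obtain ⟨t, ht⟩ := hq p
    have h1 := hρ _ ht
    rw [mul_sub, map_sub, mul_smul_comm, map_smul, hρp, mul_comm, hp, smul_eq_mul, mul_one, zero_sub,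
      neg_eq_zero] at h1
    rwa [h1, zero_smul, sub_zero] at ht

/-- the kernels of the elements trivial on the orthogonal are small -/
theorem Top.ker_le (hT : Top S v K) (R : Fr S v a f) {ω : E →ₗ[F] E} (hω : Oz S v ω) (hne : ω ≠ 0) :
    finrank F (LinearMap.ker ω) ≤ finrank F K := by
  rcases eq_or_ne (LinearMap.ker ω) ⊥ with h | h
  · rw [h, finrank_bot]
    exact Nat.zero_le _
  obtain ⟨c, hc, hc0⟩ := Submodule.exists_mem_ne_zero_of_ne_bot h
  obtain ⟨z, hz, hzy⟩ := hω
  have hzw : ∀ p : E, z ⋆ (p • c • f) = p • c • f + ω (p * c) • v := fun p => by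
    rw [hzy, Bf_smul_left, Bf_smul_left, R.fv, mul_one]
  obtain ⟨x, hx⟩ : ∃ x, ω x ≠ 0 := by
    by_contra hcon
    push Not at hcon
    exact hne (LinearMap.ext hcon)
  have hmv : Moves E z (c • f) := ⟨x / c, fun hm => by
    obtain ⟨t, ht⟩ := Submodule.mem_span_singleton.1 hm
    rw [hzw, div_mul_cancel₀ _ hc0] at ht
    have e := congrArg (fun y => Bf S y f) ht
    simp only [Bf_add_left, Bf_smul_left, R.ff, R.vf, mul_zero, mul_one, zero_add] at e
    exact hx e.symm⟩
  have hadm : Adm S z (c • f) := ⟨hz, by rw [Bf_smul_left, Bf_smul_right, R.ff, mul_zero, mul_zero],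
    smul_ne_zero hc0 R.swap.v0, by
      have := hzw 1
      rwa [one_mul, LinearMap.mem_ker.1 hc, zero_smul, add_zero, one_smul] at this, hmv⟩
  refine le_trans (le_of_eq ((Submodule.equivMapOfInjective (LinearMap.mulRight F c⁻¹)
    (mul_left_injective₀ (inv_ne_zero hc0)) (LinearMap.ker ω)).finrank_eq))
    (le_trans (Submodule.finrank_mono ?_) (hT.best z _ hadm))
  rintro p ⟨y, hy, rfl⟩
  refine mem_fixK.2 ?_
  rw [LinearMap.mulRight_apply, hzw, inv_mul_cancel_right₀ hc0, LinearMap.mem_ker.1 hy, zero_smul, add_zero]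

/-- the equation at `q` -/
theorem Top.sol (hT : Top S v K) (R : Fr S v a f)
    (hker : ∀ g', Mx M v K g' → ∀ p, pr S g' v p = 0 → p ∈ K) (hg : Mx M v K g) {p₀ : E} (hp₀ : p₀ ∉ K) {η : E}
    {ω : E →ₗ[F] E} (hω : Oz S v ω)
    (heq : ∀ q, tr F E (η * (pr S g v p₀ * Bf S a (g ⋆ (q • v)) - Bf S (g ⋆ (p₀ • v)) a * pr S g v q))
      + tr F E (ω (pr S g v p₀) * pr S g v q)
      + tr F E (η * η * (-(Bf S a a * pr S g v p₀ / 2) * pr S g v q)) = 0) :
    η = 0 ∧ ∀ q, ω (pr S g v q) ∈ K := by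
  obtain ⟨T₁, hT₁, hT₁a, hT₁y⟩ := R.exists_T η
  obtain ⟨z, hz, hzy⟩ := hω
  obtain ⟨T, hTdef⟩ : ∃ T, T = z * T₁ := ⟨_, rfl⟩
  have hTM : T ∈ M := hTdef ▸ M.mul_mem hz hT₁
  have hηa : Bf S (η • a) v = 0 := by rw [Bf_smul_left, R.av, mul_zero]
  have hTy : ∀ y, T ⋆ y = y + (η * Bf S y v) • a - (η * Bf S y a + η * η * Bf S a a / 2 * Bf S y v) • v
      + ω (Bf S y v) • v := fun y => by
    rw [hTdef, gl_mul_mulVec, hzy, hT₁y]
    congr 2
    simp only [Bf_sub_left, Bf_add_left, Bf_smul_left, R.vv, R.av, mul_zero, sub_zero, add_zero]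
  have hfix : ∀ p : E, T ⋆ (p • v) = p • v := fun p => by
    rw [hTdef, gl_mul_mulVec, hT₁a.fix_line R.vv hηa, Oz.fix_line R.vv hzy]
  have hnm : ¬ Moves E (g⁻¹ * T * g) v := fun hmv => by
    refine hp₀ (hker _ (hg.conj hTM hfix hmv) p₀ ?_)
    refine tr_ext (F := F) fun q => ?_
    rw [mul_zero, map_zero, pr_apply, ← pol_smul_right S, gl_mul_mulVec, gl_mul_mulVec]
    conv_lhs => rw [← gl_inv_mulVec g (q • v)]
    rw [iso_pol (Subgroup.inv_mem _ (le_iso S hg.1)), hTy, padd_left S.form, psub_left S.form, padd_left S.form,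
      iso_pol (le_iso S hg.1), pol_line S R.vv, pol_smul_left S, pol_smul_left S, pol_smul_left S,
      Bf_comm S v (g ⋆ (q • v)), ← pr_apply, ← pr_apply, zero_add]
    have e := heq q
    simp only [sub_eq_add_neg, mul_add, neg_mul, mul_neg, map_add, map_neg] at e ⊢
    ring_nf at e ⊢
    simp only [map_add, map_neg, map_mul] at e ⊢
    linear_combination e
  have hkeep := keeps_img hnm
  have hK : ∀ q, ∃ k ∈ K, k • v = T ⋆ (g ⋆ (q • v)) - g ⋆ (q • v) := fun q => by
    obtain ⟨p, hp⟩ := mem_img.1 (Submodule.sub_mem _ (hkeep _ (img_self g v q)) (img_self g v q))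
    have hpK : p ∈ K := hker g hg p (by
      rw [pr_apply, hp, Bf_sub_left, hTy]
      simp only [Bf_sub_left, Bf_add_left, Bf_smul_left, R.vv, R.av, mul_zero, sub_zero, add_zero, sub_self])
    exact ⟨p, hpK, by rw [← hp, hg.fix hpK]⟩
  have hη : η = 0 := by
    obtain ⟨k, -, hk⟩ := hK p₀
    rw [hTy, ← pr_apply] at hk
    have e := congrArg (fun y => Bf S y a) hk
    simp [Bf_sub_left, Bf_add_left, Bf_smul_left, R.va] at e
    rcases e with (e | e) | e
    · exact e
    · exact absurd (hker g hg p₀ e) hp₀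
    · exact absurd e R.aa
  refine ⟨hη, fun q => ?_⟩
  obtain ⟨k, hk, hkv⟩ := hK q
  rw [hTy, ← pr_apply, hη] at hkv
  have : k = ω (pr S g v q) := smul_left_injective E R.v0 (show k • v = ω (pr S g v q) • v by
    rw [hkv]; simp)
  exact this ▸ hk

/-- enough unknowns give a map with all pairings zero -/
theorem Top.cw (hT : Top S v K) (R : Fr S v a f)
    (hker : ∀ g', Mx M v K g' → ∀ p, pr S g' v p = 0 → p ∈ K) (hg : Mx M v K g) {p₀ : E} (hp₀ : p₀ ∉ K)
    (W : Submodule F (E →ₗ[F] E)) (hW : ∀ ω ∈ W, Oz S v ω)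
    (hdim : 2 * finrank F (LinearMap.range (pr S g v)) < finrank F E + finrank F W) :
    ∃ ω ∈ W, ω ≠ 0 ∧ ∀ q, tr F E (ω (pr S g v p₀) * pr S g v q) = 0 := by
  obtain ⟨C, hC⟩ := Submodule.exists_isCompl K
  let bC := Module.finBasis F C
  let Mc : E → (E →ₗ[F] F) := fun k => (tr F E).comp (LinearMap.mulRight F k)
  have hMc : ∀ k x, Mc k x = tr F E (x * k) := fun k x => rfl
  let evc : W →ₗ[F] E := (LinearMap.applyₗ (pr S g v p₀)).comp W.subtype
  haveI hfree : Module.Free F W := Module.Free.of_divisionRing F W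
  let y : E → E := fun q => pr S g v p₀ * Bf S a (g ⋆ (q • v)) - Bf S (g ⋆ (p₀ • v)) a * pr S g v q
  let d : E → E := fun q => -(Bf S a a * pr S g v p₀ / 2) * pr S g v q
  obtain ⟨⟨η, ⟨ω, hω⟩⟩, hne, hz⟩ := exists_common_zero (U := E × W) (J := Fin (finrank F C))
    (fun j => (Mc (y (bC j))).comp (LinearMap.fst F E W) +
      ((Mc (pr S g v (bC j))).comp evc).comp (LinearMap.snd F E W))
    (fun j => ((LinearMap.mul F E).compl₁₂ (LinearMap.fst F E W) (LinearMap.fst F E W)).compr₂ (Mc (d (bC j))))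
    (by
      have h1 := Submodule.finrank_add_eq_of_isCompl hC
      have h2 := LinearMap.finrank_range_add_finrank_ker (pr S g v)
      have h3 : finrank F (LinearMap.ker (pr S g v)) = finrank F K := by
        rw [show LinearMap.ker (pr S g v) = K from le_antisymm (fun p hp => hker g hg p hp) fun p hp => hg.pr_K hT hp]
      rw [Fintype.card_fin, Module.finrank_prod]
      omega)
  let L : E →ₗ[F] F :=
    { toFun := fun q => tr F E (η * y q) + tr F E (ω (pr S g v p₀) * pr S g v q) + tr F E (η * η * d q)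
      map_add' := fun p q => by
        simp only [y, d, map_add, add_smul, mulVec_add, Bf_add_right, mul_add, mul_sub, map_sub]
        ring
      map_smul' := fun t q => by
        have ey : y (t • q) = t • y q := by
          simp only [y, map_smul, smul_assoc, mulVec_smul, smul_sub, mul_smul_comm]
          rw [Bf_comm S a, Bf_fsmul_left, Bf_comm S _ a, mul_smul_comm]
        have ed : d (t • q) = t • d q := by simp only [d, map_smul, mul_smul_comm]
        rw [RingHom.id_apply, map_smul, ey, ed, mul_smul_comm, mul_smul_comm, mul_smul_comm, map_smul, map_smul,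
          map_smul, smul_add, smul_add] }
  have hLC : ∀ c : C, L c = 0 := fun c => by
    have h1 : L.comp C.subtype = 0 := bC.ext fun j => by
      show tr F E (η * y (bC j)) + tr F E (ω (pr S g v p₀) * pr S g v (bC j)) + tr F E (η * η * d (bC j)) = 0
      exact hz j
    exact LinearMap.congr_fun h1 c
  have hL : ∀ q, L q = 0 := fun q => by
    obtain ⟨k, hk, c, hc, rfl⟩ := Submodule.mem_sup.1 (hC.sup_eq_top ▸ Submodule.mem_top : q ∈ K ⊔ C)
    rw [map_add, hLC ⟨c, hc⟩, add_zero]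
    show tr F E (η * y k) + tr F E (ω (pr S g v p₀) * pr S g v k) + tr F E (η * η * d k) = 0
    simp [y, d, hg.pr_K hT hk, hg.fix hk, Bf_smul_right, R.av]
  obtain ⟨hη, -⟩ := hT.sol R hker hg hp₀ (hW ω hω) hL
  refine ⟨ω, hω, fun h => hne ?_, fun q => ?_⟩
  · subst h hη
    rfl
  · have e : tr F E (η * y q) + tr F E (ω (pr S g v p₀) * pr S g v q) + tr F E (η * η * d q) = 0 := hL q
    simpa [hη] using e

/-- a map whose pairings vanish maps the range into the fixed part -/
theorem Top.null (hT : Top S v K) (R : Fr S v a f)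
    (hker : ∀ g', Mx M v K g' → ∀ p, pr S g' v p = 0 → p ∈ K) (hg : Mx M v K g) {p₀ : E} (hp₀ : p₀ ∉ K)
    {ω : E →ₗ[F] E} (hω : Oz S v ω) (h : ∀ q, tr F E (ω (pr S g v p₀) * pr S g v q) = 0) :
    ∀ q, ω (pr S g v q) ∈ K :=
  (hT.sol R hker hg hp₀ hω (η := 0) fun q => by simp [h q]).2

omit [Fintype F] in
/-- a space with a two-dimensional image and a non-trivial kernel has dimension three -/
theorem three_le_of_map {V W : Type*} [AddCommGroup V] [Module F V] [AddCommGroup W] [Module F W]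
    [FiniteDimensional F V] (Z : Submodule F V) (L : V →ₗ[F] W) {x : V} (hx : x ∈ Z) (hx0 : x ≠ 0) (hL : L x = 0)
    (h : 2 ≤ finrank F (Z.map L)) : 3 ≤ finrank F Z := by
  have e1 := LinearMap.finrank_range_add_finrank_ker (L.comp Z.subtype)
  have e2 : LinearMap.range (L.comp Z.subtype) = Z.map L := by rw [LinearMap.range_comp, Submodule.range_subtype]
  have e3 : 1 ≤ finrank F (LinearMap.ker (L.comp Z.subtype)) := Submodule.one_le_finrank_iff.2 fun h0 => hx0 (by
    have hm : (⟨x, hx⟩ : Z) ∈ LinearMap.ker (L.comp Z.subtype) := LinearMap.mem_ker.2 hL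
    rw [h0, Submodule.mem_bot] at hm
    exact congrArg Subtype.val hm)
  rw [e2] at e1
  omega

/-- skew maps in degree three are all long root elements once an invariant family of them occurs -/
theorem Zl.full (hr : finrank F E = 3) (h3 : finrank E (ι → F) = 3) (R : Fr S v a f) (hZ : Zl S v R.vv ≠ ⊥)
    {ω : E →ₗ[F] E} (hω : ∀ p q, tr F E (ω p * q) + tr F E (p * ω q) = 0) : ω ∈ Zl S v R.vv := by
  have hskew : ∀ ω ∈ Zl S v R.vv, ∀ p q, tr F E (ω p * q) + tr F E (p * ω q) = 0 := fun ω hω p q => by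
    have := hω 1
    rw [one_smul] at this
    exact this.skew R p q
  obtain ⟨b, -⟩ : ∃ b : Basis (Fin 3) F E, b = Module.finBasisOfFinrankEq F E hr := ⟨_, rfl⟩
  obtain ⟨β, hβ0, hβ1, hβ2⟩ : ∃ β : (E →ₗ[F] E) →ₗ[F] (Fin 3 → F), (∀ w, β w 0 = tr F E (w (b 0) * b 1)) ∧
      (∀ w, β w 1 = tr F E (w (b 0) * b 2)) ∧ ∀ w, β w 2 = tr F E (w (b 1) * b 2) := by
    let pb : E → E → ((E →ₗ[F] E) →ₗ[F] F) := fun x y =>
      (tr F E).comp ((LinearMap.mulRight F y).comp (LinearMap.applyₗ x))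
    exact ⟨LinearMap.pi ![pb (b 0) (b 1), pb (b 0) (b 2), pb (b 1) (b 2)], fun _ => rfl, fun _ => rfl, fun _ => rfl⟩
  have hdet : ∀ ω : E →ₗ[F] E, (∀ p q, tr F E (ω p * q) + tr F E (p * ω q) = 0) → ∀ c : E,
      (∀ i, tr F E (ω c * b i) = 0) → ω c = 0 := fun ω _ c h => by
    refine tr_ext (F := F) fun q => ?_
    rw [← b.sum_repr q, Finset.sum_mul, map_sum, mul_zero, map_zero]
    exact Finset.sum_eq_zero fun i _ => by rw [smul_mul_assoc, map_smul, mul_comm (b i), h i, smul_zero]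
  have hanti : ∀ ω : E →ₗ[F] E, (∀ p q, tr F E (ω p * q) + tr F E (p * ω q) = 0) → ∀ i k,
      tr F E (ω (b i) * b k) = -tr F E (ω (b k) * b i) := fun ω h i k => by
    have e := h (b i) (b k)
    rw [mul_comm (b i) (ω (b k))] at e
    linear_combination e
  have hdiag : ∀ ω : E →ₗ[F] E, (∀ p q, tr F E (ω p * q) + tr F E (p * ω q) = 0) → ∀ i,
      tr F E (ω (b i) * b i) = 0 := fun ω h i => by
    have e := hanti ω h i i
    exact (mul_eq_zero.1 (show (2 : F) * tr F E (ω (b i) * b i) = 0 by linear_combination e)).resolve_left S.two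
  have hinj : ∀ ω : E →ₗ[F] E, (∀ p q, tr F E (ω p * q) + tr F E (p * ω q) = 0) → β ω = 0 → ω = 0 := by
    intro ω h h0
    have e0 : tr F E (ω (b 0) * b 1) = 0 := by rw [← hβ0, h0, Pi.zero_apply]
    have e1 : tr F E (ω (b 0) * b 2) = 0 := by rw [← hβ1, h0, Pi.zero_apply]
    have e2 : tr F E (ω (b 1) * b 2) = 0 := by rw [← hβ2, h0, Pi.zero_apply]
    have hall : ∀ i k : Fin 3, tr F E (ω (b i) * b k) = 0 := fun i k => match i, k with
      | 0, 0 => hdiag ω h 0
      | 1, 1 => hdiag ω h 1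
      | 2, 2 => hdiag ω h 2
      | 0, 1 => e0
      | 0, 2 => e1
      | 1, 2 => e2
      | 1, 0 => by rw [hanti ω h 1 0, e0, neg_zero]
      | 2, 0 => by rw [hanti ω h 2 0, e1, neg_zero]
      | 2, 1 => by rw [hanti ω h 2 1, e2, neg_zero]
    refine b.ext fun i => ?_
    rw [LinearMap.zero_apply]
    exact hdet ω h _ (hall i)
  obtain ⟨ω₁, hω₁, hne⟩ := Submodule.exists_mem_ne_zero_of_ne_bot hZ
  obtain ⟨c, hc0, hc⟩ : ∃ c, c ≠ 0 ∧ ω₁ c = 0 := by
    have h := hskew ω₁ hω₁
    obtain ⟨x, hx⟩ : ∃ x, x = β ω₁ := ⟨_, rfl⟩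
    have hx0 : x ≠ 0 := fun h0 => hne (hinj ω₁ h (hx ▸ h0))
    have e0 : tr F E (ω₁ (b 0) * b 1) = x 0 := by rw [hx, hβ0]
    have e1 : tr F E (ω₁ (b 0) * b 2) = x 1 := by rw [hx, hβ1]
    have e2 : tr F E (ω₁ (b 1) * b 2) = x 2 := by rw [hx, hβ2]
    have e10 : tr F E (ω₁ (b 1) * b 0) = -x 0 := by rw [hanti ω₁ h 1 0, e0]
    have e20 : tr F E (ω₁ (b 2) * b 0) = -x 1 := by rw [hanti ω₁ h 2 0, e1]
    have e21 : tr F E (ω₁ (b 2) * b 1) = -x 2 := by rw [hanti ω₁ h 2 1, e2]
    obtain ⟨c, hcd⟩ : ∃ c, c = x 2 • b 0 - x 1 • b 1 + x 0 • b 2 := ⟨_, rfl⟩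
    have hexp : ∀ i, tr F E (ω₁ c * b i) = x 2 * tr F E (ω₁ (b 0) * b i) - x 1 * tr F E (ω₁ (b 1) * b i)
        + x 0 * tr F E (ω₁ (b 2) * b i) := fun i => by
      rw [hcd, map_add, map_sub, map_smul, map_smul, map_smul, add_mul, sub_mul, smul_mul_assoc, smul_mul_assoc,
        smul_mul_assoc, map_add, map_sub, map_smul, map_smul, map_smul, smul_eq_mul, smul_eq_mul, smul_eq_mul]
    have hall : ∀ i : Fin 3, tr F E (ω₁ c * b i) = 0 := fun i => match i with
      | 0 => by rw [hexp, hdiag ω₁ h 0, e10, e20]; ring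
      | 1 => by rw [hexp, hdiag ω₁ h 1, e0, e21]; ring
      | 2 => by rw [hexp, hdiag ω₁ h 2, e1, e2]; ring
    refine ⟨c, fun h0 => hx0 ?_, hdet ω₁ h _ hall⟩
    have hk : ∀ k, b.repr c k = 0 := fun k => by rw [h0]; simp
    have c0 := hk 0
    have c1 := hk 1
    have c2 := hk 2
    simp [hcd] at c0 c1 c2
    funext k
    match k with
    | 0 => exact c2
    | 1 => exact c1
    | 2 => exact c0
  obtain ⟨evc, hevc⟩ : ∃ L : (E →ₗ[F] E) →ₗ[F] E, ∀ w, L w = w c := ⟨LinearMap.applyₗ c, fun _ => rfl⟩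
  obtain ⟨U, hU⟩ : ∃ U, U = (Zl S v R.vv).map evc := ⟨_, rfl⟩
  have hUmem : ∀ w ∈ Zl S v R.vv, w c ∈ U := fun w hw => by
    rw [hU, ← hevc w]
    exact Submodule.mem_map_of_mem hw
  have hU2 : 2 ≤ finrank F U := by
    obtain ⟨U', hU'⟩ : ∃ U', U' = U.map (trDual F E).toLinearMap := ⟨_, rfl⟩
    have hann : ∀ y ∈ U'.dualCoannihilator, ∀ w ∈ Zl S v R.vv, tr F E (w c * y) = 0 := fun y hy w hw => by
      rw [Submodule.mem_dualCoannihilator] at hy
      have hm : (trDual F E).toLinearMap (w c) ∈ U' := by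
        rw [hU']
        exact Submodule.mem_map_of_mem (hUmem w hw)
      have := hy _ hm
      rwa [LinearEquiv.coe_coe, trDual_apply, mul_comm] at this
    have hco : U'.dualCoannihilator ≤ Submodule.span F {c} := fun y hy =>
      ann_line (S := S) (by omega) (W := (Zl S v R.vv : Set (E →ₗ[F] E))) (fun ω hω c hc => Zl.inv R h3 hω hc)
        (fun ω hω => hskew ω hω) hω₁ hne hc0 (hann y hy)
    have e1 := Subspace.finrank_add_finrank_dualCoannihilator_eq U'
    have e2 := (Submodule.finrank_mono hco).trans (le_of_eq (finrank_span_singleton hc0))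
    have e3 : finrank F U' ≤ finrank F U := hU' ▸ Submodule.finrank_map_le _ _
    omega
  have hdim : 3 ≤ finrank F (Zl S v R.vv) :=
    three_le_of_map (Zl S v R.vv) evc hω₁ hne (by rw [hevc]; exact hc) (hU ▸ hU2)
  have hsurj : LinearMap.range (β.comp (Zl S v R.vv).subtype) = ⊤ := by
    refine Submodule.eq_top_of_finrank_eq (le_antisymm (Submodule.finrank_le _) ?_)
    rw [LinearMap.finrank_range_of_inj ((injective_iff_map_eq_zero _).2 fun w h =>
      Subtype.ext (hinj _ (hskew _ w.2) h)), Module.finrank_fin_fun]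
    exact hdim
  obtain ⟨w, hw⟩ : β ω ∈ LinearMap.range (β.comp (Zl S v R.vv).subtype) := hsurj ▸ Submodule.mem_top
  have h0 : ω - (w : E →ₗ[F] E) = 0 := hinj _ (fun p q => by
    simp only [LinearMap.sub_apply, sub_mul, mul_sub, map_sub]
    linear_combination hω p q - hskew _ w.2 p q) (by rw [map_sub]; exact sub_eq_zero.2 hw.symm)
  rw [sub_eq_zero.1 h0]
  exact w.2

/-- in degree three such a family and a moving element make the point a centre -/
theorem centre_of_full (hr : finrank F E = 3) (h3 : finrank E (ι → F) = 3) (R : Fr S v a f) (hZ : Zl S v R.vv ≠ ⊥)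
    (hg : g ∈ M) (hgv : g ⋆ v = v) (hker : ∀ p, pr S g v p = 0 → p ∈ Submodule.span F ({1} : Set E)) :
    v ∈ eCentres Q M := by
  have hv := R.vv
  have hQv : Q v = 0 := by simpa using Q_sing S hv 1
  obtain ⟨W, hW⟩ : ∃ W, W = eSub S.form M v hQv := ⟨_, rfl⟩
  have hconj : ∀ y ∈ W, ∀ m ∈ M, m ⋆ v = v → m ⋆ y ∈ W := fun y hy m hm hmv => by
    subst hW
    obtain ⟨h1, h2⟩ := hy
    refine ⟨by rw [← hmv, iso_pol (le_iso S hm)]; exact h1, fun s => ?_⟩
    have := (h2 s).conj (le_iso S hm) hm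
    rwa [hmv, mulVec_smul] at this
  have hline : ∀ p : E, p • v ∈ W := fun p => by
    subst hW
    refine ⟨by simpa using pol_line S hv 1 p, fun s => ?_⟩
    let ω : E →ₗ[F] E := (tr F E).smulRight (s • p) - ((tr F E).comp (LinearMap.mulLeft F (s • p))).smulRight 1
    obtain ⟨z, hz, hzy⟩ : Oz S v ω := by
      have h := Zl.full hr h3 R hZ (ω := ω) (fun x y => by
        simp only [ω, LinearMap.sub_apply, LinearMap.smulRight_apply, LinearMap.comp_apply, LinearMap.mulLeft_apply,
          sub_mul, mul_sub, smul_mul_assoc, mul_smul_comm, map_sub, map_smul, smul_eq_mul, one_mul, mul_one,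
          mul_comm x p]
        ring) 1
      rwa [one_smul] at h
    refine ⟨z, hz, fun y => ?_⟩
    have hQ0 : Q (s • (p • v)) = 0 := by rw [← smul_assoc]; exact Q_sing S hv _
    rw [hzy, hQ0, zero_mul, zero_smul, sub_zero]
    have e1 : pol Q y v = tr F E (Bf S y v) := pol_eq S y v
    have e2 : pol Q y (s • p • v) = tr F E (s • p * Bf S y v) := by rw [← smul_assoc, pol_smul_right S]
    rw [e1, e2]
    simp only [ω, LinearMap.sub_apply, LinearMap.smulRight_apply, LinearMap.comp_apply, LinearMap.mulLeft_apply,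
      sub_smul, smul_assoc, one_smul]
    abel
  obtain ⟨P, hP⟩ : ∃ P, P = pr S g v := ⟨_, rfl⟩
  have himg : ∀ q : E, g ⋆ (q • v) ∈ W := fun q => hconj _ (hline q) g hg hgv
  obtain ⟨p₀, hp₀⟩ : ∃ p₀, P p₀ ≠ 0 := by
    by_contra hc
    push Not at hc
    have h1 : (⊤ : Submodule F E) ≤ Submodule.span F {(1 : E)} := fun p _ => hker p (hP ▸ hc p)
    have h2 := Submodule.finrank_mono h1
    rw [finrank_top, finrank_span_singleton (one_ne_zero (α := E))] at h2
    omega
  have haxis : ∀ e : E, e • a ∈ W := fun e => by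
    obtain ⟨η, hη⟩ : ∃ η, η = e / P p₀ := ⟨_, rfl⟩
    obtain ⟨T, hT, hTa, hTy⟩ := R.exists_T η
    obtain ⟨w, hw⟩ : ∃ w, w = g ⋆ (p₀ • v) := ⟨_, rfl⟩
    have hTv : T ⋆ v = v := by rw [hTy]; simp [R.vv, R.va]
    have h1 := Submodule.sub_mem _ (hconj _ (himg p₀) T hT hTv) (himg p₀)
    rw [hTy, ← pr_apply, ← hP, show η * P p₀ = e by rw [hη, div_mul_cancel₀ _ hp₀]] at h1
    have h2 := Submodule.add_mem _ h1
      (hline (η * Bf S (g ⋆ (p₀ • v)) a + η * η * Bf S a a / 2 * P p₀))
    convert h2 using 1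
    abel
  have hrange : LinearMap.range P = LinearMap.ker (tr F E) := by
    have hle : LinearMap.range P ≤ LinearMap.ker (tr F E) := by
      rintro x ⟨p, rfl⟩
      rw [LinearMap.mem_ker, hP, pr_apply, ← pol_eq S]
      have h := iso_pol (le_iso S hg) (p • v) v
      rw [hgv] at h
      rw [h]
      simpa using pol_line S hv p 1
    refine Submodule.eq_of_le_of_finrank_le hle ?_
    have e1 := P.finrank_range_add_finrank_ker
    have e2 : finrank F (LinearMap.ker P) ≤ 1 :=
      (Submodule.finrank_mono fun p hp => hker p (hP ▸ hp)).trans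
        (le_of_eq (finrank_span_singleton (one_ne_zero (α := E))))
    have e3 : finrank F (LinearMap.ker (tr F E)) < finrank F E := Submodule.finrank_lt fun h => by
      have h1 : (1 : E) ∈ LinearMap.ker (tr F E) := h ▸ Submodule.mem_top
      rw [LinearMap.mem_ker, ← one_smul F (1 : E), tr_smul_one] at h1
      exact one_ne_zero h1
    omega
  refine mem_eCentres_of_eSub (hQ := S.form) (hx := hQv) fun y hy => hW ▸ ?_
  obtain ⟨q, hq⟩ : Bf S y v ∈ LinearMap.range P := by
    rw [hrange, LinearMap.mem_ker, ← pol_eq S, pcomm]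
    exact hy
  rw [R.expand h3 y]
  refine Submodule.add_mem _ (Submodule.add_mem _ (hline _) (haxis _)) ?_
  have e := R.expand h3 (g ⋆ (q • v))
  rw [← pr_apply, ← hP, hq, ← sub_eq_iff_eq_add'] at e
  rw [show Bf S y v • f = g ⋆ (q • v) - (Bf S (g ⋆ (q • v)) f • v + (Bf S (g ⋆ (q • v)) a / Bf S a a) • a) by
    rw [← e]]
  exact Submodule.sub_mem _ (himg q) (Submodule.add_mem _ (hline _) (haxis _))

/-- the kernel of the pairing is not the fixed part, or the point is a centre -/
theorem Top.not_ker (hT : Top S v K) (hr : 3 ≤ finrank F E) (h3 : finrank E (ι → F) = 3) (R : Fr S v a f)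
    (hA : ∃ ω, Oz S v ω ∧ ω ≠ 0) (hg : Mx M v K g)
    (hker : ∀ g', Mx M v K g' → ∀ p, pr S g' v p = 0 → p ∈ K) : v ∈ eCentres Q M := by
  by_contra hcon
  classical
  haveI := finite_E S
  obtain ⟨p₀, hp₀, -⟩ := hg.exists_not_mem
  obtain ⟨c₀, hc₀⟩ : ∃ c₀, c₀ = pr S g v p₀ := ⟨_, rfl⟩
  have hc₀0 : c₀ ≠ 0 := fun h => hp₀ (hker g hg p₀ (hc₀ ▸ h))
  obtain ⟨P, hP⟩ : ∃ P, P = pr S g v := ⟨_, rfl⟩
  have hPK : LinearMap.ker P = K := by
    rw [hP]; exact le_antisymm (fun p hp => hker g hg p hp) (fun p hp => hg.pr_K hT hp)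
  have hodd : finrank F E % 2 = 1 := S.prime.eq_two_or_odd.resolve_left (by omega)
  obtain ⟨s, hs⟩ : ∃ s, s = finrank F (LinearMap.range P) := ⟨_, rfl⟩
  have hsK : s + finrank F K = finrank F E := by rw [hs, ← hPK]; exact P.finrank_range_add_finrank_ker
  have h1K : 1 ≤ finrank F K :=
    Submodule.one_le_finrank_iff.2 fun h => one_ne_zero (α := E) ((Submodule.mem_bot F).1 (h ▸ hT.one))
  by_cases hsmall : 2 * s < finrank F E
  · obtain ⟨ω, hω, hne, -⟩ := hT.cw R hker hg hp₀ ⊥ (fun ω hω => by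
      rw [(Submodule.mem_bot F).1 hω]; exact Oz.zero S v) (by rw [← hP, finrank_bot, ← hs]; omega)
    exact hne ((Submodule.mem_bot F).1 hω)
  let Φ : (E →ₗ[F] E) →ₗ[F] Module.Dual F E :=
    P.dualMap.comp ((trDual F E).toLinearMap.comp (LinearMap.applyₗ c₀))
  have hΦ : ∀ ω q, Φ ω q = tr F E (ω c₀ * P q) := fun ω q => by
    show trDual F E (ω c₀) (P q) = _
    rw [trDual_apply, mul_comm]
  have hnull : ∀ ω, Oz S v ω → Φ ω = 0 → ∀ q, ω (P q) ∈ K := fun ω hω h => by
    have h' : ∀ q, tr F E (ω (pr S g v p₀) * pr S g v q) = 0 := fun q => by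
      rw [← hc₀, ← hP, ← hΦ, h, LinearMap.zero_apply]
    rw [hP]
    exact hT.null R hker hg hp₀ hω h'
  -- a map sending the range into a subspace of dimension `t` has a large kernel
  have hbig : ∀ (ω : E →ₗ[F] E) (Y : Submodule F E), (∀ q, ω (P q) ∈ Y) →
      s ≤ finrank F Y + finrank F (LinearMap.ker ω) := fun ω Y h => by
    have e1 := LinearMap.finrank_range_add_finrank_ker (ω.comp (LinearMap.range P).subtype)
    have e2 : finrank F (LinearMap.range (ω.comp (LinearMap.range P).subtype)) ≤ finrank F Y :=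
      Submodule.finrank_mono fun y hy => by
        obtain ⟨⟨x, q, rfl⟩, rfl⟩ := hy
        exact h q
    have e3 : finrank F (LinearMap.ker (ω.comp (LinearMap.range P).subtype)) ≤ finrank F (LinearMap.ker ω) := by
      rw [LinearMap.ker_comp, (Submodule.equivMapOfInjective _ (LinearMap.range P).injective_subtype _).finrank_eq]
      exact Submodule.finrank_mono (Submodule.map_comap_le _ _)
    omega
  -- the pairings vanish at `p₀` and on the fixed part
  obtain ⟨An, hAn⟩ : ∃ An, An = (K ⊔ Submodule.span F {p₀}).dualAnnihilator := ⟨_, rfl⟩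
  have hAnn : ∀ ω, Oz S v ω → Φ ω ∈ An := fun ω hω => by
    rw [hAn, Submodule.mem_dualAnnihilator]
    intro w hw
    obtain ⟨k, hk, c, hc, rfl⟩ := Submodule.mem_sup.1 hw
    obtain ⟨t, rfl⟩ := Submodule.mem_span_singleton.1 hc
    have hk0 : P k = 0 := by rw [← LinearMap.mem_ker, hPK]; exact hk
    have e := Oz.skew R hω c₀ c₀
    rw [mul_comm c₀] at e
    have e' : tr F E (ω c₀ * c₀) = 0 :=
      (mul_eq_zero.1 (show (2 : F) * tr F E (ω c₀ * c₀) = 0 by linear_combination e)).resolve_left S.two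
    rw [hΦ, map_add, map_smul, hk0, zero_add, mul_smul_comm, map_smul, hP, ← hc₀, e', smul_zero]
  have hAndim : finrank F An + 1 ≤ s := by
    have e1 := Subspace.finrank_add_finrank_dualAnnihilator_eq (K ⊔ Submodule.span F {p₀})
    have e2 : K < K ⊔ Submodule.span F {p₀} :=
      left_lt_sup.2 fun h => hp₀ (h (Submodule.mem_span_singleton_self p₀))
    have e3 := Submodule.finrank_lt_finrank_of_lt e2
    rw [← hAn] at e1
    omega
  obtain ⟨ω₀, hω₀, hω₀ne⟩ := hA
  by_cases hZ : Zl S v R.vv = ⊥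
  · -- without invariant families there are too few maps
    have hinj : ∀ ω, Oz S v ω → Φ ω = 0 → ω = 0 := by
      intro ω hω hΦ0
      by_contra hne
      have hK := hnull ω hω hΦ0
      have hω' := hω
      obtain ⟨z, hz, hzy⟩ := hω'
      have hm : ∀ q : E, (g⁻¹ * z * g) ⋆ (q • v) = (q + ω (P q)) • v := fun q => by
        apply Matrix.mulVec_injective_of_isUnit (Units.isUnit g)
        show g ⋆ ((g⁻¹ * z * g) ⋆ (q • v)) = g ⋆ ((q + ω (P q)) • v)
        rw [gl_mul_mulVec, gl_mul_mulVec, gl_mulVec_inv, hzy, add_smul, mulVec_add, hg.fix (hK q), hP, pr_apply]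
      obtain ⟨τ, hτ, -, -⟩ := stab_semi R h3 hZ (M.mul_mem (M.mul_mem (M.inv_mem hg.1) hz) hg.1)
        fun q => by rw [hm]; exact Submodule.smul_mem _ _ (Submodule.mem_span_singleton_self v)
      have hP1 : P 1 = 0 := by rw [← LinearMap.mem_ker, hPK]; exact hT.one
      have hmv : (g⁻¹ * z * g) ⋆ v = v := by
        have := hm 1
        rwa [hP1, map_zero, add_zero, one_smul] at this
      have hτ' : ∀ q, τ q = q + ω (P q) := fun q => smul_left_injective E R.v0 (show τ q • v = (q + ω (P q)) • v by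
        rw [← hm, hτ, hmv])
      obtain ⟨d, hd⟩ : ∃ d : E →ₗ[F] E, d = ω.comp P := ⟨_, rfl⟩
      have hdd : ∀ x, d (d x) = 0 := fun x => by
        have : P (ω (P x)) = 0 := by rw [← LinearMap.mem_ker, hPK]; exact hK x
        rw [hd, LinearMap.comp_apply, LinearMap.comp_apply, this, map_zero]
      have hτd : ∀ q, τ q = q + d q := fun q => by rw [hd]; exact hτ' q
      have hmul : ∀ x y, d (x * y) = d x * y + x * d y + d x * d y := fun x y => by
        have e := map_mul τ x y
        rw [hτd, hτd, hτd] at e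
        linear_combination e
      have hd0 : ∀ x, d x = 0 := fun x => by
        have e := congrArg d (hmul x x)
        rw [hdd, map_add, map_add, hmul (d x) x, hmul x (d x), hmul (d x) (d x), hdd] at e
        simp only [zero_mul, mul_zero, add_zero, zero_add] at e
        exact mul_self_eq_zero.1 ((mul_eq_zero.1 (show (2 : E) * (d x * d x) = 0 by
          linear_combination -e)).resolve_left (two_E S))
      have h1 := hbig ω ⊥ fun q => by rw [Submodule.mem_bot, ← LinearMap.comp_apply, ← hd, hd0]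
      have h2 := hT.ker_le R hω hne
      rw [finrank_bot] at h1
      omega
    haveI : Fintype E := Fintype.ofFinite E
    haveI : Finite (E →ₗ[F] E) := Module.finite_of_finite F
    let G : Finset (E →ₗ[F] E) := (Set.toFinite {ω | Oz S v ω}).toFinset
    have hGmem : ∀ ω, ω ∈ G ↔ Oz S v ω := fun ω => Set.Finite.mem_toFinset _
    let φ : Eˣ → (E →ₗ[F] E) := fun c => dconj ((c : E) * c) ω₀
    obtain ⟨x₀, hx₀⟩ : ∃ x, ω₀ x ≠ 0 := by
      by_contra hcon
      push Not at hcon
      exact hω₀ne (LinearMap.ext hcon)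
    have hroot : ∀ c c' : Eˣ, φ c = φ c' → ((c : E) / c') ^ 4 = 1 := by
      intro c c' h
      obtain ⟨e, he⟩ : ∃ e : E, e = (c : E) / c' * ((c : E) / c') := ⟨_, rfl⟩
      have he0 : e ≠ 0 := by rw [he]; simp
      have hx : ∀ x, ω₀ (e * x) = e⁻¹ * ω₀ x := fun x => by
        have h1 := LinearMap.congr_fun h (x / ((c' : E) * c'))
        rw [show φ c = dconj ((c : E) * c) ω₀ from rfl, show φ c' = dconj ((c' : E) * c') ω₀ from rfl, dconj_apply,
          dconj_apply, mul_div_cancel₀ _ (by simp),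
          show (c : E) * c * (x / ((c' : E) * c')) = e * x by rw [he]; field_simp] at h1
        have h2 : (c' : E) * c' * e = (c : E) * c := by rw [he]; field_simp
        rw [eq_inv_mul_iff_mul_eq₀ he0]
        apply mul_left_cancel₀ (show (c' : E) * c' ≠ 0 by simp)
        linear_combination (ω₀ (e * x)) * h2 + h1
      have hpol : ∀ (p : Polynomial F) x, ω₀ (Polynomial.aeval e p * x) = Polynomial.aeval e⁻¹ p * ω₀ x := by
        intro p
        induction p using Polynomial.induction_on' with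
        | add p p' hp hp' => intro x; rw [map_add, map_add, add_mul, map_add, hp, hp', add_mul]
        | monomial n k =>
          intro x
          rw [Polynomial.aeval_monomial, Polynomial.aeval_monomial, mul_assoc, mul_assoc, ← Algebra.smul_def,
            map_smul, ← Algebra.smul_def]
          congr 1
          induction n generalizing x with
          | zero => simp
          | succ n ih => rw [pow_succ', pow_succ', mul_assoc, hx, ih, mul_assoc]
      have hsq := sq_eq_one_of_conj S (by omega) he0 (by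
        have h1 := hpol (minpoly F e) x₀
        rw [minpoly.aeval, zero_mul, map_zero] at h1
        exact (mul_eq_zero.1 h1.symm).resolve_right hx₀)
      rw [← hsq, he]
      ring
    have hcard : Fintype.card Eˣ ≤ 4 * G.card := by
      refine le_trans (Finset.card_le_mul_card_image (s := Finset.univ) (f := φ) 4 fun b hb => ?_)
        (Nat.mul_le_mul_left 4 (Finset.card_le_card fun b hb => ?_))
      · obtain ⟨c', -, rfl⟩ := Finset.mem_image.1 hb
        refine le_trans (Finset.card_le_card_of_injOn (fun c : Eˣ => (c : E) / c')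
          (t := (Polynomial.nthRoots 4 (1 : E)).toFinset) ?_ ?_)
          ((Multiset.toFinset_card_le _).trans (Polynomial.card_nthRoots 4 1))
        · intro c hc
          simp only [Finset.coe_filter, Finset.mem_univ, true_and, Set.mem_setOf_eq] at hc
          simp only [Finset.mem_coe, Multiset.mem_toFinset]
          exact (Polynomial.mem_nthRoots (by norm_num)).2 (hroot c c' hc)
        · intro c _ d _ h
          exact Units.ext ((div_left_inj' c'.ne_zero).1 h)
      · obtain ⟨c, -, rfl⟩ := Finset.mem_image.1 hb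
        exact (hGmem _).2 (hω₀.dconj' R h3 c.ne_zero)
    have hG : G.card ≤ Nat.card An := by
      rw [← Nat.card_eq_finsetCard G]
      haveI : Finite An := Module.finite_of_finite F
      refine Nat.card_le_card_of_injective (fun ω : G => (⟨Φ (ω : E →ₗ[F] E), hAnn _
        ((hGmem _).1 ω.2)⟩ : An)) fun ω ω' h => Subtype.ext (sub_eq_zero.1 ?_)
      have hω := (hGmem _).1 ω.2
      have hω' := (hGmem _).1 ω'.2
      refine hinj _ (by rw [sub_eq_add_neg]; exact hω.add R.vv (hω'.neg R.vv)) ?_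
      rw [map_sub, sub_eq_zero]
      exact congrArg Subtype.val h
    rw [Module.natCard_eq_pow_finrank (K := F) (V := An), Nat.card_eq_fintype_card] at hG
    rw [Fintype.card_units, Module.card_eq_pow_finrank (K := F) (V := E)] at hcard
    have hq3 : 3 ≤ Fintype.card F := by
      have h1 : 1 < Fintype.card F := Fintype.one_lt_card
      rcases Nat.lt_or_ge (Fintype.card F) 3 with h | h
      · exfalso
        apply S.two
        have h2 := Nat.cast_card_eq_zero F
        rw [show Fintype.card F = 2 by omega] at h2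
        exact_mod_cast h2
      · exact h
    obtain ⟨q, hq⟩ : ∃ q, q = Fintype.card F := ⟨_, rfl⟩
    rw [← hq] at hG hcard hq3
    have h1 : q ^ finrank F An ≤ q ^ (finrank F E - 2) := Nat.pow_le_pow_right (by omega) (by omega)
    have h2 : 9 * q ^ (finrank F E - 2) ≤ q ^ finrank F E := by
      obtain ⟨n, hn⟩ : ∃ n, finrank F E = n + 2 := ⟨finrank F E - 2, by omega⟩
      rw [hn, Nat.add_sub_cancel, pow_add, mul_comm]
      exact Nat.mul_le_mul_left _ (by nlinarith)
    have h3 : 0 < q ^ (finrank F E - 2) := pow_pos (by omega) _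
    omega
  -- with an invariant family
  obtain ⟨U, hU⟩ : ∃ U, U = (Zl S v R.vv).map (LinearMap.applyₗ c₀) := ⟨_, rfl⟩
  have hZO : ∀ ω ∈ Zl S v R.vv, Oz S v ω := fun ω h => by
    have := h 1
    rwa [one_smul] at this
  have hUdim : finrank F E ≤ finrank F U + 1 := by
    obtain ⟨ω₁, hω₁, hω₁ne⟩ := Submodule.exists_mem_ne_zero_of_ne_bot hZ
    obtain ⟨U', hU'⟩ : ∃ U', U' = U.map (trDual F E).toLinearMap := ⟨_, rfl⟩
    have hco : U'.dualCoannihilator ≤ Submodule.span F {c₀} := fun y hy =>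
      ann_line (S := S) (by omega) (W := (Zl S v R.vv : Set (E →ₗ[F] E))) (fun ω hω c hc => Zl.inv R h3 hω hc)
        (fun ω hω p p' => Oz.skew R (hZO ω hω) p p') hω₁ hω₁ne hc₀0 fun ω hω => by
          rw [Submodule.mem_dualCoannihilator] at hy
          have := hy (trDual F E (ω c₀)) (hU' ▸ ⟨ω c₀, hU ▸ ⟨ω, hω, rfl⟩, rfl⟩)
          rwa [trDual_apply, mul_comm] at this
    have e1 := Subspace.finrank_add_finrank_dualCoannihilator_eq U'
    have e2 := (Submodule.finrank_mono hco).trans (le_of_eq (finrank_span_singleton hc₀0))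
    have e3 : finrank F U' ≤ finrank F U := hU' ▸ Submodule.finrank_map_le _ _
    omega
  have hΦdim : s ≤ finrank F ((Zl S v R.vv).map Φ) + 1 := by
    have hmap : (Zl S v R.vv).map Φ = U.map (P.dualMap.comp (trDual F E).toLinearMap) := by
      rw [hU, ← Submodule.map_comp]; rfl
    obtain ⟨ψ, hψ⟩ : ∃ ψ, ψ = P.dualMap.comp (trDual F E).toLinearMap := ⟨_, rfl⟩
    have e1 := LinearMap.finrank_range_add_finrank_ker (ψ.comp U.subtype)
    have e2 : finrank F (LinearMap.ker (ψ.comp U.subtype)) ≤ finrank F (LinearMap.ker ψ) := by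
      rw [LinearMap.ker_comp, (Submodule.equivMapOfInjective _ U.injective_subtype _).finrank_eq]
      exact Submodule.finrank_mono (Submodule.map_comap_le _ _)
    have e3 := ψ.finrank_range_add_finrank_ker
    have e4 : finrank F (LinearMap.range ψ) = s := by
      rw [hψ, LinearMap.range_comp_of_range_eq_top _ (LinearEquiv.range _),
        LinearMap.finrank_range_dualMap_eq_finrank_range, hs]
    have e5 : LinearMap.range (ψ.comp U.subtype) = U.map ψ := by
      rw [LinearMap.range_comp, Submodule.range_subtype]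
    rw [e5] at e1
    rw [hmap, ← hψ]
    omega
  by_cases hs2 : s + 2 ≤ finrank F E
  · obtain ⟨K', hK'⟩ : ∃ K', K' = Zl S v R.vv ⊓ LinearMap.ker Φ := ⟨_, rfl⟩
    obtain ⟨W₀, hW₀⟩ := Submodule.exists_isCompl K'
    obtain ⟨W, hW⟩ : ∃ W, W = W₀ ⊓ Zl S v R.vv := ⟨_, rfl⟩
    have hsup : K' ⊔ W = Zl S v R.vv := by
      rw [hW, ← sup_inf_assoc_of_le W₀ (hK' ▸ inf_le_left : K' ≤ Zl S v R.vv), hW₀.sup_eq_top, top_inf_eq]
    have hWdim : finrank F ((Zl S v R.vv).map Φ) ≤ finrank F W := by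
      have h0 : K'.map Φ = ⊥ := LinearMap.le_ker_iff_map.1 (hK' ▸ inf_le_right)
      rw [← hsup, Submodule.map_sup, h0, bot_sup_eq]
      exact Submodule.finrank_map_le _ _
    obtain ⟨ω, hω, hne, hpair⟩ := hT.cw R hker hg hp₀ W (fun ω hω => hZO ω (hW ▸ hω : ω ∈ W₀ ⊓ Zl S v R.vv).2)
      (by rw [← hP, ← hs]; omega)
    have hω' : ω ∈ W₀ ⊓ Zl S v R.vv := hW ▸ hω
    have hωK : ω ∈ K' := hK' ▸ ⟨hω'.2, LinearMap.mem_ker.2 (LinearMap.ext fun q => by
      rw [hΦ, LinearMap.zero_apply, hP, hc₀]; exact hpair q)⟩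
    exact hne ((Submodule.mem_bot F).1 (hW₀.inf_eq_bot ▸ ⟨hωK, hω'.1⟩))
  · by_cases hr3 : finrank F E = 3
    · refine hcon (centre_of_full hr3 h3 R hZ hg.1 (hg.self hT) fun p hp => ?_)
      have hKspan : Submodule.span F ({1} : Set E) = K := Submodule.eq_of_le_of_finrank_le
        ((Submodule.span_singleton_le_iff_mem _ _).2 hT.one)
        (by rw [finrank_span_singleton (one_ne_zero (α := E))]; omega)
      rw [hKspan]
      exact hker g hg p hp
    have hinj : ∀ ω ∈ Zl S v R.vv, Φ ω = 0 → ω = 0 := by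
      intro ω hω h0
      by_contra hne
      have h1 := hbig ω K (hnull ω (hZO ω hω) h0)
      have h2 := hT.ker_le R (hZO ω hω) hne
      omega
    have e1 : finrank F (Zl S v R.vv) ≤ finrank F An := by
      refine LinearMap.finrank_le_finrank_of_injective
        (f := (Φ.comp (Zl S v R.vv).subtype).codRestrict An fun ω => hAnn _ (hZO _ ω.2))
        ((injective_iff_map_eq_zero _).2 fun ω h => Subtype.ext (hinj _ ω.2 ?_))
      exact congrArg Subtype.val h
    have e2 : finrank F U ≤ finrank F (Zl S v R.vv) := hU ▸ Submodule.finrank_map_le _ _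
    omega

/-- a hyperplane of a singular line fixed, the image orthogonal to the line -/
theorem exists_hyp_three {S : OData E Q M} (hr : 3 ≤ finrank F E) (h3 : finrank E (ι → F) = 3)
    (hA : ∀ w : ι → F, Bf S w w = 0 → w ≠ 0 → ∃ ω, Oz S w ω ∧ ω ≠ 0) {g₀ : GL ι F} {v₀ : ι → F}
    (h₀ : Adm S g₀ v₀) : (∃ v, Bf S v v = 0 ∧ v ≠ 0 ∧ v ∈ eCentres Q M) ∨
      ∃ g v, ∃ ρ : E, Hyp S g v ρ ∧ ∀ p : E, Bf S (g ⋆ (p • v)) v = 0 := by
  classical
  obtain ⟨⟨g, v⟩, hadm, hmax⟩ := Set.Finite.exists_maximalFor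
    (fun x : GL ι F × (ι → F) => finrank F (fixK E x.1 x.2)) {x | Adm S x.1 x.2} (Set.toFinite _)
    ⟨(g₀, v₀), h₀⟩
  obtain ⟨hg, hv, hv0, hgv, hgm⟩ := hadm
  have hT : Top S v (fixK E g v) := ⟨hv, hv0, mem_fixK.2 (by rw [one_smul, hgv]), fun g' w h => by
    rcases le_total (finrank F (fixK E g' w)) (finrank F (fixK E g v)) with h' | h'
    · exact h'
    · exact hmax (j := (g', w)) h h'⟩
  have hgM : Mx M v (fixK E g v) g := ⟨hg, hgm, le_rfl⟩
  obtain ⟨a, f, R⟩ := exists_frame S hv hv0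
  by_cases hc : ∃ g', Mx M v (fixK E g v) g' ∧ ∃ p, p ∉ fixK E g v ∧ pr S g' v p = 0
  · obtain ⟨g', hg', p, hp, hPp⟩ := hc
    have h0 := hT.pr_zero (by omega) h3 R (hA v hv hv0) hg' hp hPp
    obtain ⟨ρ, H⟩ := hT.hyp (by omega) h3 R hg' h0
    exact Or.inr ⟨g', v, ρ, H, fun q => by rw [← pr_apply, h0, LinearMap.zero_apply]⟩
  · push Not at hc
    exact Or.inl ⟨v, hv, hv0,
      hT.not_ker hr h3 R (hA v hv hv0) hgM fun g' hg' p hp => by_contra fun hpK => hc g' hg' p hpK hp⟩

end CfsgLib.Perm.Trans.OrthExt
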