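import Cfsg.Agent.Lib.Perm.Trans.OrthExt.Three.Line

/-!
# Three dimensions over the extension field: elements keeping a singular line

An element of the overgroup keeping a singular line is semilinear, or some element is trivial on the orthogonal of
that line.  In the second case the same holds at every singular line.
-/

set_option autoImplicit false
set_option linter.all false

namespace CfsgLib.Perm.Trans.OrthExt

open scoped Matrix
open Matrix Module Cfsg.Geo CfsgLib.Perm.Asch CfsgLib.Perm.Trans CfsgLib.Perm.Trans.Quad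
open CfsgLib.Perm.Trans.Symp.Ext (tr trDual trDual_apply tr_ext tr_smul_one exists_tr_separate)

variable {ι : Type} [Fintype ι] [DecidableEq ι] {F : Type*} [Field F] [Fintype F]
variable {E : Type*} [Field E] [Algebra F E] [FiniteDimensional F E]
variable [Module E (ι → F)] [IsScalarTower F E (ι → F)]
variable {Q : (ι → F) → F}

local notation "pol" => QuadraticMap.polar
local notation:75 g " ⋆ " x:75 => (Units.val g : Matrix ι ι F) *ᵥ x

omit [Fintype F] [FiniteDimensional F E] in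
/-- polynomials in a map acting as a scalar on a line -/
theorem aeval_line {L : (ι → F) →ₗ[F] (ι → F)} {x : ι → F} {e : E} (h : ∀ p : E, L (p • x) = (e * p) • x)
    (P : Polynomial F) : ∀ p : E, Polynomial.aeval L P (p • x) = (Polynomial.aeval e P * p) • x := by
  induction P using Polynomial.induction_on' with
  | add P R hP hR => intro p; rw [map_add, map_add, LinearMap.add_apply, hP, hR, add_mul, add_smul]
  | monomial n c =>
    intro p
    rw [Polynomial.aeval_monomial, Polynomial.aeval_monomial]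
    show algebraMap F (Module.End F (ι → F)) c ((L ^ n) (p • x)) = _
    have hpow : ∀ n, (L ^ n) (p • x) = (e ^ n * p) • x := by
      intro n
      induction n with
      | zero => simp
      | succ n ih => rw [pow_succ', Module.End.mul_apply, ih, h, pow_succ', mul_assoc]
    rw [hpow, Module.algebraMap_end_apply, mul_assoc, ← Algebra.smul_def, smul_assoc]

omit [Fintype F] [FiniteDimensional F E] in
/-- polynomials in intertwined maps -/
theorem aeval_intertwine {L L' φ : (ι → F) →ₗ[F] (ι → F)} (h : ∀ y, L' (φ y) = φ (L y)) (P : Polynomial F) :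
    ∀ y, Polynomial.aeval L' P (φ y) = φ (Polynomial.aeval L P y) := by
  induction P using Polynomial.induction_on' with
  | add P R hP hR => intro y; rw [map_add, map_add, LinearMap.add_apply, LinearMap.add_apply, hP, hR, map_add]
  | monomial n c =>
    intro y
    rw [Polynomial.aeval_monomial, Polynomial.aeval_monomial]
    show algebraMap F (Module.End F (ι → F)) c ((L' ^ n) (φ y)) = φ (algebraMap F (Module.End F (ι → F)) c ((L ^ n) y))
    have hpow : ∀ n, (L' ^ n) (φ y) = φ ((L ^ n) y) := by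
      intro n
      induction n with
      | zero => simp
      | succ n ih => rw [pow_succ', Module.End.mul_apply, ih, h, pow_succ', Module.End.mul_apply]
    rw [hpow, Module.algebraMap_end_apply, Module.algebraMap_end_apply, map_smul]

variable {M : Subgroup (GL ι F)} (S : OData E Q M)

/-- semilinear over `E` -/
def Semi (E : Type*) [Field E] [Algebra F E] [Module E (ι → F)] (g : GL ι F) : Prop :=
  ∃ τ : E →ₐ[F] E, ∀ (e : E) (x : ι → F), g ⋆ (e • x) = τ e • (g ⋆ x)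

include S

/-- something outside the scalars -/
theorem exists_nonscalar (hr : 3 ≤ finrank F E) : ∃ c : E, c ≠ 0 ∧ c ∉ Set.range (algebraMap F E) := by
  by_contra hc'
  push Not at hc'
  have h1 : (⊤ : Submodule F E) ≤ Submodule.span F {(1 : E)} := fun y _ => by
    rcases eq_or_ne y 0 with rfl | hy
    · exact Submodule.zero_mem _
    obtain ⟨s, hs⟩ := hc' y hy
    exact Submodule.mem_span_singleton.2 ⟨s, by rw [Algebra.smul_def, mul_one, hs]⟩
  have h2 := Submodule.finrank_mono h1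
  rw [finrank_top, finrank_span_singleton (one_ne_zero (α := E))] at h2
  omega

variable {S} {v a f : ι → F}

omit S in
/-- transport to another singular line -/
theorem Oz.transport {S : OData E Q M} (h3 : finrank E (ι → F) = 3) (R : Fr S v a f)
    (h : ∃ ω, Oz S v ω ∧ ω ≠ 0) {w : ι → F} (hw : Bf S w w = 0) (hw0 : w ≠ 0) : ∃ ω, Oz S w ω ∧ ω ≠ 0 := by
  obtain ⟨a', f', R'⟩ := exists_frame S hw hw0
  obtain ⟨ω, ⟨z, hz, hzy⟩, hne⟩ := h
  by_cases hvw : Bf S w v = 0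
  · obtain ⟨q, hq⟩ : ∃ q, w = q • v := ⟨_, R.mem_line h3 hvw hw⟩
    have hq0 : q ≠ 0 := fun h => hw0 (by rw [hq, h, zero_smul])
    obtain ⟨ω', hω', hωy⟩ := exists_Oz R' h3 hz fun x hx => by
      have hxv : Bf S x v = 0 := by
        rw [hq, Bf_smul_right] at hx
        exact (mul_eq_zero.1 hx).resolve_left hq0
      rw [hzy, hxv, map_zero, zero_smul, add_zero]
    refine ⟨ω', hω', fun h0 => hne (LinearMap.ext fun p => ?_)⟩
    have e := hωy (p • f)
    rw [hzy, h0, LinearMap.zero_apply, zero_smul, add_zero, Bf_smul_left, R.fv, mul_one, add_eq_left,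
      smul_eq_zero] at e
    exact e.resolve_right R.v0
  obtain ⟨m, hm, hml, ζ, hζ, hmv⟩ := exists_to_lin S R.vv hw (by rwa [Bf_comm S])
  have hmw : m ⋆ v = ζ • w := by
    have := hmv 1
    rwa [one_smul, one_mul] at this
  obtain ⟨ω', hω', hωy⟩ := exists_Oz R' h3 (M.mul_mem (M.mul_mem hm hz) (M.inv_mem hm)) fun x hx => by
    have hxv : Bf S (m⁻¹ ⋆ x) v = 0 := by
      rw [← Bf_iso S (le_iso S hm) hml, gl_mulVec_inv, hmw, Bf_smul_right, hx, mul_zero]
    rw [gl_mul_mulVec, gl_mul_mulVec, hzy, hxv, map_zero, zero_smul, add_zero, gl_mulVec_inv]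
  refine ⟨ω', hω', fun h0 => hne (LinearMap.ext fun p => ?_)⟩
  have e := hωy (m ⋆ (p • f))
  rw [gl_mul_mulVec, gl_mul_mulVec, gl_inv_mulVec, hzy, h0, LinearMap.zero_apply, zero_smul, add_zero, mulVec_add,
    add_eq_left, gl_mulVec_eq_zero, Bf_smul_left, R.fv, mul_one, smul_eq_zero] at e
  exact e.resolve_right R.v0

omit S in
/-- an element keeping a singular line is semilinear without elements trivial on its orthogonal -/
theorem semi_of_stab {S : OData E Q M} (hr : 3 ≤ finrank F E) (h3 : finrank E (ι → F) = 3) (R : Fr S v a f)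
    (hO : ∀ ω, Oz S v ω → ω = 0) {m : GL ι F} (hm : m ∈ M)
    (hmv : ∀ p : E, m ⋆ (p • v) ∈ Submodule.span E ({v} : Set (ι → F))) : Semi E m := by
  have hZ : Zl S v R.vv = ⊥ := (Submodule.eq_bot_iff _).2 fun ω hω => hO ω (by have := hω 1; rwa [one_smul] at this)
  obtain ⟨τ, hτv, hτa, hperp⟩ := stab_semi R h3 hZ hm hmv
  obtain ⟨c, hc0, hcF⟩ := exists_nonscalar S hr
  obtain ⟨h, hh, hhl, hhx⟩ := R.exists_diag h3 hc0
  obtain ⟨d, hd⟩ : ∃ d, d = c * c := ⟨_, rfl⟩
  have hd0 : d ≠ 0 := hd ▸ mul_ne_zero hc0 hc0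
  have hdF : d ∉ Set.range (algebraMap F E) := fun h => hcF (mem_range_of_sq S hr (hd ▸ h))
  have hτc : τ c ≠ 0 := fun h => hc0 (τ.toRingHom.injective (h.trans (map_zero τ).symm))
  obtain ⟨h', hh', hhl', hhx'⟩ := R.exists_diag h3 hτc
  obtain ⟨d', hd'⟩ : ∃ d', d' = τ d := ⟨_, rfl⟩
  have hd'' : τ c * τ c = d' := by rw [hd', hd, map_mul]
  rw [hd''] at hhx'
  rw [← hd] at hhx
  have hd'0 : d' ≠ 0 := hd'' ▸ mul_ne_zero hτc hτc
  have hd'1 : 1 - d' ≠ 0 := fun h => hdF ⟨1, by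
    apply τ.toRingHom.injective
    show τ _ = τ d
    rw [AlgHom.commutes, map_one, ← hd']
    exact sub_eq_zero.1 h⟩
  have hv_h : ∀ p : E, h ⋆ (p • v) = (d * p) • v := fun p => by simpa using hhx p 0 0
  have ha_h : ∀ p : E, h ⋆ (p • a) = p • a := fun p => by simpa using hhx 0 p 0
  have hf_h : ∀ p : E, h ⋆ (p • f) = (d⁻¹ * p) • f := fun p => by simpa using hhx 0 0 p
  have hv_h' : ∀ p : E, h' ⋆ (p • v) = (d' * p) • v := fun p => by simpa using hhx' p 0 0
  have ha_h' : ∀ p : E, h' ⋆ (p • a) = p • a := fun p => by simpa using hhx' 0 p 0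
  have hf_h' : ∀ p : E, h' ⋆ (p • f) = (d'⁻¹ * p) • f := fun p => by simpa using hhx' 0 0 p
  obtain ⟨M₁, hM₁⟩ : ∃ M₁, M₁ = m * h * m⁻¹ := ⟨_, rfl⟩
  have hM₁M : M₁ ∈ M := hM₁ ▸ M.mul_mem (M.mul_mem hm hh) (M.inv_mem hm)
  have hM₁m : ∀ y, M₁ ⋆ (m ⋆ y) = m ⋆ (h ⋆ y) := fun y => by rw [hM₁, gl_mul_mulVec, gl_mul_mulVec, gl_inv_mulVec]
  -- the quotient of `M₁` by the torus element is an Eichler transformation
  have hmv1 : m ⋆ v ≠ 0 := fun h => R.v0 (gl_mulVec_eq_zero.1 h)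
  obtain ⟨μ, hμ⟩ : ∃ μ, μ • v = m ⋆ v := by
    obtain ⟨μ, h⟩ := Submodule.mem_span_singleton.1 (hmv 1)
    exact ⟨μ, by rwa [one_smul] at h⟩
  have hμ0 : μ ≠ 0 := fun h => hmv1 (by rw [← hμ, h, zero_smul])
  haveI := finite_E S
  have hτs : Function.Surjective τ := (Finite.injective_iff_surjective (α := E)
    (f := τ)).1 τ.toRingHom.injective
  have hline : ∀ q : E, M₁ ⋆ (q • v) = (d' * q) • v := fun q => by
    obtain ⟨p, hp⟩ := hτs (q / μ)
    have e : m ⋆ (p • v) = q • v := by rw [hτv, ← hμ, smul_smul, hp, div_mul_cancel₀ _ hμ0]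
    rw [← e, hM₁m, hv_h, hτv, map_mul, ← hd', mul_smul, ← hτv, e, smul_smul]
  have hUE : UE S v (M₁ * h'⁻¹) := by
    refine ⟨M.mul_mem hM₁M (M.inv_mem hh'), fun q => ?_, fun w hw => ?_⟩
    · have e : h'⁻¹ ⋆ (q • v) = (d'⁻¹ * q) • v := by
        apply Matrix.mulVec_injective_of_isUnit (Units.isUnit h')
        show h' ⋆ (h'⁻¹ ⋆ (q • v)) = h' ⋆ ((d'⁻¹ * q) • v)
        rw [gl_mulVec_inv, hv_h', mul_inv_cancel_left₀ hd'0]
      rw [gl_mul_mulVec, e, hline, mul_inv_cancel_left₀ hd'0]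
    · obtain ⟨k, l, hkl⟩ : ∃ k l : E, w = k • v + l • a := ⟨_, _, R.perp h3 hw⟩
      have e : h'⁻¹ ⋆ w = (d'⁻¹ * k) • v + l • a := by
        apply Matrix.mulVec_injective_of_isUnit (Units.isUnit h')
        show h' ⋆ (h'⁻¹ ⋆ w) = h' ⋆ ((d'⁻¹ * k) • v + l • a)
        rw [gl_mulVec_inv, mulVec_add, hv_h', ha_h', mul_inv_cancel_left₀ hd'0, hkl]
      have hfix : M₁ ⋆ (l • a) - l • a ∈ Submodule.span E ({v} : Set (ι → F)) := by
        obtain ⟨k₁, k₂, hk⟩ : ∃ k₁ k₂ : E, m⁻¹ ⋆ (l • a) = k₁ • v + k₂ • a :=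
          ⟨_, _, R.perp h3 (hperp _ (by rw [Bf_smul_left, R.av, mul_zero])).2⟩
        have e1 : l • a = m ⋆ (k₁ • v) + m ⋆ (k₂ • a) := by rw [← mulVec_add, ← hk, gl_mulVec_inv]
        rw [e1, mulVec_add, hM₁m, hM₁m, hv_h, ha_h]
        rw [add_sub_add_right_eq_sub, ← mulVec_sub, ← sub_smul]
        exact hmv _
      rw [gl_mul_mulVec, e, mulVec_add, hline, mul_inv_cancel_left₀ hd'0, hkl, add_sub_add_left_eq_sub]
      exact hfix
  obtain ⟨θ, T, hT, hTy, hM₁T⟩ : ∃ θ, ∃ T ∈ M, (∀ y, T ⋆ y = y + (θ * Bf S y v) • a -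
      (θ * Bf S y a + θ * θ * Bf S a a / 2 * Bf S y v) • v) ∧ M₁ = T * h' := by
    obtain ⟨θ, hθ⟩ : ∃ θ, θ = -(Bf S ((M₁ * h'⁻¹) ⋆ a) f / Bf S a a) := ⟨_, rfl⟩
    obtain ⟨T, hT, hTa, hTy⟩ := R.exists_T θ
    refine ⟨θ, T, hT, hTy, ?_⟩
    obtain ⟨ω, hω, hωy⟩ := exists_Oz R h3 (M.mul_mem (M.inv_mem hT) hUE.1) fun w hw => by
      obtain ⟨k, l, hkl⟩ : ∃ k l : E, w = k • v + l • a := ⟨_, _, R.perp h3 hw⟩
      rw [gl_mul_mulVec]
      apply Matrix.mulVec_injective_of_isUnit (Units.isUnit T)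
      show T ⋆ (T⁻¹ ⋆ ((M₁ * h'⁻¹) ⋆ w)) = T ⋆ w
      rw [gl_mulVec_inv, hkl, mulVec_add, hUE.2.1, hUE.apply_a R, hUE.linear R h3 hZ, hTy, Bf_add_left,
        Bf_add_left, Bf_smul_left, Bf_smul_left, Bf_smul_left, Bf_smul_left, R.vv, R.av, R.va, hθ]
      have := R.aa
      match_scalars <;> field_simp <;> ring
    have hω0 := hO ω hω
    have e1 : T⁻¹ * (M₁ * h'⁻¹) = 1 := gl_ext_vec fun y => by
      have e := hωy y
      rw [hω0, LinearMap.zero_apply, zero_smul, add_zero] at e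
      rw [e, Units.val_one, one_mulVec]
    have e2 : M₁ * h'⁻¹ = T := by
      calc M₁ * h'⁻¹ = T * (T⁻¹ * (M₁ * h'⁻¹)) := by group
        _ = T := by rw [e1, mul_one]
    rw [← e2]; group
  -- the eigenvectors
  obtain ⟨X, hX⟩ : ∃ X, X = θ / (1 - d') := ⟨_, rfl⟩
  have hθX : θ = X * (1 - d') := by rw [hX, div_mul_cancel₀ _ hd'1]
  obtain ⟨a₁, ha₁⟩ : ∃ a₁, a₁ = a - (X * Bf S a a) • v := ⟨_, rfl⟩
  obtain ⟨f₁, hf₁⟩ : ∃ f₁, f₁ = f + X • a - (X * X * Bf S a a / 2) • v := ⟨_, rfl⟩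
  have R₁ : Fr S v a₁ f₁ := by
    have h2 := two_E S
    constructor <;>
      simp only [ha₁, hf₁, Bf_add_left, Bf_add_right, Bf_sub_left, Bf_sub_right, Bf_smul_left, Bf_smul_right, R.vv,
        R.ff, R.vf, R.fv, R.av, R.va, R.af, R.fa] <;>
      first
        | (field_simp; ring1)
        | (simp; exact R.aa)
        | (intro h; exact R.aa (by linear_combination h))
  obtain ⟨L, hL⟩ : ∃ L : (ι → F) →ₗ[F] (ι → F), ∀ y, L y = M₁ ⋆ y :=
    ⟨Matrix.toLin' (M₁ : Matrix ι ι F), fun y => Matrix.toLin'_apply _ _⟩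
  have hLv : ∀ p : E, L (p • v) = (d' * p) • v := fun p => by rw [hL, hline]
  have hLa : ∀ p : E, L (p • a₁) = (1 * p) • a₁ := fun p => by
    rw [hL, hM₁T, gl_mul_mulVec, ha₁, smul_sub, smul_smul, mulVec_sub, ha_h', hv_h', hTy]
    simp only [Bf_sub_left, Bf_smul_left, R.vv, R.va, R.av, hθX]
    match_scalars <;> ring
  have hLf : ∀ p : E, L (p • f₁) = (d'⁻¹ * p) • f₁ := fun p => by
    rw [hL, hM₁T, gl_mul_mulVec, hf₁, smul_sub, smul_add, smul_smul, smul_smul, mulVec_sub, mulVec_add, hf_h',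
      ha_h', hv_h', hTy]
    simp only [Bf_sub_left, Bf_add_left, Bf_smul_left, R.vv, R.va, R.av, R.fv, R.fa, hθX]
    have h2 := two_E S
    match_scalars <;> field_simp <;> ring
  -- the images of the eigenvectors
  have hexp : ∀ y, ∃ k₁ k₂ k₃ : E, y = k₁ • v + k₂ • a₁ + k₃ • f₁ := fun y => ⟨_, _, _, R₁.expand h3 y⟩
  have huniq : ∀ k₁ k₂ k₃ : E, k₁ • v + k₂ • a₁ + k₃ • f₁ = 0 → k₁ = 0 ∧ k₂ = 0 ∧ k₃ = 0 := by
    intro k₁ k₂ k₃ h
    have e1 := congrArg (fun z => Bf S z f₁) h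
    have e2 := congrArg (fun z => Bf S z a₁) h
    have e3 := congrArg (fun z => Bf S z v) h
    simp [Bf_add_left, Bf_smul_left, Bf_zero_left, R₁.vv, R₁.ff, R₁.vf, R₁.fv, R₁.av, R₁.va, R₁.af, R₁.fa, R₁.aa]
      at e1 e2 e3
    exact ⟨e1, e2, e3⟩
  obtain ⟨Lh, hLh⟩ : ∃ L : (ι → F) →ₗ[F] (ι → F), ∀ y, L y = h ⋆ y :=
    ⟨Matrix.toLin' (h : Matrix ι ι F), fun y => Matrix.toLin'_apply _ _⟩
  obtain ⟨Lm, hLm⟩ : ∃ L : (ι → F) →ₗ[F] (ι → F), ∀ y, L y = m ⋆ y :=
    ⟨Matrix.toLin' (m : Matrix ι ι F), fun y => Matrix.toLin'_apply _ _⟩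
  have hint : ∀ y, L (Lm y) = Lm (Lh y) := fun y => by rw [hL, hLm, hLm, hLh, hM₁m]
  obtain ⟨P, hP⟩ : ∃ P, P = minpoly F d⁻¹ := ⟨_, rfl⟩
  have hintg : IsIntegral F d⁻¹ := Algebra.IsIntegral.isIntegral _
  have hP0 : Polynomial.aeval d⁻¹ P = 0 := hP ▸ minpoly.aeval _ _
  have hdd : d * d ≠ 1 := fun h => hdF (mem_range_of_sq S hr ⟨1, by rw [map_one, h]⟩)
  have hPd : Polynomial.aeval d P ≠ 0 := fun h => hdd (by
    have h1 := sq_eq_one_of_conj S hr (inv_ne_zero hd0) (by rw [inv_inv, ← hP]; exact h)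
    rwa [← _root_.mul_inv_rev, inv_eq_one] at h1)
  have hPd' : Polynomial.aeval d' P ≠ 0 := by
    rw [hd', Polynomial.aeval_algHom_apply]
    exact fun h => hPd (τ.toRingHom.injective (h.trans (map_zero τ).symm))
  have hP1 : Polynomial.aeval (1 : E) P ≠ 0 := fun h => by
    have e := minpoly.eq_of_irreducible_of_monic (minpoly.irreducible hintg) (hP ▸ h) (minpoly.monic hintg)
    rw [minpoly.one] at e
    have h1 := minpoly.aeval F d⁻¹
    rw [e, map_sub, Polynomial.aeval_X, map_one, sub_eq_zero, inv_eq_one] at h1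
    exact hdF ⟨1, by rw [map_one, h1]⟩
  have hm_f : ∀ p : E, ∃ γ : E, m ⋆ (p • f) = γ • f₁ := fun p => by
    obtain ⟨k₁, k₂, k₃, hk⟩ := hexp (m ⋆ (p • f))
    have e := aeval_intertwine hint P (p • f)
    rw [aeval_line (fun q => by rw [hLh, hf_h]) P p, hP0, zero_mul, zero_smul, map_zero, hLm, hk, map_add, map_add,
      aeval_line hLv, aeval_line hLa, aeval_line hLf] at e
    obtain ⟨e1, e2, -⟩ := huniq _ _ _ e
    refine ⟨k₃, ?_⟩
    rw [hk, (mul_eq_zero.1 e1).resolve_left hPd', (mul_eq_zero.1 e2).resolve_left hP1, zero_smul, zero_smul,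
      zero_add, zero_add]
  have hm_a : ∀ p : E, ∃ γ : E, m ⋆ (p • a) = γ • a₁ := fun p => by
    obtain ⟨k₁, k₂, k₃, hk⟩ := hexp (m ⋆ (p • a))
    have e := hint (p • a)
    rw [hLh, ha_h, hLm, hk, map_add, map_add, hLv, hLa, hLf, ← sub_eq_zero,
      show (d' * k₁) • v + (1 * k₂) • a₁ + (d'⁻¹ * k₃) • f₁ - (k₁ • v + k₂ • a₁ + k₃ • f₁) =
        ((d' - 1) * k₁) • v + (0 : E) • a₁ + ((d'⁻¹ - 1) * k₃) • f₁ by module] at e
    obtain ⟨e1, -, e3⟩ := huniq _ _ _ e
    have h1 : d' - 1 ≠ 0 := fun h => hd'1 (by linear_combination -h)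
    have h2 : d'⁻¹ - 1 ≠ 0 := fun h => hd'1 (by
      rw [sub_eq_zero, inv_eq_one] at h
      rw [h, sub_self])
    refine ⟨k₂, ?_⟩
    rw [hk, (mul_eq_zero.1 e1).resolve_left h1, (mul_eq_zero.1 e3).resolve_left h2, zero_smul, zero_smul, zero_add,
      add_zero]
  choose γ hγ using hm_f
  choose δ hδ using hm_a
  have hSf : ∀ e p : E, γ (e * p) = τ e * γ p := by
    have hadd : ∀ p q, γ (p + q) = γ p + γ q := fun p q => by
      apply smul_left_injective E R₁.swap.v0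
      show γ (p + q) • f₁ = (γ p + γ q) • f₁
      rw [← hγ, add_smul (γ p), ← hγ, ← hγ, add_smul, mulVec_add]
    have hsm : ∀ (t : F) p, γ (t • p) = t • γ p := fun t p => by
      apply smul_left_injective E R₁.swap.v0
      show γ (t • p) • f₁ = (t • γ p) • f₁
      rw [← hγ, smul_assoc, smul_assoc, mulVec_smul, hγ]
    let A : Submodule F E :=
      { carrier := {e | ∀ p, γ (e * p) = τ e * γ p}
        zero_mem' := fun p => by
          have := hsm 0 0
          simp only [zero_smul] at this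
          rw [zero_mul, this, map_zero, zero_mul]
        add_mem' := fun {x y} hx hy p => by rw [add_mul, hadd, hx, hy, map_add, add_mul]
        smul_mem' := fun t x hx p => by rw [smul_mul_assoc, hsm, hx, map_smul, smul_mul_assoc] }
    have hdA : d⁻¹ ∈ A := fun p => by
      apply smul_left_injective E R₁.swap.v0
      show γ (d⁻¹ * p) • f₁ = (τ d⁻¹ * γ p) • f₁
      rw [← hγ, ← hf_h, ← hM₁m, hγ, ← hL, hLf, map_inv₀, hd']
    exact fun e => alg_top S (A := A.toSubalgebra (fun p => by rw [one_mul, map_one, one_mul])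
      fun x y hx hy p => by rw [mul_assoc, hx, hy, map_mul, mul_assoc]) (d := d⁻¹) hdA
        (fun ⟨t, ht⟩ => hdF ⟨t⁻¹, by rw [map_inv₀, ht, inv_inv]⟩) e
  have hSa : ∀ e p : E, δ (e * p) = τ e * δ p := by
    intro e p
    have key : ∀ q : E, δ q = τ q * δ 1 := fun q => by
      obtain ⟨k, hk⟩ := Submodule.mem_span_singleton.1 (hτa q)
      rw [hδ, show m ⋆ a = δ 1 • a₁ by rw [← hδ, one_smul], smul_smul, ← sub_smul] at hk
      have e := congrArg (fun z => Bf S z a₁) hk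
      simp only [Bf_smul_left, R₁.va, mul_zero] at e
      exact sub_eq_zero.1 ((mul_eq_zero.1 e.symm).resolve_right R₁.aa)
    rw [key, key p, map_mul]; ring
  refine ⟨τ, fun e x => ?_⟩
  obtain ⟨p₁, p₂, p₃, rfl⟩ : ∃ p₁ p₂ p₃ : E, x = p₁ • v + p₂ • a + p₃ • f := ⟨_, _, _, R.expand h3 x⟩
  simp only [smul_add, smul_smul, mulVec_add, hγ, hδ, hSf, hSa, hτv, map_mul]

end CfsgLib.Perm.Trans.OrthExt
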