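import Cfsg.Agent.Lib.Perm.Trans.OrthExt.Descent
import Mathlib.FieldTheory.Galois.Basic

/-!
# Three dimensions over the extension field: frames, the torus and rotations

A singular vector `v` lies in a frame `v, a, f` with `Bf v f = 1` and `a` anisotropic, orthogonal to both.
-/

set_option autoImplicit false
set_option linter.all false

namespace CfsgLib.Perm.Trans.OrthExt

open scoped Matrix
open Matrix Module Cfsg.Geo CfsgLib.Perm.Asch CfsgLib.Perm.Trans CfsgLib.Perm.Trans.Quad
open CfsgLib.Perm.Trans.Symp.Ext (tr trDual trDual_apply tr_ext tr_smul_one exists_tr_separate)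

variable {ι : Type} [Fintype ι] [DecidableEq ι] {F : Type*} [Field F] [Fintype F]
variable {E : Type*} [Field E] [Algebra F E] [FiniteDimensional F E]
variable [Module E (ι → F)] [IsScalarTower F E (ι → F)]
variable {Q : (ι → F) → F}

local notation "pol" => QuadraticMap.polar
local notation:75 g " ⋆ " x:75 => (Units.val g : Matrix ι ι F) *ᵥ x

variable {M : Subgroup (GL ι F)} (S : OData E Q M)

/-! ### The field -/

include S in
theorem finite_E : Finite E := Module.finite_of_finite F

include S in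
/-- a subalgebra holding something outside the scalars is everything -/
theorem alg_top {A : Subalgebra F E} {d : E} (hd : d ∈ A) (hdF : d ∉ Set.range (algebraMap F E)) (x : E) : x ∈ A := by
  haveI := Subalgebra.isSimpleOrder_of_finrank_prime F E S.prime
  rcases IsSimpleOrder.eq_bot_or_eq_top A with h | h
  · exact absurd (Algebra.mem_bot.1 (h ▸ hd)) hdF
  · exact h ▸ Algebra.mem_top

include S in
theorem hom_ext {τ τ' : E →ₐ[F] E} {d : E} (hd : d ∉ Set.range (algebraMap F E)) (h : τ d = τ' d) : τ = τ' :=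
  AlgHom.ext fun x => alg_top S (A := AlgHom.equalizer τ τ') h hd x

include S in
/-- the square roots of scalars are scalars -/
theorem mem_range_of_sq (hr : 3 ≤ finrank F E) {z : E} (h : z * z ∈ Set.range (algebraMap F E)) :
    z ∈ Set.range (algebraMap F E) := by
  obtain ⟨u, hu⟩ := h
  let A : Submodule F E := LinearMap.range ((LinearMap.toSpanSingleton F E 1).coprod (LinearMap.toSpanSingleton F E z))
  have hA : ∀ y, y ∈ A ↔ ∃ a b : F, a • (1 : E) + b • z = y := fun y => by
    simp only [A, LinearMap.mem_range, Prod.exists, LinearMap.coprod_apply, LinearMap.toSpanSingleton_apply]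
  have h1A : (1 : E) ∈ A := (hA 1).2 ⟨1, 0, by simp⟩
  have hmA : ∀ x y, x ∈ A → y ∈ A → x * y ∈ A := by
    intro x y hx hy
    obtain ⟨a, b, rfl⟩ := (hA x).1 hx
    obtain ⟨a', b', rfl⟩ := (hA y).1 hy
    refine (hA _).2 ⟨a * a' + b * b' * u, a * b' + b * a', ?_⟩
    simp only [Algebra.smul_def, map_add, map_mul, hu]
    ring
  by_contra hz
  have h1 : (⊤ : Submodule F E) ≤ A := fun y _ =>
    alg_top S (A := A.toSubalgebra h1A hmA) ((hA z).2 ⟨0, 1, by simp⟩) hz y
  have h2 := (Submodule.finrank_mono h1).trans (LinearMap.finrank_range_le _)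
  rw [finrank_top, Module.finrank_prod, Module.finrank_self] at h2
  omega

include S in
/-- an automorphism inverting an element fixes it -/
theorem sq_eq_one_of_inv (hr : 3 ≤ finrank F E) {ρ : E →ₐ[F] E} {d : E} (hd0 : d ≠ 0) (h : ρ d = d⁻¹) :
    d * d = 1 := by
  suffices hd : ρ d = d by
    have := h.symm.trans hd
    nth_rewrite 2 [← this]
    exact mul_inv_cancel₀ hd0
  by_cases hs : d + d⁻¹ ∈ Set.range (algebraMap F E)
  · obtain ⟨s, hs⟩ := hs
    have h2 : (2 : E) ≠ 0 := two_E S
    obtain ⟨k, hk⟩ : d - algebraMap F E (s / 2) ∈ Set.range (algebraMap F E) :=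
      mem_range_of_sq S hr ⟨(s / 2) ^ 2 - 1, by
        rw [map_sub, map_pow, map_div₀, map_one, map_ofNat, hs]
        field_simp
        ring⟩
    obtain ⟨e, he⟩ : ∃ e, algebraMap F E e = d := ⟨k + s / 2, by rw [map_add, hk, sub_add_cancel]⟩
    rw [← he, AlgHom.commutes]
  · have h1 : ρ = AlgHom.id F E := hom_ext S hs (by
      rw [AlgHom.id_apply, map_add, map_inv₀, h, inv_inv, add_comm])
    rw [h1, AlgHom.id_apply]

include S in
/-- an element and its inverse are conjugate only for signs -/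
theorem sq_eq_one_of_conj (hr : 3 ≤ finrank F E) {d : E} (hd0 : d ≠ 0)
    (h : Polynomial.aeval d⁻¹ (minpoly F d) = 0) : d * d = 1 := by
  haveI := finite_E S
  haveI : IsGalois F E := inferInstance
  have hm : minpoly F d = minpoly F d⁻¹ := minpoly.eq_of_irreducible_of_monic
    (minpoly.irreducible (Algebra.IsIntegral.isIntegral d)) h (minpoly.monic (Algebra.IsIntegral.isIntegral d))
  obtain ⟨σ, hσ⟩ := (Normal.minpoly_eq_iff_mem_orbit E).1 hm.symm
  exact sq_eq_one_of_inv S hr (ρ := (σ : E ≃ₐ[F] E).toAlgHom) hd0 hσ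

include S in
/-- the stabiliser of a proper subspace with one is the scalars -/
theorem stab_scalar {K : Submodule F E} (h1 : (1 : E) ∈ K) (hK : K ≠ ⊤) {e : E} (he : ∀ k ∈ K, e * k ∈ K) :
    e ∈ Set.range (algebraMap F E) := by
  by_contra hne
  let A : Submodule F E :=
    { carrier := {x | ∀ k ∈ K, x * k ∈ K}
      zero_mem' := fun k _ => by rw [zero_mul]; exact K.zero_mem
      add_mem' := fun {x y} hx hy k hk => by rw [add_mul]; exact K.add_mem (hx k hk) (hy k hk)
      smul_mem' := fun t x hx k hk => by rw [smul_mul_assoc]; exact K.smul_mem t (hx k hk) }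
  refine hK (eq_top_iff.2 fun x _ => ?_)
  have := alg_top S (A := A.toSubalgebra (fun k hk => by rwa [one_mul]) fun x y hx hy k hk => by
    rw [mul_assoc]; exact hx _ (hy k hk)) (d := e) he hne x
  simpa using (this : ∀ k ∈ K, x * k ∈ K) 1 h1

/-! ### Linear and semilinear elements -/

/-- `g` is semilinear over `E` with automorphism `τ` -/
def SemiWith (τ : E →ₐ[F] E) (g : GL ι F) : Prop := ∀ (e : E) (x : ι → F), g ⋆ (e • x) = τ e • (g ⋆ x)

/-- `g` is linear over `E` -/
def LinE (E : Type*) [Field E] [Algebra F E] [Module E (ι → F)] (g : GL ι F) : Prop :=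
  ∀ (e : E) (x : ι → F), g ⋆ (e • x) = e • (g ⋆ x)

theorem LinE.inv {g : GL ι F} (h : LinE E g) : LinE E g⁻¹ := fun e x => by
  apply Matrix.mulVec_injective_of_isUnit (Units.isUnit g)
  show g ⋆ (g⁻¹ ⋆ (e • x)) = g ⋆ (e • (g⁻¹ ⋆ x))
  rw [gl_mulVec_inv, h, gl_mulVec_inv]

theorem IsT.linE {v a : ι → F} {g : GL ι F} {S : OData E Q M} (h : IsT S v a g) : LinE E g := fun e x => h.lin e x

include S

theorem Bf_iso {g : GL ι F} (hg : g ∈ Cfsg.isometryGroup F Q) (hl : LinE E g) (x y : ι → F) :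
    Bf S (g ⋆ x) (g ⋆ y) = Bf S x y := tr_ext (F := F) fun q => by
  rw [tr_Bf, tr_Bf, ← hl, iso_pol hg]

/-! ### Frames -/

/-- a frame on a singular vector -/
structure Fr (v a f : ι → F) : Prop where
  vv : Bf S v v = 0
  ff : Bf S f f = 0
  vf : Bf S v f = 1
  av : Bf S a v = 0
  af : Bf S a f = 0
  aa : Bf S a a ≠ 0

theorem exists_frame {v : ι → F} (hv : Bf S v v = 0) (hv0 : v ≠ 0) : ∃ a f, Fr S v a f := by
  obtain ⟨f, -, hf, hvf⟩ := exists_partner S (nd_top S) Submodule.mem_top hv0 hv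
  obtain ⟨a, ha, haa⟩ := exists_aniso_pperp S hv hf hvf
  exact ⟨a, f, hv, hf, hvf, ((mem_pperp S).1 ha).1, ((mem_pperp S).1 ha).2, haa⟩

variable {S}
variable {v a f : ι → F}

omit S in
theorem Fr.fv {S : OData E Q M} (R : Fr S v a f) : Bf S f v = 1 := by rw [Bf_comm S]; exact R.vf
omit S in
theorem Fr.va {S : OData E Q M} (R : Fr S v a f) : Bf S v a = 0 := by rw [Bf_comm S]; exact R.av
omit S in
theorem Fr.fa {S : OData E Q M} (R : Fr S v a f) : Bf S f a = 0 := by rw [Bf_comm S]; exact R.af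
omit S in
theorem Fr.v0 {S : OData E Q M} (R : Fr S v a f) : v ≠ 0 := fun h => by
  have := R.vf
  rw [h, Bf_zero_left] at this
  exact zero_ne_one this
omit S in
theorem Fr.swap {S : OData E Q M} (R : Fr S v a f) : Fr S f a v := ⟨R.ff, R.vv, R.fv, R.af, R.av, R.aa⟩

omit S in
/-- the coordinates in a frame -/
theorem Fr.expand {S : OData E Q M} (R : Fr S v a f) (h3 : finrank E (ι → F) = 3) (x : ι → F) :
    x = Bf S x f • v + (Bf S x a / Bf S a a) • a + Bf S x v • f := by
  haveI := finE S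
  by_contra hne
  obtain ⟨y, hy⟩ : ∃ y, y = x - (Bf S x f • v + (Bf S x a / Bf S a a) • a + Bf S x v • f) := ⟨_, rfl⟩
  have hy0 : y ≠ 0 := hy ▸ sub_ne_zero.2 hne
  have hv : Bf S y v = 0 := by
    rw [hy]; simp [Bf_sub_left, Bf_add_left, Bf_smul_left, R.vv, R.av, R.fv]
  have ha : Bf S y a = 0 := by
    rw [hy]; simp [Bf_sub_left, Bf_add_left, Bf_smul_left, R.va, R.fa, R.aa]
  have hf : Bf S y f = 0 := by
    rw [hy]; simp [Bf_sub_left, Bf_add_left, Bf_smul_left, R.vf, R.af, R.ff]
  have hli : LinearIndependent E ![v, a, f] := by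
    rw [Fintype.linearIndependent_iff]
    intro g hg
    simp only [Fin.sum_univ_three, Matrix.cons_val_zero, Matrix.cons_val_one, Matrix.cons_val] at hg
    have e1 := congrArg (fun z => Bf S z f) hg
    have e2 := congrArg (fun z => Bf S z a) hg
    have e3 := congrArg (fun z => Bf S z v) hg
    simp [Bf_add_left, Bf_smul_left, Bf_zero_left, R.vv, R.ff, R.vf, R.fv, R.av, R.va, R.af, R.fa, R.aa] at e1 e2 e3
    intro i
    fin_cases i
    · exact e1
    · exact e2
    · exact e3
  have htop : ∀ z, z ∈ Submodule.span E (Set.range ![v, a, f]) := fun z => by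
    have := hli.span_eq_top_of_card_eq_finrank (by simp [h3])
    rw [this]; exact Submodule.mem_top
  obtain ⟨z, hz⟩ := Bf_nondeg S hy0
  refine hz ?_
  obtain ⟨k, rfl⟩ := (Submodule.mem_span_range_iff_exists_fun E).1 (htop z)
  simp [Fin.sum_univ_three, Bf_add_right, Bf_smul_right, hv, ha, hf]

omit S in
/-- the orthogonal of the line in a frame -/
theorem Fr.perp {S : OData E Q M} (R : Fr S v a f) (h3 : finrank E (ι → F) = 3) {x : ι → F} (hx : Bf S x v = 0) :
    x = Bf S x f • v + (Bf S x a / Bf S a a) • a := by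
  conv_lhs => rw [R.expand h3 x, hx, zero_smul, add_zero]

omit S in
/-- singular vectors orthogonal to the line lie on it -/
theorem Fr.mem_line {S : OData E Q M} (R : Fr S v a f) (h3 : finrank E (ι → F) = 3) {x : ι → F} (hx : Bf S x v = 0)
    (hxx : Bf S x x = 0) : x = Bf S x f • v := by
  obtain ⟨k, hk⟩ : ∃ k, k = Bf S x a / Bf S a a := ⟨_, rfl⟩
  have h := R.perp h3 hx
  rw [← hk] at h
  rw [h] at hxx
  simp [Bf_add_left, Bf_add_right, Bf_smul_left, Bf_smul_right, R.vv, R.va, R.av, R.aa] at hxx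
  conv_lhs => rw [h, hxx, zero_smul, add_zero]

omit S in
/-- the Eichler transformations in a frame -/
theorem Fr.exists_T {S : OData E Q M} (R : Fr S v a f) (η : E) :
    ∃ T ∈ M, IsT S v (η • a) T ∧ ∀ y, T ⋆ y = y + (η * Bf S y v) • a -
      (η * Bf S y a + η * η * Bf S a a / 2 * Bf S y v) • v := by
  obtain ⟨T, hT, hTa⟩ := CfsgLib.Perm.Trans.OrthExt.exists_T S R.vv (a := η • a) (by rw [Bf_smul_left, R.av, mul_zero])
  refine ⟨T, hT, hTa, fun y => ?_⟩
  rw [hTa, Bf_smul_right, Bf_smul_left, Bf_smul_right]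
  match_scalars <;> ring

omit S in
/-- the torus of a frame -/
theorem Fr.exists_diag {S : OData E Q M} (R : Fr S v a f) (h3 : finrank E (ι → F) = 3) {c : E} (hc : c ≠ 0) :
    ∃ h ∈ M, LinE E h ∧ ∀ p q s : E, h ⋆ (p • v + q • a + s • f) = (c * c * p) • v + q • a + ((c * c)⁻¹ * s) • f := by
  let L : (ι → F) →ₗ[E] (ι → F) := (Bl S f).smulRight (c • v) + ((Bl S a).smulRight ((Bf S a a)⁻¹ • a))
    + (Bl S v).smulRight (c⁻¹ • f)
  have hL : ∀ x, L x = Bf S x f • c • v + Bf S x a • (Bf S a a)⁻¹ • a + Bf S x v • c⁻¹ • f := fun x => rfl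
  obtain ⟨g, hg, hgx⟩ := exists_sq_mem S L fun x => by
    conv_rhs => rw [R.expand h3 x]
    simp only [hL, Bf_add_left, Bf_add_right, Bf_smul_left, Bf_smul_right, R.vv, R.ff, R.vf, R.fv, R.av, R.va, R.af,
      R.fa]
    have := R.aa
    field_simp
    ring
  refine ⟨g, hg, fun e x => by rw [hgx, hgx, map_smul, map_smul], fun p q s => ?_⟩
  rw [hgx]
  simp only [hL, Bf_add_left, Bf_smul_left, R.vv, R.ff, R.vf, R.fv, R.av, R.va, R.af, R.fa]
  have := R.aa
  match_scalars <;> field_simp <;> ring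

end CfsgLib.Perm.Trans.OrthExt
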