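import Cfsg.Agent.Lib.Perm.Trans.OrthExt.Three.Frame
import Cfsg.Agent.Lib.Perm.Trans.OrthExt.Spread

/-!
# Three dimensions over the extension field: the elements at a singular line

`Oz v ω` says that the transformation fixing the orthogonal of the line of `v` and given by `ω` on the quotient
lies in the overgroup.  An element keeping a singular line is semilinear unless such transformations occur.
-/

set_option autoImplicit false
set_option linter.all false

namespace CfsgLib.Perm.Trans.OrthExt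

open scoped Matrix
open Matrix Module Cfsg.Geo CfsgLib.Perm.Asch CfsgLib.Perm.Trans CfsgLib.Perm.Trans.Quad
open CfsgLib.Perm.Trans.Symp.Ext (tr trDual trDual_apply tr_ext tr_smul_one exists_tr_separate)

variable {ι : Type} [Fintype ι] [DecidableEq ι] {F : Type*} [Field F] [Fintype F]
variable {E : Type*} [Field E] [Algebra F E] [FiniteDimensional F E]
variable [Module E (ι → F)] [IsScalarTower F E (ι → F)]
variable {Q : (ι → F) → F}

local notation "pol" => QuadraticMap.polar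
local notation:75 g " ⋆ " x:75 => (Units.val g : Matrix ι ι F) *ᵥ x

variable {M : Subgroup (GL ι F)} (S : OData E Q M)

/-- an element of `M` trivial on the orthogonal of the line of `v`, given by `ω` -/
def Oz (v : ι → F) (ω : E →ₗ[F] E) : Prop := ∃ z ∈ M, ∀ y, z ⋆ y = y + ω (Bf S y v) • v

/-- `x ↦ d ω (d x)` -/
def dconj (d : E) (ω : E →ₗ[F] E) : E →ₗ[F] E := (LinearMap.mulLeft F d).comp (ω.comp (LinearMap.mulLeft F d))

omit [Fintype ι] [DecidableEq ι] [Fintype F] [Module E (ι → F)] [IsScalarTower F E (ι → F)] in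
theorem dconj_apply (d : E) (ω : E →ₗ[F] E) (x : E) : dconj d ω x = d * ω (d * x) := rfl

include S

theorem pol_sing {v f : ι → F} (hvf : Bf S v f = 1) (p q : E) : pol Q (p • v) (q • f) = tr F E (p * q) := by
  rw [pol_smul_left S, Bf_smul_right, hvf, mul_one]

theorem Oz.zero (v : ι → F) : Oz S v 0 :=
  ⟨1, M.one_mem, fun y => by rw [Units.val_one, one_mulVec, LinearMap.zero_apply, zero_smul, add_zero]⟩

variable {S} {v a f : ι → F}

omit S in
theorem Oz.add {S : OData E Q M} (hv : Bf S v v = 0) {ω ω' : E →ₗ[F] E} (h : Oz S v ω) (h' : Oz S v ω') :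
    Oz S v (ω + ω') := by
  obtain ⟨z, hz, hzy⟩ := h
  obtain ⟨z', hz', hzy'⟩ := h'
  refine ⟨z * z', M.mul_mem hz hz', fun y => ?_⟩
  rw [gl_mul_mulVec, hzy, hzy', Bf_add_left, Bf_smul_left, hv, mul_zero, add_zero, LinearMap.add_apply, add_smul]
  abel

omit S in
theorem Oz.neg {S : OData E Q M} (hv : Bf S v v = 0) {ω : E →ₗ[F] E} (h : Oz S v ω) : Oz S v (-ω) := by
  obtain ⟨z, hz, hzy⟩ := h
  refine ⟨z⁻¹, M.inv_mem hz, fun y => ?_⟩
  apply Matrix.mulVec_injective_of_isUnit (Units.isUnit z)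
  show z ⋆ (z⁻¹ ⋆ y) = z ⋆ (y + (-ω) (Bf S y v) • v)
  rw [gl_mulVec_inv, hzy, Bf_add_left, Bf_smul_left, hv, mul_zero, add_zero, LinearMap.neg_apply, neg_smul]
  abel

omit S in
theorem Oz.skew {S : OData E Q M} (R : Fr S v a f) {ω : E →ₗ[F] E} (h : Oz S v ω) (p q : E) :
    tr F E (ω p * q) + tr F E (p * ω q) = 0 := by
  obtain ⟨z, hz, hzy⟩ := h
  have h1 := iso_pol (le_iso S hz) (p • f) (q • f)
  rw [hzy, hzy, Bf_smul_left, Bf_smul_left, R.fv, mul_one, mul_one, padd_left S.form, padd_right S.form,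
    padd_right S.form, pol_line S R.ff, pol_line S R.vv, pol_sing S R.vf, pcomm (p • f), pol_sing S R.vf] at h1
  rw [mul_comm p (ω q)]
  linear_combination h1

omit S in
theorem exists_Oz {S : OData E Q M} (R : Fr S v a f) (h3 : finrank E (ι → F) = 3) {z : GL ι F} (hz : z ∈ M)
    (hfix : ∀ w, Bf S w v = 0 → z ⋆ w = w) : ∃ ω, Oz S v ω ∧ ∀ y, z ⋆ y = y + ω (Bf S y v) • v := by
  have hl : ∀ y, z ⋆ y - y ∈ Submodule.span E ({v} : Set (ι → F)) := fun y => mem_line_of_perp S fun w hw => by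
    conv_lhs => rw [psub_left S.form, ← hfix w hw, iso_pol (le_iso S hz), hfix w hw]
    rw [sub_self]
  let ω : E →ₗ[F] E :=
    { toFun := fun p => Bf S (z ⋆ (p • f) - p • f) f
      map_add' := fun p q => by simp only [add_smul, mulVec_add, Bf_sub_left, Bf_add_left]; ring
      map_smul' := fun t p => by
        simp only [RingHom.id_apply, smul_assoc, mulVec_smul, ← smul_sub, Bf_fsmul_left] }
  have key : ∀ y, z ⋆ y = y + ω (Bf S y v) • v := fun y => by
    obtain ⟨k, hk⟩ := Submodule.mem_span_singleton.1 (hl (Bf S y v • f))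
    have h1 : z ⋆ (y - Bf S y v • f) = y - Bf S y v • f :=
      hfix _ (by rw [Bf_sub_left, Bf_smul_left, R.fv, mul_one, sub_self])
    rw [mulVec_sub] at h1
    have h2 : ω (Bf S y v) = k := by
      show Bf S (z ⋆ (Bf S y v • f) - Bf S y v • f) f = k
      rw [← hk, Bf_smul_left, R.vf, mul_one]
    rw [h2, hk]
    rw [sub_eq_iff_eq_add] at h1
    rw [h1]
    abel
  exact ⟨ω, ⟨z, hz, key⟩, key⟩

omit S in
theorem Oz.dconj' {S : OData E Q M} (R : Fr S v a f) (h3 : finrank E (ι → F) = 3) {ω : E →ₗ[F] E} (h : Oz S v ω)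
    {c : E} (hc : c ≠ 0) : Oz S v (dconj (c * c) ω) := by
  obtain ⟨z, hz, hzy⟩ := h
  obtain ⟨k, hk, hkl, hkx⟩ := R.exists_diag h3 hc
  have hkv : ∀ p : E, k ⋆ (p • v) = (c * c * p) • v := fun p => by
    have := hkx p 0 0
    simpa using this
  refine ⟨k * z * k⁻¹, M.mul_mem (M.mul_mem hk hz) (M.inv_mem hk), fun y => ?_⟩
  have h1 : Bf S (k⁻¹ ⋆ y) v = c * c * Bf S y v := by
    rw [← Bf_iso S (le_iso S hk) hkl, gl_mulVec_inv, show k ⋆ v = (c * c) • v by
      have := hkv 1; rwa [one_smul, mul_one] at this, Bf_smul_right]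
  rw [gl_mul_mulVec, gl_mul_mulVec, hzy, mulVec_add, gl_mulVec_inv, hkv, h1, dconj_apply]

omit S in
/-- what is orthogonal to all images of a vector under an invariant set of skew maps is a multiple of it -/
theorem ann_line {S : OData E Q M} (hr : 3 ≤ finrank F E) {W : Set (E →ₗ[F] E)}
    (hinv : ∀ ω ∈ W, ∀ c : E, c ≠ 0 → dconj (c * c) ω ∈ W)
    (hskew : ∀ ω ∈ W, ∀ p q, tr F E (ω p * q) + tr F E (p * ω q) = 0) {ω₀ : E →ₗ[F] E} (h₀ : ω₀ ∈ W) (hne : ω₀ ≠ 0)
    {x₀ y : E} (hx₀ : x₀ ≠ 0) (h : ∀ ω ∈ W, tr F E (ω x₀ * y) = 0) :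
    y ∈ Submodule.span F ({x₀} : Set E) := by
  by_contra hy
  obtain ⟨k, hk⟩ : ∃ k, k = y / x₀ := ⟨_, rfl⟩
  have hkF : k ∉ Set.range (algebraMap F E) := by
    rintro ⟨t, ht⟩
    refine hy (Submodule.mem_span_singleton.2 ⟨t, ?_⟩)
    rw [Algebra.smul_def, ht, hk, div_mul_cancel₀ _ hx₀]
  have hall : ∀ ω ∈ W, ∀ x : E, tr F E (ω x * (k * x)) = 0 := by
    intro ω hω x
    rcases eq_or_ne x 0 with rfl | hx
    · simp
    obtain ⟨t, d, ht, hd, htd⟩ := exists_scalar_sq S hr (div_ne_zero hx hx₀)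
    have hxe : x = t • (d * d * x₀) := by rw [← smul_mul_assoc, ← htd, div_mul_cancel₀ _ hx₀]
    have h1 := h _ (hinv ω hω d hd)
    rw [dconj_apply] at h1
    rw [hxe, map_smul, mul_smul_comm, smul_mul_assoc, mul_smul_comm, map_smul, map_smul, smul_eq_mul,
      smul_eq_mul, show ω (d * d * x₀) * (k * (d * d * x₀)) = d * d * ω (d * d * x₀) * y by
        rw [hk]; field_simp, h1, mul_zero, mul_zero]
  have hcomm : ∀ x, ω₀ (k * x) = k * ω₀ x := fun x => by
    refine tr_ext (F := F) fun q => ?_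
    have e1 := hall ω₀ h₀ (x + q)
    rw [map_add, mul_add, add_mul, mul_add, mul_add, map_add, map_add, map_add, hall ω₀ h₀, hall ω₀ h₀] at e1
    have e2 := hskew ω₀ h₀ (k * x) q
    rw [mul_comm q (ω₀ (k * x)), show q * (k * ω₀ x) = ω₀ x * (k * q) by ring]
    rw [show k * x * ω₀ q = ω₀ q * (k * x) by ring] at e2
    linear_combination e2 - e1
  let A : Submodule F E :=
    { carrier := {e | ∀ x, ω₀ (e * x) = e * ω₀ x}
      zero_mem' := fun x => by simp
      add_mem' := fun {p q} hp hq x => by rw [add_mul, map_add, hp, hq, add_mul]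
      smul_mem' := fun t p hp x => by rw [smul_mul_assoc, map_smul, hp, smul_mul_assoc] }
  have hlin : ∀ e x, ω₀ (e * x) = e * ω₀ x := fun e =>
    (alg_top S (A := A.toSubalgebra (fun x => by simp) fun p q hp hq x => by
      rw [mul_assoc, hp, hq, mul_assoc]) (d := k) hcomm hkF e :)
  have hone : ω₀ 1 = 0 := by
    refine tr_ext (F := F) fun q => ?_
    have e := hskew ω₀ h₀ q 1
    rw [show q = q * 1 from (mul_one q).symm, hlin, mul_one, mul_one] at e
    rw [mul_zero, map_zero]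
    exact (mul_eq_zero.1 (show (2 : F) * tr F E (q * ω₀ 1) = 0 by linear_combination e)).resolve_left S.two
  exact hne (LinearMap.ext fun x => by rw [← mul_one x, hlin, hone, mul_zero, LinearMap.zero_apply])

variable (S)

/-- the maps all of whose scalar multiples occur -/
noncomputable def Zl (v : ι → F) (hv : Bf S v v = 0) : Submodule F (E →ₗ[F] E) where
  carrier := {ω | ∀ t : F, Oz S v (t • ω)}
  zero_mem' := fun t => by rw [smul_zero]; exact Oz.zero S v
  add_mem' := fun {p q} hp hq t => by rw [smul_add]; exact (hp t).add hv (hq t)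
  smul_mem' := fun c p hp t => by rw [smul_smul]; exact hp _

variable {S}

omit S in
theorem Zl.inv {S : OData E Q M} (R : Fr S v a f) (h3 : finrank E (ι → F) = 3) {ω : E →ₗ[F] E}
    (h : ω ∈ Zl S v R.vv) {c : E} (hc : c ≠ 0) : dconj (c * c) ω ∈ Zl S v R.vv := fun t => by
  have h1 := (h t).dconj' R h3 hc
  rwa [show t • dconj (c * c) ω = dconj (c * c) (t • ω) from LinearMap.ext fun x => by
    simp only [LinearMap.smul_apply, dconj_apply, mul_smul_comm]]

/-! ### The elements trivial on the line and on the quotient -/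

variable (S)

/-- `u` fixes the line of `v` and is trivial on the quotient of its orthogonal by it -/
def UE (v : ι → F) (u : GL ι F) : Prop :=
  u ∈ M ∧ (∀ p : E, u ⋆ (p • v) = p • v) ∧ ∀ w, Bf S w v = 0 → u ⋆ w - w ∈ Submodule.span E ({v} : Set (ι → F))

variable {S}

omit S in
theorem UE.Bf_v {S : OData E Q M} {u : GL ι F} (h : UE S v u) (y : ι → F) : Bf S (u ⋆ y) v = Bf S y v :=
  tr_ext (F := F) fun q => by rw [← pol_smul_right S, ← pol_smul_right S, ← h.2.1 q, iso_pol (le_iso S h.1), h.2.1 q]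

omit S in
theorem UE.apply_a {S : OData E Q M} (R : Fr S v a f) {u : GL ι F} (h : UE S v u) (p : E) :
    u ⋆ (p • a) = p • a + Bf S (u ⋆ (p • a)) f • v := by
  obtain ⟨k, hk⟩ := Submodule.mem_span_singleton.1 (h.2.2 (p • a) (by rw [Bf_smul_left, R.av, mul_zero]))
  have e : u ⋆ (p • a) = p • a + k • v := by rw [hk, add_sub_cancel]
  rw [e, Bf_add_left, Bf_smul_left, Bf_smul_left, R.af, R.vf, mul_zero, zero_add, mul_one]

omit S in
/-- the commutators with the Eichler transformations -/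
theorem UE.comm {S : OData E Q M} (R : Fr S v a f) (h3 : finrank E (ι → F) = 3) {u : GL ι F} (h : UE S v u) (η : E) :
    ∃ D ∈ M, ∀ y, D ⋆ y = y + (Bf S (u ⋆ ((Bf S y v * η) • a)) f + η * Bf S (u ⋆ (Bf S y v • f)) a) • v := by
  obtain ⟨T, hT, hTa, hTy⟩ := R.exists_T η
  have hTv : ∀ p : E, T ⋆ (p • v) = p • v := fun p => hTa.fix_line R.vv (by rw [Bf_smul_left, R.av, mul_zero]) p
  have hTu : UE S v T := ⟨hT, hTv, fun w hw => by
    rw [hTy, hw, mul_zero, mul_zero, zero_smul, add_zero, sub_sub_cancel_left]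
    exact Submodule.neg_mem _ (Submodule.smul_mem _ _ (Submodule.mem_span_singleton_self v))⟩
  refine ⟨u * T * u⁻¹ * T⁻¹, M.mul_mem (M.mul_mem (M.mul_mem h.1 hT) (M.inv_mem h.1)) (M.inv_mem hT), fun y => ?_⟩
  obtain ⟨c, hc⟩ : ∃ c, c = Bf S y v := ⟨_, rfl⟩
  rw [← hc]
  obtain ⟨D, hD⟩ : ∃ D, D = u * T * u⁻¹ * T⁻¹ := ⟨_, rfl⟩
  rw [← hD]
  have hDT : ∀ z, D ⋆ (T ⋆ (u ⋆ z)) = u ⋆ (T ⋆ z) := fun z => by
    rw [hD, gl_mul_mulVec, gl_inv_mulVec, gl_mul_mulVec, gl_inv_mulVec, gl_mul_mulVec]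
  have hperp : ∀ w, Bf S w v = 0 → D ⋆ w = w := by
    intro w hw
    obtain ⟨w₀, hw₀⟩ : ∃ w₀, w₀ = u⁻¹ ⋆ (T⁻¹ ⋆ w) := ⟨_, rfl⟩
    have hw₀' : T ⋆ (u ⋆ w₀) = w := by rw [hw₀, gl_mulVec_inv, gl_mulVec_inv]
    have hw₀v : Bf S w₀ v = 0 := by rw [← h.Bf_v, ← hTu.Bf_v, hw₀', hw]
    obtain ⟨k, hk⟩ := Submodule.mem_span_singleton.1 (h.2.2 w₀ hw₀v)
    obtain ⟨l, hl⟩ := Submodule.mem_span_singleton.1 (hTu.2.2 w₀ hw₀v)
    have e1 : u ⋆ (T ⋆ w₀) = T ⋆ (u ⋆ w₀) := by
      rw [show T ⋆ w₀ = w₀ + l • v by rw [hl, add_sub_cancel], show u ⋆ w₀ = w₀ + k • v by rw [hk, add_sub_cancel],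
        mulVec_add, mulVec_add, h.2.1, hTv, show u ⋆ w₀ = w₀ + k • v by rw [hk, add_sub_cancel],
        show T ⋆ w₀ = w₀ + l • v by rw [hl, add_sub_cancel]]
      abel
    rw [← hw₀', hDT, e1]
  obtain ⟨y₁, hy₁⟩ : ∃ y₁, y₁ = T ⋆ (u ⋆ (c • f)) := ⟨_, rfl⟩
  have hy₁v : Bf S y₁ v = c := by rw [hy₁, hTu.Bf_v, h.Bf_v, Bf_smul_left, R.fv, mul_one]
  have hyd := hperp (y - y₁) (by rw [Bf_sub_left, hy₁v, hc, sub_self])
  have e2 : D ⋆ y₁ = y₁ + (Bf S (u ⋆ ((c * η) • a)) f + η * Bf S (u ⋆ (c • f)) a) • v := by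
    rw [hy₁, hDT, hTy (c • f), hTy (u ⋆ (c • f)), h.Bf_v, Bf_smul_left, Bf_smul_left, R.fv, R.fa, mulVec_sub,
      mulVec_add, h.2.1, show η * (c * 1) = c * η by ring]
    conv_lhs => rw [h.apply_a R (c * η)]
    match_scalars <;> ring
  rw [mulVec_sub, sub_eq_iff_eq_add] at hyd
  rw [hyd, e2]
  abel

omit S in
/-- without invariant families the action on the quotient is linear -/
theorem UE.linear {S : OData E Q M} (R : Fr S v a f) (h3 : finrank E (ι → F) = 3) (hZ : Zl S v R.vv = ⊥)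
    {u : GL ι F} (h : UE S v u) (p : E) : Bf S (u ⋆ (p • a)) f = p * Bf S (u ⋆ a) f := by
  have key : ∀ η c : E, Bf S (u ⋆ ((c * η) • a)) f + η * Bf S (u ⋆ (c • f)) a = 0 := by
    intro η
    let ξ : E → (E →ₗ[F] E) := fun η =>
      { toFun := fun c => Bf S (u ⋆ ((c * η) • a)) f + η * Bf S (u ⋆ (c • f)) a
        map_add' := fun c c' => by simp only [add_mul, add_smul, mulVec_add, Bf_add_left]; ring
        map_smul' := fun t c => by
          simp only [RingHom.id_apply, smul_mul_assoc, smul_assoc, mulVec_smul, Bf_fsmul_left, mul_smul_comm,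
            smul_add] }
    have h1 : ξ η ∈ Zl S v R.vv := fun t => by
      have e : t • ξ η = ξ (t • η) := LinearMap.ext fun c => by
        show t • (Bf S (u ⋆ ((c * η) • a)) f + η * Bf S (u ⋆ (c • f)) a) =
          Bf S (u ⋆ ((c * (t • η)) • a)) f + (t • η) * Bf S (u ⋆ (c • f)) a
        rw [mul_smul_comm, smul_assoc, mulVec_smul, Bf_fsmul_left, smul_mul_assoc, smul_add]
      rw [e]
      obtain ⟨D, hD, hDy⟩ := h.comm R h3 (t • η)
      exact ⟨D, hD, hDy⟩
    rw [hZ, Submodule.mem_bot] at h1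
    exact fun c => LinearMap.congr_fun h1 c
  have e1 := key p 1
  have e2 := key 1 1
  simp only [one_mul, one_smul] at e1 e2
  linear_combination e1 - p * e2

omit S in
/-- the automorphism of an element keeping a line -/
theorem stab_semi {S : OData E Q M} (R : Fr S v a f) (h3 : finrank E (ι → F) = 3) (hZ : Zl S v R.vv = ⊥)
    {m : GL ι F} (hm : m ∈ M) (hmv : ∀ p : E, m ⋆ (p • v) ∈ Submodule.span E ({v} : Set (ι → F))) :
    ∃ τ : E →ₐ[F] E, (∀ p : E, m ⋆ (p • v) = τ p • (m ⋆ v)) ∧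
      (∀ p : E, m ⋆ (p • a) - τ p • (m ⋆ a) ∈ Submodule.span E ({v} : Set (ι → F))) ∧
      (∀ w, Bf S w v = 0 → Bf S (m ⋆ w) v = 0 ∧ Bf S (m⁻¹ ⋆ w) v = 0) := by
  haveI := finite_E S
  choose φ hφ using fun p => Submodule.mem_span_singleton.1 (hmv p)
  have hv0 := R.v0
  have hφi : Function.Injective φ := fun p q h => smul_left_injective E hv0
    (Matrix.mulVec_injective_of_isUnit (Units.isUnit m) (show m ⋆ (p • v) = m ⋆ (q • v) by rw [← hφ, ← hφ, h]))
  have hφs := Finite.injective_iff_surjective.1 hφi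
  have hperp : ∀ w, Bf S w v = 0 → Bf S (m ⋆ w) v = 0 ∧ Bf S (m⁻¹ ⋆ w) v = 0 := by
    intro w hw
    refine ⟨tr_ext (F := F) fun q => ?_, tr_ext (F := F) fun q => ?_⟩
    · obtain ⟨p, rfl⟩ := hφs q
      rw [← pol_smul_right S, hφ, iso_pol (le_iso S hm), pol_smul_right S, hw, mul_zero, mul_zero]
    · rw [← pol_smul_right S, ← iso_pol (le_iso S hm), gl_mulVec_inv, ← hφ, pol_smul_right S, hw, mul_zero, mul_zero]
  have hinv : ∀ p : E, ∃ p' : E, m⁻¹ ⋆ (p • v) = p' • v := fun p => by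
    obtain ⟨p', rfl⟩ := hφs p
    exact ⟨p', by rw [hφ, gl_inv_mulVec]⟩
  let ψ : E →ₗ[F] E :=
    { toFun := fun p => Bf S (m ⋆ (p • a)) a / Bf S a a
      map_add' := fun p q => by simp only [add_smul, mulVec_add, Bf_add_left, add_div]
      map_smul' := fun t p => by
        rw [RingHom.id_apply, smul_assoc, mulVec_smul, Bf_fsmul_left, Algebra.smul_def, Algebra.smul_def, mul_div_assoc] }
  have hma : ∀ p : E, m ⋆ (p • a) = Bf S (m ⋆ (p • a)) f • v + ψ p • a := fun p =>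
    R.perp h3 (hperp _ (by rw [Bf_smul_left, R.av, mul_zero])).1
  have hψ0 : ψ 1 ≠ 0 := fun h => by
    obtain ⟨p, hp⟩ := hinv (Bf S (m ⋆ ((1 : E) • a)) f)
    have e := hma 1
    rw [h, zero_smul, add_zero] at e
    have e2 : (1 : E) • a = p • v := by rw [← hp, ← e, gl_inv_mulVec]
    have e3 := congrArg (fun z => Bf S z a) e2
    simp [Bf_smul_left, R.va] at e3
    exact R.aa e3
  have key : ∀ x p, φ (x * p) * ψ 1 = φ x * ψ p := by
    intro x p
    obtain ⟨η, hη⟩ : ∃ η, η = -x / Bf S a a := ⟨_, rfl⟩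
    obtain ⟨T, hT, hTa, hTy⟩ := R.exists_T η
    have hU : UE S v (m * T * m⁻¹) := by
      refine ⟨M.mul_mem (M.mul_mem hm hT) (M.inv_mem hm), fun q => ?_, fun w hw => ?_⟩
      · obtain ⟨q', hq'⟩ := hinv q
        rw [gl_mul_mulVec, gl_mul_mulVec, hq', hTa.fix_line R.vv (by rw [Bf_smul_left, R.av, mul_zero]), ← hq',
          gl_mulVec_inv]
      · rw [gl_mul_mulVec, gl_mul_mulVec, hTy, (hperp w hw).2, mul_zero, mul_zero, zero_smul, add_zero, add_zero,
          mulVec_sub, gl_mulVec_inv, ← hφ, sub_sub_cancel_left]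
        exact Submodule.neg_mem _ (Submodule.smul_mem _ _ (Submodule.mem_span_singleton_self v))
    have hX : ∀ p : E, ψ p * Bf S ((m * T * m⁻¹) ⋆ a) f = φ (x * p) := by
      intro p
      have e1 : (m * T * m⁻¹) ⋆ (m ⋆ (p • a)) = m ⋆ (p • a) + φ (x * p) • v := by
        rw [gl_mul_mulVec, gl_mul_mulVec, gl_inv_mulVec, hTy, Bf_smul_left, R.av, Bf_smul_left, hφ,
          ← mulVec_add]
        congr 1
        rw [hη]
        have := R.aa
        match_scalars <;> field_simp <;> ring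
      nth_rewrite 1 [hma p] at e1
      rw [mulVec_add, hU.2.1, hU.apply_a R, hU.linear R h3 hZ, hma p] at e1
      have e2 := congrArg (fun z => Bf S z f) e1
      simpa [Bf_add_left, Bf_smul_left, R.vf, R.af] using e2
    rw [← hX p, ← mul_one x, ← hX 1]
    ring_nf
  have hφ1 : φ 1 ≠ 0 := fun h => by
    have e := hφ 1
    rw [h, zero_smul, one_smul] at e
    exact hv0 (gl_mulVec_eq_zero.1 e.symm)
  have hmul : ∀ x p, ψ (x * p) / ψ 1 = (ψ x / ψ 1) * (ψ p / ψ 1) := by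
    intro x p
    have e1 := key 1 (x * p)
    have e2 := key 1 x
    have e3 := key x p
    rw [one_mul] at e1 e2
    field_simp
    apply mul_left_cancel₀ hφ1
    linear_combination -ψ 1 * e1 + ψ 1 * e3 + ψ p * e2
  let τ : E →ₐ[F] E := AlgHom.ofLinearMap ((LinearMap.mulRight F (ψ 1)⁻¹).comp ψ)
    (show ψ 1 * (ψ 1)⁻¹ = 1 from mul_inv_cancel₀ hψ0)
    (fun x p => by
      show ψ (x * p) * (ψ 1)⁻¹ = ψ x * (ψ 1)⁻¹ * (ψ p * (ψ 1)⁻¹)
      simpa [div_eq_mul_inv] using hmul x p)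
  have hτ : ∀ p, τ p = ψ p / ψ 1 := fun p => (div_eq_mul_inv _ _).symm
  refine ⟨τ, fun p => ?_, fun p => ?_, hperp⟩
  · have e := key 1 p
    rw [one_mul] at e
    rw [← hφ p, show m ⋆ v = φ 1 • v by rw [hφ, one_smul], smul_smul, hτ]
    congr 1
    field_simp
    linear_combination e
  · rw [hma p, show m ⋆ a = Bf S (m ⋆ a) f • v + ψ 1 • a by have := hma 1; rwa [one_smul] at this, smul_add, smul_smul,
      smul_smul, hτ, div_mul_cancel₀ _ hψ0, add_sub_add_right_eq_sub, ← sub_smul]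
    exact Submodule.smul_mem _ _ (Submodule.mem_span_singleton_self v)

end CfsgLib.Perm.Trans.OrthExt
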